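import Cfsg.Agent.Lib.PLocal.FF.Frozen
import Cfsg.Agent.Lib.PLocal.OmegaOne
import Cfsg.Agent.Lib.PLocal.PSolvable
import Cfsg.Agent.Lib.Solvable.HHThmB
import Cfsg.Agent.S0606
import Cfsg.Agent.S0608
import Mathlib.GroupTheory.SemidirectProduct

/-!
Failure of factorization for a `p`-separable group acting on a normal elementary abelian subgroup.
-/

set_option autoImplicit false
set_option linter.style.haveILetI false
set_option linter.unusedSectionVars false
set_option linter.unusedVariables false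
open scoped commutatorElement Pointwise

namespace Cfsg.Agent.FF

open Cfsg.Agent

universe u

variable {G : Type u} [Group G] [Finite G] {p : ℕ} [hp : Fact p.Prime]

/-- The action of `G / C_G(V)` on `V`. -/
def psi (V : Subgroup G) [V.Normal] : G ⧸ Subgroup.centralizer (V : Set G) →* MulAut V :=
  QuotientGroup.lift _ MulAut.conjNormal fun g hg => by
    rw [MonoidHom.mem_ker]
    ext v
    rw [MulAut.conjNormal_apply, MulAut.one_apply, ← Subgroup.mem_centralizer_iff.1 hg (v : G) v.2,
      mul_inv_cancel_right]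

/-- `V ⋊ G / C_G(V)`. -/
abbrev Semi (V : Subgroup G) [V.Normal] :=
  SemidirectProduct V (G ⧸ Subgroup.centralizer (V : Set G)) (psi V)

variable (V : Subgroup G) [V.Normal]

instance : Finite (Semi V) :=
  Finite.of_equiv _ SemidirectProduct.equivProd.symm

/-- `G → V ⋊ G / C_G(V)`. -/
def toSemi : G →* Semi V := SemidirectProduct.inr.comp (QuotientGroup.mk' _)

/-- `V → V ⋊ G / C_G(V)`. -/
def inV : V →* Semi V := SemidirectProduct.inl

theorem inV_injective : Function.Injective (inV V) := SemidirectProduct.inl_injective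

theorem toSemi_eq_one {g : G} : toSemi V g = 1 ↔ g ∈ Subgroup.centralizer (V : Set G) := by
  rw [toSemi, MonoidHom.comp_apply,
    show (1 : Semi V) = SemidirectProduct.inr 1 from (map_one _).symm,
    SemidirectProduct.inr_injective.eq_iff, QuotientGroup.mk'_apply, QuotientGroup.eq_one_iff]

theorem conj_inV (g : G) (v : V) :
    toSemi V g * inV V v * (toSemi V g)⁻¹ =
      inV V ⟨g * v * g⁻¹, ‹V.Normal›.conj_mem v v.2 g⟩ := by
  rw [toSemi, MonoidHom.comp_apply, inV, ← map_inv, ← SemidirectProduct.inl_aut]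
  congr 1

theorem commute_iff (g : G) (v : V) :
    toSemi V g * inV V v = inV V v * toSemi V g ↔ g * v = v * g := by
  rw [← mul_inv_eq_iff_eq_mul, conj_inV, (inV_injective V).eq_iff, Subtype.ext_iff]
  exact mul_inv_eq_iff_eq_mul

theorem card_image_mul (A : Subgroup G) :
    Nat.card (A.map (toSemi V)) *
      Nat.card (A ⊓ Subgroup.centralizer (V : Set G) : Subgroup G) = Nat.card A := by
  set f : A →* Semi V := (toSemi V).comp A.subtype with hf
  have hr : A.map (toSemi V) = f.range := by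
    rw [hf, MonoidHom.range_comp, Subgroup.range_subtype]
  have hk : f.ker = (A ⊓ Subgroup.centralizer (V : Set G)).subgroupOf A := by
    ext x
    rw [MonoidHom.mem_ker, hf, MonoidHom.comp_apply, toSemi_eq_one, Subgroup.mem_subgroupOf]
    exact ⟨fun h => ⟨x.2, h⟩, fun h => h.2⟩
  rw [hr, ← Subgroup.index_ker f, hk,
    ← Nat.card_congr (Subgroup.subgroupOfEquivOfLe (inf_le_left : A ⊓ _ ≤ A)).toEquiv, mul_comm]
  exact Subgroup.card_mul_index _

theorem fix_image (A : Subgroup G) :
    (inV V).range ⊓ Subgroup.centralizer ((A.map (toSemi V) : Subgroup (Semi V)) : Set (Semi V)) =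
      ((V ⊓ Subgroup.centralizer (A : Set G)).subgroupOf V).map (inV V) := by
  ext x
  constructor
  · rintro ⟨⟨v, rfl⟩, hx⟩
    refine ⟨v, ⟨v.2, Subgroup.mem_centralizer_iff.2 fun a ha => ?_⟩, rfl⟩
    exact (commute_iff V a v).1 (Subgroup.mem_centralizer_iff.1 hx _ ⟨a, ha, rfl⟩)
  · rintro ⟨v, hv, rfl⟩
    refine ⟨⟨v, rfl⟩, Subgroup.mem_centralizer_iff.2 ?_⟩
    rintro _ ⟨a, ha, rfl⟩
    exact (commute_iff V a v).2 (Subgroup.mem_centralizer_iff.1 hv.2 a ha)

theorem card_fix_image (A : Subgroup G) :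
    Nat.card ((inV V).range ⊓ Subgroup.centralizer ((A.map (toSemi V) : Subgroup (Semi V)) : Set (Semi V)) :
      Subgroup (Semi V)) = Nat.card (V ⊓ Subgroup.centralizer (A : Set G) : Subgroup G) := by
  rw [fix_image, Subgroup.card_map_of_injective (inV_injective V),
    Nat.card_congr (Subgroup.subgroupOfEquivOfLe inf_le_left).toEquiv]

theorem card_range_inV : Nat.card (inV V).range = Nat.card V :=
  (Nat.card_congr (MonoidHom.ofInjective (inV_injective V)).toEquiv).symm

/-- The setting inside `V ⋊ G / C_G(V)` attached to a normal subgroup of the quotient. -/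
theorem setting_semi (hsep : Cfsg.IsPSolvable p G) (hV : Cfsg.IsElementaryAbelian p V)
    (hO : Cfsg.pCore p (G ⧸ Subgroup.centralizer (V : Set G)) = ⊥)
    (N : Subgroup (G ⧸ Subgroup.centralizer (V : Set G))) [N.Normal] :
    Setting p (inV V).range (N.map (SemidirectProduct.inr : _ →* Semi V))
      (((Cfsg.pPrimeCore p ↥N).map N.subtype).map (SemidirectProduct.inr : _ →* Semi V)) := by
  set ι : (G ⧸ Subgroup.centralizer (V : Set G)) →* Semi V := SemidirectProduct.inr with hι
  have hιi : Function.Injective ι := SemidirectProduct.inr_injective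
  haveI hchar := PBasic.pPrimeCore_characteristic p ↥N
  haveI hKn : ((Cfsg.pPrimeCore p ↥N).map N.subtype).Normal := inferInstance
  have hOp : Cfsg.pCore p ↥N = ⊥ := by
    have h := PBasic.map_pCore_le_of_normal (p := p) N
    rw [hO, le_bot_iff] at h
    exact (Subgroup.map_eq_bot_iff_of_injective _ N.subtype_injective).1 h
  have hself := HHThmB.centralizer_pPrimeCore_le
    (PSolvable.subgroup N (PSolvable.quotient _ hsep)) hOp
  refine ⟨?_, ?_, ?_, Subgroup.map_mono (Subgroup.map_subtype_le _), ?_, ?_, ?_⟩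
  · rw [MonoidHom.range_eq_map]
    refine Thompson.isElementaryAbelian_map _ ⟨?_, ?_⟩
    · exact ⟨⟨fun a b => Subtype.ext (hV.1.is_comm.comm a.1 b.1)⟩⟩
    · exact fun a _ => Subtype.ext (by rw [Subgroup.coe_pow]; exact hV.2 a a.2)
  · rintro _ ⟨x, -, rfl⟩
    obtain ⟨g, rfl⟩ := QuotientGroup.mk'_surjective _ x
    rw [Subgroup.mem_normalizer_iff_map_conj_eq]
    refine Subgroup.eq_of_le_of_card_ge ?_ (Subgroup.card_map_of_injective (MulAut.conj _).injective).ge
    rintro _ ⟨_, ⟨v, rfl⟩, rfl⟩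
    exact ⟨⟨g * v * g⁻¹, ‹V.Normal›.conj_mem v v.2 g⟩, (conj_inV V g v).symm⟩
  · rw [eq_bot_iff]
    rintro _ ⟨⟨x, hx, rfl⟩, hc⟩
    obtain ⟨g, rfl⟩ := QuotientGroup.mk'_surjective _ x
    have h1 : g ∈ Subgroup.centralizer (V : Set G) := Subgroup.mem_centralizer_iff.2 fun v hv =>
      ((commute_iff V g ⟨v, hv⟩).1 (Subgroup.mem_centralizer_iff.1 hc _ ⟨⟨v, hv⟩, rfl⟩).symm).symm
    exact Subgroup.mem_bot.2 ((toSemi_eq_one V).2 h1)
  · rintro _ ⟨x, -, rfl⟩
    rw [Subgroup.mem_normalizer_iff_map_conj_eq]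
    refine Subgroup.eq_of_le_of_card_ge ?_ (Subgroup.card_map_of_injective (MulAut.conj _).injective).ge
    rintro _ ⟨_, ⟨k, hk, rfl⟩, rfl⟩
    exact ⟨x * k * x⁻¹, hKn.conj_mem k hk x, by simp⟩
  · rw [Subgroup.card_map_of_injective hιi, Subgroup.card_map_of_injective N.subtype_injective]
    exact PBasic.pPrimeCore_coprime p ↥N
  · rintro _ ⟨⟨x, hx, rfl⟩, hc⟩
    refine ⟨x, ⟨⟨x, hx⟩, hself (Subgroup.mem_centralizer_iff.2 fun k hk => Subtype.ext ?_), rfl⟩, rfl⟩
    apply hιi
    rw [Subgroup.coe_mul, Subgroup.coe_mul, map_mul, map_mul]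
    exact Subgroup.mem_centralizer_iff.1 hc _ ⟨_, ⟨k, hk, rfl⟩, rfl⟩

theorem isElementaryAbelian_image {A : Subgroup G} (hA : Cfsg.IsElementaryAbelian p A) :
    Cfsg.IsElementaryAbelian p (A.map (toSemi V)) := Thompson.isElementaryAbelian_map _ hA

/-- The main inequality in `G`. -/
theorem card_le_of_psolvable (hsep : Cfsg.IsPSolvable p G) (hV : Cfsg.IsElementaryAbelian p V)
    (hO : Cfsg.pCore p (G ⧸ Subgroup.centralizer (V : Set G)) = ⊥) {A : Subgroup G}
    (hA : Cfsg.IsElementaryAbelian p A) :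
    Nat.card A * Nat.card (V ⊓ Subgroup.centralizer (A : Set G) : Subgroup G) ≤
      Nat.card V * Nat.card (A ⊓ Subgroup.centralizer (V : Set G) : Subgroup G) := by
  have S := setting_semi V hsep hV hO ⊤
  have h := card_le S (A := A.map (toSemi V)) (by
    rw [← MonoidHom.range_eq_map]
    rintro _ ⟨a, -, rfl⟩
    exact ⟨_, rfl⟩) (isElementaryAbelian_image V hA)
  rw [card_fix_image, card_range_inV] at h
  rw [← card_image_mul V A, mul_right_comm]
  exact Nat.mul_le_mul_right _ h

/-- For `A` of largest order, `V (A ∩ C(V))` is again of largest order. -/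
theorem max_in_centralizer (hsep : Cfsg.IsPSolvable p G) (hV : Cfsg.IsElementaryAbelian p V)
    (hO : Cfsg.pCore p (G ⧸ Subgroup.centralizer (V : Set G)) = ⊥) {A : Subgroup G}
    (hA : Thompson.IsMaxEAIn p ⊤ A) :
    Thompson.IsMaxEAIn p (Subgroup.centralizer (V : Set G))
      (V ⊔ (A ⊓ Subgroup.centralizer (V : Set G))) := by
  set C := Subgroup.centralizer (V : Set G) with hC
  set D := A ⊓ C with hD
  have hDV : D ≤ Subgroup.centralizer (V : Set G) := inf_le_right
  have hDe := Thompson.isElementaryAbelian_mono (inf_le_left : D ≤ A) hA.2.1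
  have hc : ∀ a ∈ V ⊔ D, ∀ b ∈ V ⊔ D, a * b = b * a := by
    have h : IsMulCommutative (Subgroup.closure ((V : Set G) ∪ (D : Set G))) := by
      refine Subgroup.isMulCommutative_closure ?_
      rintro a (ha | ha) b (hb | hb)
      · exact Thompson.commute_of_isElementaryAbelian hV ha hb
      · exact Subgroup.mem_centralizer_iff.1 (hDV hb) a ha
      · exact (Subgroup.mem_centralizer_iff.1 (hDV ha) b hb).symm
      · exact Thompson.commute_of_isElementaryAbelian hDe ha hb
    rw [Subgroup.closure_union, Subgroup.closure_eq, Subgroup.closure_eq] at h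
    exact fun a ha b hb => congrArg Subtype.val (h.is_comm.comm ⟨a, ha⟩ ⟨b, hb⟩)
  have hEe : Cfsg.IsElementaryAbelian p (V ⊔ D) := by
    refine ⟨⟨⟨fun a b => Subtype.ext (hc a a.2 b b.2)⟩⟩, fun x hx => ?_⟩
    have hle : V ⊔ D ≤ Cfsg.omegaOne p (V ⊔ D) := sup_le
      (fun a ha => OmegaOne.mem (Subgroup.mem_sup_left ha) (hV.2 a ha))
      (fun a ha => OmegaOne.mem (Subgroup.mem_sup_right ha) (hDe.2 a ha))
    exact OmegaOne.pow_eq_one hc (hle hx)
  have hVC : V ≤ C := fun v hv => Subgroup.mem_centralizer_iff.2 fun w hw =>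
    Thompson.commute_of_isElementaryAbelian hV hw hv
  refine ⟨sup_le hVC inf_le_right, hEe, fun B hB hBe => ?_⟩
  refine (hA.2.2 B le_top hBe).trans ?_
  have h1 := card_sup_mul_inf hEe (le_sup_left : V ≤ V ⊔ D) (le_sup_right : D ≤ V ⊔ D)
  have h2 : Nat.card (V ⊓ D : Subgroup G) ≤ Nat.card (V ⊓ Subgroup.centralizer (A : Set G) : Subgroup G) :=
    Subgroup.card_le_of_le fun x hx => ⟨hx.1, le_centralizer_of_ea hA.2.1 le_rfl hx.2.1⟩
  have h3 := card_le_of_psolvable V hsep hV hO hA.2.1
  refine Nat.le_of_mul_le_mul_right (h3.trans ?_) Nat.card_pos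
  calc Nat.card V * Nat.card D = Nat.card (V ⊔ D : Subgroup G) * Nat.card (V ⊓ D : Subgroup G) := h1.symm
    _ ≤ _ := Nat.mul_le_mul_left _ h2

/-- `[Ω₁(Z(J(C))), J(G)] ≤ V`. -/
theorem commutator_omega_le (hsep : Cfsg.IsPSolvable p G) (hV : Cfsg.IsElementaryAbelian p V)
    (hO : Cfsg.pCore p (G ⧸ Subgroup.centralizer (V : Set G)) = ⊥) :
    ⁅Cfsg.omegaOne p (Cfsg.centerThompsonOf p (Subgroup.centralizer (V : Set G))),
      Cfsg.thompsonSubgroup p G⁆ ≤ V := by
  set C := Subgroup.centralizer (V : Set G) with hC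
  set Z := Cfsg.omegaOne p (Cfsg.centerThompsonOf p C) with hZ
  set f := QuotientGroup.mk' V with hf
  have hZab : ∀ a ∈ Cfsg.centerThompsonOf p C, ∀ b ∈ Cfsg.centerThompsonOf p C, a * b = b * a :=
    fun a ha b hb => Subgroup.mem_centralizer_iff.1 hb.2 a ha.1
  have key : ∀ A : Subgroup G, Thompson.IsMaxEAIn p ⊤ A → ∀ a ∈ A, ∀ z ∈ Z, ⁅z, a⁆ ∈ V := by
    intro A hA a ha z hz
    have hmax := max_in_centralizer V hsep hV hO hA
    have hzc := OmegaOne.le p _ hz
    have hzA := OmegaOne.mem_of_centralizes hmax (Thompson.thompsonSubgroupOf_le p C hzc.1) hzc.2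
      (OmegaOne.pow_eq_one hZab hz)
    have hmem : z ∈ (V : Set G) * ((A ⊓ C : Subgroup G) : Set G) := by
      rw [← Subgroup.coe_mul_of_right_le_normalizer_left V (A ⊓ C) Subgroup.le_normalizer_of_normal]
      exact hzA
    obtain ⟨v, hv, d, hd, rfl⟩ := Set.mem_mul.1 hmem
    have hda : d * a = a * d := Thompson.commute_of_isElementaryAbelian hA.2.1 hd.1 ha
    have e : ⁅v * d, a⁆ = v * (a * v⁻¹ * a⁻¹) := by
      calc ⁅v * d, a⁆ = v * (d * a) * d⁻¹ * v⁻¹ * a⁻¹ := by rw [commutatorElement_def]; group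
        _ = v * (a * v⁻¹ * a⁻¹) := by rw [hda]; group
    rw [e]
    exact mul_mem hv (‹V.Normal›.conj_mem _ (inv_mem hv) a)
  rw [Subgroup.commutator_le]
  intro z hz j hj
  have hle : Cfsg.thompsonSubgroup p G ≤ (Subgroup.centralizer ({f z} : Set (G ⧸ V))).comap f := by
    refine sSup_le fun A hA a ha => ?_
    rw [Subgroup.mem_comap, Subgroup.mem_centralizer_singleton_iff]
    have h : f ⁅z, a⁆ = 1 :=
      (QuotientGroup.eq_one_iff _).2 (key A (Thompson.isMaxEAIn_top_iff.2 hA) a ha z hz)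
    rw [map_commutatorElement, commutatorElement_eq_one_iff_mul_comm] at h
    exact h.symm
  have h := Subgroup.mem_centralizer_singleton_iff.1 (hle hj)
  rw [← QuotientGroup.eq_one_iff, ← QuotientGroup.mk'_apply, ← hf, map_commutatorElement,
    commutatorElement_eq_one_iff_mul_comm]
  exact h.symm

variable (p)

/-- `⟨Ω₁(Z(S)) : S⟩`. -/
abbrev zClosure (G : Type u) [Group G] : Subgroup G :=
  ⨆ S : Sylow p G, Cfsg.omegaOne p ((S : Subgroup G) ⊓ Subgroup.centralizer ((S : Subgroup G) : Set G))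

variable {p}

instance zClosure_normal : (zClosure p G).Normal := S0608.normal_iSup

theorem zClosure_ea (hsep : Cfsg.IsPSolvable p G) (hO : Cfsg.pPrimeCore p G = ⊥) :
    Cfsg.IsElementaryAbelian p (zClosure p G) := by
  set Q := Cfsg.pCore p G with hQ
  set C := Q ⊓ Subgroup.centralizer (Q : Set G) with hC
  have hCab : ∀ a ∈ C, ∀ b ∈ C, a * b = b * a := fun a ha b hb =>
    Subgroup.mem_centralizer_iff.1 hb.2 a ha.1
  have hle : zClosure p G ≤ Cfsg.omegaOne p C := by
    refine iSup_le fun S => (Subgroup.closure_le _).2 fun x hx => OmegaOne.mem ?_ hx.2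
    have hc : x ∈ Subgroup.centralizer (Q : Set G) := Subgroup.mem_centralizer_iff.2 fun q hq =>
      Subgroup.mem_centralizer_iff.1 hx.1.2 q (PBasic.pCore_le_sylow S hq)
    exact ⟨PSolvable.centralizer_pCore_le hsep hO hc, hc⟩
  refine ⟨⟨⟨fun a b => Subtype.ext (hCab a (OmegaOne.le p C (hle a.2)) b (OmegaOne.le p C (hle b.2)))⟩⟩,
    fun a ha => OmegaOne.pow_eq_one hCab (hle ha)⟩

theorem pCore_quotient_zClosure :
    Cfsg.pCore p (G ⧸ Subgroup.centralizer (zClosure p G : Set G)) = ⊥ := by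
  set C := Subgroup.centralizer (zClosure p G : Set G) with hC
  set f := QuotientGroup.mk' C with hf
  set P := Cfsg.pCore p (G ⧸ C) with hP
  haveI : P.Normal := FittingCores.pCore_normal p
  set X := P.comap f with hX
  haveI : X.Normal := ‹P.Normal›.comap f
  suffices h : X ≤ C by
    rw [← Subgroup.map_comap_eq_self_of_surjective (QuotientGroup.mk'_surjective C) P,
      Subgroup.map_eq_bot_iff, QuotientGroup.ker_mk']
    exact h
  have hsub : ∀ S : Sylow p G, X ≤ Subgroup.centralizer
      ((Cfsg.omegaOne p ((S : Subgroup G) ⊓ Subgroup.centralizer ((S : Subgroup G) : Set G)) : Subgroup G) : Set G) := by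
    intro S
    obtain ⟨R, hR⟩ := PBasic.exists_sylow_subgroupOf S X
    have hfX : Function.Surjective (f.subgroupComap P) :=
      MonoidHom.subgroupComap_surjective_of_surjective f P (QuotientGroup.mk'_surjective C)
    have htop : ((R.mapSurjective hfX : Sylow p P) : Subgroup P) = ⊤ :=
      ((R.mapSurjective hfX).is_maximal' ((PBasic.pCore_isPGroup p (G ⧸ C)).to_subgroup ⊤) le_top).symm
    rw [Sylow.coe_mapSurjective] at htop
    intro x hx
    obtain ⟨r, hr, hrx⟩ := htop.ge (Subgroup.mem_top (f.subgroupComap P ⟨x, hx⟩))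
    have hrS : (r : G) ∈ (S : Subgroup G) := by
      have : r ∈ (R : Subgroup X) := hr
      rw [hR] at this; exact this
    have hcx : (r : G)⁻¹ * x ∈ C := QuotientGroup.eq.1 (congrArg Subtype.val hrx)
    rw [show x = (r : G) * ((r : G)⁻¹ * x) by group]
    refine mul_mem ?_ (Subgroup.centralizer_le (le_iSup (fun S : Sylow p G => Cfsg.omegaOne p
      ((S : Subgroup G) ⊓ Subgroup.centralizer ((S : Subgroup G) : Set G))) S) hcx)
    exact (OmegaOne.le_centralizer_center p (S : Subgroup G) |> Subgroup.le_centralizer_iff.1) hrS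
  intro x hx
  rw [hC, Subgroup.mem_centralizer_iff]
  intro v hv
  have hle : zClosure p G ≤ Subgroup.centralizer ({x} : Set G) := iSup_le fun S z hz =>
    Subgroup.mem_centralizer_singleton_iff.2 (Subgroup.mem_centralizer_iff.1 (hsub S hx) z hz)
  exact Subgroup.mem_centralizer_singleton_iff.1 (hle hv)

/-- The image of an elementary abelian subgroup of largest order is an offender. -/
theorem off_image (hsep : Cfsg.IsPSolvable p G) (hV : Cfsg.IsElementaryAbelian p V)
    (hO : Cfsg.pCore p (G ⧸ Subgroup.centralizer (V : Set G)) = ⊥)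
    (N : Subgroup (G ⧸ Subgroup.centralizer (V : Set G))) [N.Normal] {A : Subgroup G}
    (hA : Thompson.IsMaxEAIn p ⊤ A) (hAN : A.map (QuotientGroup.mk' _) ≤ N) :
    Off p (inV V).range (N.map (SemidirectProduct.inr : _ →* Semi V)) (A.map (toSemi V)) := by
  refine ⟨?_, isElementaryAbelian_image V hA.2.1, ?_⟩
  · rintro _ ⟨a, ha, rfl⟩
    exact ⟨_, hAN ⟨a, ha, rfl⟩, rfl⟩
  rw [card_fix_image, card_range_inV]
  refine Nat.eq_of_mul_eq_mul_right
    (Nat.card_pos (α := (A ⊓ Subgroup.centralizer (V : Set G) : Subgroup G))) ?_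
  rw [mul_right_comm, card_image_mul]
  refine le_antisymm (card_le_of_psolvable V hsep hV hO hA.2.1) ?_
  have h := (S0606.result V hV A (Thompson.isMaxEAIn_top_iff.1 hA)).1
    (A ⊓ Subgroup.centralizer (V : Set G)) inf_le_left
  rw [inf_eq_left.2 (Subgroup.le_centralizer_iff.1
    (inf_le_right : A ⊓ Subgroup.centralizer (V : Set G) ≤ _)), mul_comm] at h
  exact h

/-- **Failure of factorization.** -/
theorem failure (hsep : Cfsg.IsPSolvable p G) (hO : Cfsg.pPrimeCore p G = ⊥)
    (hnf : ¬ Cfsg.IsThompsonFactorizable p G) :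
    (p = 2 ∨ p = 3) ∧ ∃ E : Subgroup G, Subgroup.centralizer (zClosure p G : Set G) ≤ E ∧
      E ≤ Cfsg.thompsonSubgroup p G ⊔ Subgroup.centralizer (zClosure p G : Set G) ∧
      Cfsg.thompsonSubgroup p G ⊔ Subgroup.centralizer (zClosure p G : Set G) ≤
        Subgroup.normalizer (E : Set G) ∧
      ∃ hn : ((Subgroup.centralizer (zClosure p G : Set G)).subgroupOf E).Normal,
        Nonempty ((↥E ⧸ (Subgroup.centralizer (zClosure p G : Set G)).subgroupOf E) ≃*
          Matrix.SpecialLinearGroup (Fin 2) (ZMod p)) := by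
  classical
  rw [S0608.result hO] at hnf
  set W := zClosure p G with hW
  set C := Subgroup.centralizer (W : Set G) with hC
  have hWe := zClosure_ea hsep hO
  have hOq : Cfsg.pCore p (G ⧸ C) = ⊥ := pCore_quotient_zClosure
  haveI : (Cfsg.thompsonSubgroup p G).Normal := by
    haveI := Thompson.thompsonSubgroup_characteristic p G
    infer_instance
  set N := (Cfsg.thompsonSubgroup p G).map (QuotientGroup.mk' C) with hN
  haveI : N.Normal := Subgroup.Normal.map inferInstance _ (QuotientGroup.mk'_surjective C)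
  have S := setting_semi W hsep hWe hOq N
  set H := N.map (SemidirectProduct.inr : _ →* Semi W) with hH
  set K := ((Cfsg.pPrimeCore p ↥N).map N.subtype).map (SemidirectProduct.inr : _ →* Semi W) with hK
  have hHmap : H = (Cfsg.thompsonSubgroup p G).map (toSemi W) := by
    rw [hH, hN, Subgroup.map_map]; rfl
  have hgen : H = Subgroup.closure {t | Tv p (inV W).range H t} := by
    refine le_antisymm ?_ ((Subgroup.closure_le _).2 fun t ht => Tv.mem ht)
    rw [show H ≤ _ ↔ (Cfsg.thompsonSubgroup p G).map (toSemi W) ≤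
      Subgroup.closure {t | Tv p (inV W).range H t} by rw [← hHmap]]
    rw [Cfsg.thompsonSubgroup, sSup_eq_iSup', Subgroup.map_iSup]
    refine iSup_le fun A => ?_
    have hoff := off_image W hsep hWe hOq N (Thompson.isMaxEAIn_top_iff.2 A.2)
      (Subgroup.map_mono (le_sSup A.2))
    rw [Off.eq_closure S hoff]
    exact Subgroup.closure_mono fun t ht => ht.2
  obtain ⟨a, ha⟩ : ∃ a, Tv p (inV W).range H a := by
    by_contra h
    push Not at h
    apply hnf
    intro j hj
    rw [← toSemi_eq_one W]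
    have hmem : toSemi W j ∈ H := hHmap ▸ ⟨j, hj, rfl⟩
    rw [hgen, show {t | Tv p (inV W).range H t} = ∅ from Set.eq_empty_iff_forall_notMem.2 h,
      Subgroup.closure_empty, Subgroup.mem_bot] at hmem
    exact hmem
  refine ⟨eq_two_or_three S ha, (comp K a).comap (toSemi W), ?_, ?_, ?_, ?_⟩
  · intro c hc
    rw [Subgroup.mem_comap, (toSemi_eq_one W).2 hc]
    exact one_mem _
  · intro e he
    obtain ⟨j, hj, hje⟩ := (hHmap ▸ comp_le S ha he : toSemi W e ∈ (Cfsg.thompsonSubgroup p G).map (toSemi W))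
    rw [show e = j * (j⁻¹ * e) by group]
    refine mul_mem (Subgroup.mem_sup_left hj) (Subgroup.mem_sup_right ?_)
    rw [← toSemi_eq_one W, map_mul, map_inv, hje, inv_mul_cancel]
  · intro x hx
    have hxH : toSemi W x ∈ H := by
      have h := Subgroup.mem_map_of_mem (toSemi W) hx
      rw [Subgroup.map_sup, ← hHmap] at h
      refine (sup_le le_rfl ?_ : H ⊔ C.map (toSemi W) ≤ H) h
      rintro _ ⟨c, hc, rfl⟩
      rw [(toSemi_eq_one W).2 hc]; exact one_mem _
    have hn := (factor S hgen ha).2.2.2.2.2 hxH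
    rw [Subgroup.mem_normalizer_iff] at hn ⊢
    intro y
    rw [Subgroup.mem_comap, Subgroup.mem_comap, map_mul, map_mul, map_inv]
    exact hn _
  · set E := (comp K a).comap (toSemi W) with hE
    haveI hn : (C.subgroupOf E).Normal := inferInstance
    refine ⟨hn, ?_⟩
    obtain ⟨e⟩ := comp_equiv S ha
    set φ : E →* comp K a := ((toSemi W).comp E.subtype).codRestrict (comp K a) fun x => x.2 with hφ
    have hker : φ.ker = C.subgroupOf E := by
      ext x
      rw [MonoidHom.mem_ker, Subgroup.mem_subgroupOf, ← toSemi_eq_one W, hφ, Subtype.ext_iff]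
      rfl
    have hsurj : Function.Surjective φ := by
      rintro ⟨y, hy⟩
      obtain ⟨j, -, hj⟩ := (hHmap ▸ comp_le S ha hy : y ∈ (Cfsg.thompsonSubgroup p G).map (toSemi W))
      exact ⟨⟨j, by rw [hE, Subgroup.mem_comap, hj]; exact hy⟩, Subtype.ext hj⟩
    exact ⟨((QuotientGroup.quotientMulEquivOfEq hker.symm).trans
      (QuotientGroup.quotientKerEquivOfSurjective φ hsurj)).trans e⟩

end Cfsg.Agent.FF
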