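import Cfsg.Prelude.Def_PLocal
import Cfsg.Prelude.Def_Solvable
import Cfsg.Prelude.Def_Transfer
import Cfsg.Agent.Lib.PLocal.Thompson
import Cfsg.Agent.Lib.Solvable.Coprime
import Cfsg.Agent.Lib.Solvable.Basic
import Cfsg.Agent.S0028

/-!
Failure of factorization: offenders on a faithful module of a group with self-centralizing
normal subgroup of order prime to `p`.
-/

set_option autoImplicit false
set_option linter.style.haveILetI false
set_option linter.unusedSectionVars false
set_option linter.unusedVariables false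
open scoped commutatorElement

namespace Cfsg.Agent.FF

open Cfsg.Agent

variable {G : Type*} [Group G] [Finite G] {p : ℕ} [hp : Fact p.Prime]

/-- `H` acts faithfully on the elementary abelian `p`-group `V` and has a normal subgroup `K` of
order prime to `p` containing its centralizer. -/
structure Setting (p : ℕ) (V H K : Subgroup G) : Prop where
  hV : Cfsg.IsElementaryAbelian p V
  hnorm : H ≤ Subgroup.normalizer (V : Set G)
  hfaith : H ⊓ Subgroup.centralizer (V : Set G) = ⊥
  hKH : K ≤ H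
  hKn : H ≤ Subgroup.normalizer (K : Set G)
  hcop : (Nat.card K).Coprime p
  hself : H ⊓ Subgroup.centralizer (K : Set G) ≤ K

/-- An offender: elementary abelian, with `|A| |C_V(A)| = |V|`. -/
def Off (p : ℕ) (V H A : Subgroup G) : Prop :=
  A ≤ H ∧ Cfsg.IsElementaryAbelian p A ∧
    Nat.card A * Nat.card (V ⊓ Subgroup.centralizer (A : Set G) : Subgroup G) = Nat.card V

variable {V H K : Subgroup G}

namespace Setting

theorem comm (S : Setting p V H K) {u v : G} (hu : u ∈ V) (hv : v ∈ V) : u * v = v * u :=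
  Thompson.commute_of_isElementaryAbelian S.hV hu hv

theorem conj_mem (S : Setting p V H K) {h v : G} (hh : h ∈ H) (hv : v ∈ V) : h * v * h⁻¹ ∈ V :=
  (Subgroup.mem_normalizer_iff.1 (S.hnorm hh) v).1 hv

theorem conjK_mem (S : Setting p V H K) {h k : G} (hh : h ∈ H) (hk : k ∈ K) : h * k * h⁻¹ ∈ K :=
  (Subgroup.mem_normalizer_iff.1 (S.hKn hh) k).1 hk

theorem eq_one_of_fix (S : Setting p V H K) {h : G} (hh : h ∈ H)
    (h1 : ∀ v ∈ V, h * v * h⁻¹ = v) : h = 1 := by
  have : h ∈ H ⊓ Subgroup.centralizer (V : Set G) := ⟨hh, Subgroup.mem_centralizer_iff.2 fun v hv => by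
    conv_lhs => rw [← h1 v hv]
    group⟩
  rwa [S.hfaith, Subgroup.mem_bot] at this

theorem eq_one_of_pow (S : Setting p V H K) {k : G} (hk : k ∈ K) (h : k ^ p = 1) : k = 1 := by
  have h1 : orderOf k ∣ p := orderOf_dvd_of_pow_eq_one h
  have h2 : orderOf k ∣ Nat.card K := by
    rw [show orderOf k = orderOf (⟨k, hk⟩ : K) from (Subgroup.orderOf_coe ⟨k, hk⟩)]
    exact orderOf_dvd_natCard _
  exact orderOf_eq_one_iff.1 (Nat.eq_one_of_dvd_coprimes S.hcop h2 h1)

theorem centralizerK (S : Setting p V H K) {a : G} (ha : a ∈ H) (hp' : a ^ p = 1)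
    (hc : ∀ k ∈ K, a * k = k * a) : a = 1 := by
  refine S.eq_one_of_pow (S.hself ⟨ha, Subgroup.mem_centralizer_iff.2 fun k hk => (hc k hk).symm⟩) hp'

end Setting

omit hp in
theorem le_centralizer_of_ea {A B : Subgroup G} (hA : Cfsg.IsElementaryAbelian p A) (hB : B ≤ A) :
    A ≤ Subgroup.centralizer (B : Set G) := fun x hx => Subgroup.mem_centralizer_iff.2 fun y hy =>
  Thompson.commute_of_isElementaryAbelian hA (hB hy) hx

theorem card_sup_mul_inf {A X Y : Subgroup G} (hA : Cfsg.IsElementaryAbelian p A) (hX : X ≤ A) (hY : Y ≤ A) :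
    Nat.card (X ⊔ Y : Subgroup G) * Nat.card (X ⊓ Y : Subgroup G) = Nat.card X * Nat.card Y :=
  SolvBasic.card_sup_mul_card_inf ((hY.trans (le_centralizer_of_ea hA hX)).trans
    (Subgroup.centralizer_le_normalizer _))

theorem card_zpowers_prime {a : G} (ha : a ^ p = 1) (ha1 : a ≠ 1) :
    Nat.card (Subgroup.zpowers a) = p := by
  rw [Nat.card_zpowers]; exact orderOf_eq_prime ha ha1

theorem inf_zpowers_eq_bot {a : G} (ha : a ^ p = 1) {D : Subgroup G} (haD : a ∉ D) :
    D ⊓ Subgroup.zpowers a = ⊥ := by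
  have hz := card_zpowers_prime ha (fun h => haD (h ▸ one_mem D))
  have hd : Nat.card (D ⊓ Subgroup.zpowers a : Subgroup G) ∣ p :=
    hz ▸ Subgroup.card_dvd_of_le inf_le_right
  rcases (Nat.dvd_prime hp.out).1 hd with h1 | h1
  · exact Subgroup.card_eq_one.1 h1
  · have := Subgroup.eq_of_le_of_card_ge (inf_le_right : D ⊓ Subgroup.zpowers a ≤ _) (by rw [h1, hz])
    exact absurd (inf_eq_right.1 this (Subgroup.mem_zpowers a)) haD

theorem card_sup_zpowers {A D : Subgroup G} (hA : Cfsg.IsElementaryAbelian p A) (hD : D ≤ A) {a : G}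
    (ha : a ∈ A) (haD : a ∉ D) : Nat.card (D ⊔ Subgroup.zpowers a : Subgroup G) = p * Nat.card D := by
  have h := card_sup_mul_inf hA hD (Subgroup.zpowers_le.2 ha)
  rw [inf_zpowers_eq_bot (hA.2 a ha) haD, Subgroup.card_bot, mul_one,
    card_zpowers_prime (hA.2 a ha) (fun h => haD (h ▸ one_mem D))] at h
  rw [h, mul_comm]

/-- A hyperplane of `A` whose fixed points on `K` are not all centralized by `A`. -/
theorem exists_good_aux (S : Setting p V H K) {A : Subgroup G} (hA : A ≤ H)
    (hAe : Cfsg.IsElementaryAbelian p A) {e : G} (he : e ∈ A) : ∀ (n : ℕ) (D : Subgroup G), D ≤ A →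
    Nat.card A - Nat.card D ≤ n → ¬ K ⊓ Subgroup.centralizer (D : Set G) ≤ Subgroup.centralizer ({e} : Set G) →
    ∃ B : Subgroup G, B ≤ A ∧ Nat.card A = p * Nat.card B ∧
      ¬ K ⊓ Subgroup.centralizer (B : Set G) ≤ Subgroup.centralizer ({e} : Set G) := by
  intro n
  induction n with
  | zero =>
    intro D hD hn hne
    have hDA := Subgroup.eq_of_le_of_card_ge hD (by omega)
    exact absurd (inf_le_right.trans (Subgroup.centralizer_le (Set.singleton_subset_iff.2 (hDA.symm ▸ he)))) hne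
  | succ n ih =>
    intro D hD hn hne
    by_cases heq : Nat.card A = p * Nat.card D
    · exact ⟨D, hD, heq, hne⟩
    haveI := hAe.1
    have hDA : D ≠ A := fun h => hne (inf_le_right.trans
      (Subgroup.centralizer_le (Set.singleton_subset_iff.2 (h.symm ▸ he))))
    obtain ⟨a, haA, haD⟩ := SetLike.exists_of_lt (lt_of_le_of_ne hD hDA)
    have hcard1 := card_sup_zpowers hAe hD haA haD
    set D1 := D ⊔ Subgroup.zpowers a with hD1
    have hD1A : D1 ≤ A := sup_le hD (Subgroup.zpowers_le.2 haA)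
    obtain ⟨b, hbA, hbD1⟩ := SetLike.exists_of_lt (lt_of_le_of_ne hD1A fun h => heq (h ▸ hcard1))
    -- a complementary plane
    set P := Subgroup.zpowers a ⊔ Subgroup.zpowers b with hP
    have hPA : P ≤ A := sup_le (Subgroup.zpowers_le.2 haA) (Subgroup.zpowers_le.2 hbA)
    have ha1 : a ≠ 1 := fun h => haD (h ▸ one_mem D)
    have hPcard : Nat.card P = p * p := by
      rw [hP, card_sup_zpowers hAe (Subgroup.zpowers_le.2 haA) hbA fun h => hbD1 (Subgroup.mem_sup_right h),
        card_zpowers_prime (hAe.2 a haA) ha1]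
    have hDP : D ⊓ P = ⊥ := by
      have h := card_sup_mul_inf hAe hD hPA
      rw [hP, ← sup_assoc, card_sup_zpowers hAe hD1A hbA hbD1, hcard1, ← hP, hPcard] at h
      refine Subgroup.card_eq_one.1 (Nat.eq_of_mul_eq_mul_left
        (Nat.mul_pos hp.out.pos (Nat.mul_pos hp.out.pos (Nat.card_pos (α := D)))) (h.trans (by ring)))
    haveI : IsMulCommutative P :=
      ⟨⟨fun x y => Subtype.ext (Thompson.commute_of_isElementaryAbelian hAe (hPA x.2) (hPA y.2))⟩⟩
    have hPnc : ¬ IsCyclic P := by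
      intro hc
      obtain ⟨g, hg⟩ := hc.exists_generator
      have h1 := orderOf_eq_card_of_forall_mem_zpowers hg
      have h2 : orderOf g ∣ p := orderOf_dvd_of_pow_eq_one (Subtype.ext (by
        rw [Subgroup.coe_pow]; exact hAe.2 g (hPA g.2)))
      rw [h1, hPcard] at h2
      have h3 := Nat.le_of_dvd hp.out.pos h2
      have := Nat.mul_lt_mul_of_pos_left hp.out.one_lt hp.out.pos
      omega
    set L := K ⊓ Subgroup.centralizer (D : Set G) with hL
    have hPL : P ≤ Subgroup.normalizer (L : Set G) := by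
      intro x hx
      rw [Subgroup.mem_normalizer_iff_map_conj_eq]
      refine Subgroup.eq_of_le_of_card_ge ?_ (Subgroup.card_map_of_injective (MulAut.conj x).injective).ge
      rintro _ ⟨k, hk, rfl⟩
      refine ⟨S.conjK_mem (hA (hPA hx)) hk.1, Subgroup.mem_centralizer_iff.2 fun d hd => ?_⟩
      have hxd : x * d = d * x := Thompson.commute_of_isElementaryAbelian hAe (hPA hx) (hD hd)
      have hkd := Subgroup.mem_centralizer_iff.1 hk.2 d hd
      rw [MonoidHom.coe_coe, MulAut.conj_apply]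
      calc d * (x * k * x⁻¹) = (d * x) * k * x⁻¹ := by group
        _ = x * (d * k) * x⁻¹ := by rw [← hxd]; group
        _ = x * k * (d * x⁻¹) := by rw [hkd]; group
        _ = x * k * (x⁻¹ * (x * d) * x⁻¹) := by group
        _ = x * k * x⁻¹ * d := by rw [hxd]; group
    have hcop : (Nat.card P).Coprime (Nat.card L) := by
      rw [hPcard]
      exact Nat.Coprime.coprime_dvd_right (Subgroup.card_dvd_of_le inf_le_left)
        (Nat.Coprime.mul_left S.hcop.symm S.hcop.symm)
    have hgen := CoprimeAct.generated_by_centralizers hPnc hPL hcop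
    by_contra hcon
    apply hne
    rw [← hgen]
    refine iSup₂_le fun c hc => ?_
    have hcD : c ∉ D := fun h => hc.2 (Subgroup.mem_bot.1 (hDP ▸ ⟨h, hc.1⟩))
    have hlt := card_sup_zpowers hAe hD (hPA hc.1) hcD
    by_contra hne'
    refine hcon (ih (D ⊔ Subgroup.zpowers c) (sup_le hD (Subgroup.zpowers_le.2 (hPA hc.1))) ?_ ?_)
    · rw [hlt]
      have := Nat.le_mul_of_pos_left (Nat.card D) hp.out.pos
      have h2 : Nat.card D < p * Nat.card D := lt_mul_of_one_lt_left Nat.card_pos hp.out.one_lt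
      omega
    · intro hle
      apply hne'
      refine le_trans ?_ hle
      intro k hk
      refine ⟨hk.1.1, Subgroup.mem_centralizer_iff.2 fun d hd => ?_⟩
      have hle' : D ⊔ Subgroup.zpowers c ≤ Subgroup.centralizer ({k} : Set G) := by
        refine sup_le (fun d hd => Subgroup.mem_centralizer_singleton_iff.2 ?_) (Subgroup.zpowers_le.2 ?_)
        · exact (Subgroup.mem_centralizer_iff.1 hk.1.2 d hd)
        · exact Subgroup.mem_centralizer_singleton_iff.2
            (Subgroup.mem_centralizer_singleton_iff.1 hk.2).symm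
      exact Subgroup.mem_centralizer_singleton_iff.1 (hle' hd)

theorem exists_good_not_mem (S : Setting p V H K) {A : Subgroup G} (hA : A ≤ H)
    (hAe : Cfsg.IsElementaryAbelian p A) {e : G} (he : e ∈ A) (he1 : e ≠ 1) :
    ∃ B : Subgroup G, B ≤ A ∧ Nat.card A = p * Nat.card B ∧
      ¬ K ⊓ Subgroup.centralizer (B : Set G) ≤ Subgroup.centralizer (A : Set G) ∧ e ∉ B := by
  have h0 : ¬ K ⊓ Subgroup.centralizer ((⊥ : Subgroup G) : Set G) ≤ Subgroup.centralizer ({e} : Set G) := by
    intro h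
    refine he1 (S.centralizerK (hA he) (hAe.2 e he) fun k hk => ?_)
    exact (Subgroup.mem_centralizer_singleton_iff.1 (h ⟨hk, Subgroup.mem_centralizer_iff.2 fun d hd => by
      rw [SetLike.mem_coe, Subgroup.mem_bot] at hd; subst hd; simp⟩)).symm
  obtain ⟨B, hBA, hc, hg⟩ := exists_good_aux S hA hAe he _ ⊥ bot_le le_rfl h0
  refine ⟨B, hBA, hc, fun h => hg (h.trans (Subgroup.centralizer_le (Set.singleton_subset_iff.2 he))),
    fun h => hg (inf_le_right.trans (Subgroup.centralizer_le (Set.singleton_subset_iff.2 h)))⟩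

theorem exists_good (S : Setting p V H K) {A : Subgroup G} (hA : A ≤ H)
    (hAe : Cfsg.IsElementaryAbelian p A) (hA1 : A ≠ ⊥) :
    ∃ B : Subgroup G, B ≤ A ∧ Nat.card A = p * Nat.card B ∧
      ¬ K ⊓ Subgroup.centralizer (B : Set G) ≤ Subgroup.centralizer (A : Set G) := by
  obtain ⟨e, he, he1⟩ := SetLike.exists_of_lt (bot_lt_iff_ne_bot.2 hA1)
  obtain ⟨B, h1, h2, h3, -⟩ := exists_good_not_mem S hA hAe he fun h => he1 (h ▸ one_mem _)
  exact ⟨B, h1, h2, h3⟩

/-- Fixed points strictly grow from `A` to a good hyperplane. -/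
theorem fix_lt (S : Setting p V H K) {A B : Subgroup G} (hA : A ≤ H)
    (hAe : Cfsg.IsElementaryAbelian p A) (hBA : B ≤ A)
    (hgood : ¬ K ⊓ Subgroup.centralizer (B : Set G) ≤ Subgroup.centralizer (A : Set G)) :
    V ⊓ Subgroup.centralizer (A : Set G) < V ⊓ Subgroup.centralizer (B : Set G) := by
  have hle : V ⊓ Subgroup.centralizer (A : Set G) ≤ V ⊓ Subgroup.centralizer (B : Set G) :=
    inf_le_inf_left _ (Subgroup.centralizer_le hBA)
  refine lt_of_le_of_ne hle fun heq => ?_
  obtain ⟨x, hx, hxA⟩ := SetLike.not_le_iff_exists.1 hgood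
  rw [Subgroup.mem_centralizer_iff] at hxA
  push Not at hxA
  obtain ⟨a, ha, hxa⟩ := hxA
  have hxB : ∀ b ∈ B, b * x = x * b := fun b hb => Subgroup.mem_centralizer_iff.1 hx.2 b hb
  have haB : ∀ b ∈ B, b * a = a * b := fun b hb =>
    Thompson.commute_of_isElementaryAbelian hAe (hBA hb) ha
  set y := x * a * x⁻¹ * a⁻¹ with hy
  have hyK : y ∈ K := by
    rw [hy, show x * a * x⁻¹ * a⁻¹ = x * (a * x⁻¹ * a⁻¹) by group]
    exact mul_mem hx.1 (S.conjK_mem (hA ha) (inv_mem hx.1))
  have hyB : ∀ b ∈ B, Commute b y := fun b hb =>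
    ((((show Commute b x from hxB b hb).mul_right (haB b hb)).mul_right
      (show Commute b x from hxB b hb).inv_right).mul_right (show Commute b a from haB b hb).inv_right)
  have hcop : (Nat.card (Subgroup.zpowers y)).Coprime p :=
    Nat.Coprime.coprime_dvd_left (Subgroup.card_dvd_of_le (Subgroup.zpowers_le.2 hyK)) S.hcop
  have hBp : IsPGroup p B := fun b => ⟨1, Subtype.ext (by
    rw [pow_one, Subgroup.coe_pow]; exact hAe.2 b (hBA b.2))⟩
  have hVp : IsPGroup p V := fun v => ⟨1, Subtype.ext (by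
    rw [pow_one, Subgroup.coe_pow]; exact S.hV.2 v v.2)⟩
  have hcent : V ⊓ Subgroup.centralizer (B : Set G) ≤
      Subgroup.centralizer (Subgroup.zpowers y : Set G) := by
    intro v hv
    -- `x⁻¹` keeps `v` among the fixed points, where `a` is trivial
    set u := x⁻¹ * v * x with hu
    have huB : u ∈ V ⊓ Subgroup.centralizer (B : Set G) := by
      refine ⟨by simpa using S.conj_mem (inv_mem (S.hKH hx.1)) hv.1,
        Subgroup.mem_centralizer_iff.2 fun b hb => ?_⟩
      have cx : Commute b x := hxB b hb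
      exact ((cx.inv_right.mul_right (Subgroup.mem_centralizer_iff.1 hv.2 b hb)).mul_right cx).eq
    rw [← heq] at huB hv
    have hua : a * u = u * a := Subgroup.mem_centralizer_iff.1 huB.2 a ha
    have hva : a * v = v * a := Subgroup.mem_centralizer_iff.1 hv.2 a ha
    have hyv : y * v = v * y := by
      calc x * a * x⁻¹ * a⁻¹ * v = x * a * x⁻¹ * a⁻¹ * (v * a) * a⁻¹ := by group
        _ = x * a * x⁻¹ * v * a⁻¹ := by rw [← hva]; group
        _ = x * (a * u) * x⁻¹ * a⁻¹ := by rw [hu]; group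
        _ = v * (x * a * x⁻¹ * a⁻¹) := by rw [hua, hu]; group
    refine Subgroup.mem_centralizer_iff.2 fun z hz => ?_
    obtain ⟨k, rfl⟩ := Subgroup.mem_zpowers_iff.1 hz
    exact ((show Commute y v from hyv).zpow_left k).eq
  have hBy : B ≤ Subgroup.centralizer (Subgroup.zpowers y : Set G) := fun b hb =>
    Subgroup.mem_centralizer_iff.2 fun z hz => by
      obtain ⟨k, rfl⟩ := Subgroup.mem_zpowers_iff.1 hz
      exact ((hyB b hb).symm.zpow_left k).eq
  have hres := S0028.result p B (Subgroup.zpowers y) V hBp hcop hVp hBy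
    ((hBA.trans hA).trans S.hnorm) ((Subgroup.zpowers_le.2 (S.hKH hyK)).trans S.hnorm) hcent
  have hy1 : y = 1 := S.eq_one_of_fix (S.hKH hyK) fun v hv => by
    rw [← Subgroup.mem_centralizer_iff.1 (hres (Subgroup.mem_zpowers y)) v hv, mul_inv_cancel_right]
  apply hxa
  rw [hy, mul_inv_eq_one] at hy1
  exact (eq_mul_of_mul_inv_eq hy1).symm

theorem isPGroup_of_ea {A : Subgroup G} (hA : Cfsg.IsElementaryAbelian p A) : IsPGroup p A :=
  fun a => ⟨1, Subtype.ext (by rw [pow_one, Subgroup.coe_pow]; exact hA.2 a a.2)⟩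

theorem mul_card_le_of_lt {X Y : Subgroup G} (hY : IsPGroup p Y) (h : X < Y) :
    p * Nat.card X ≤ Nat.card Y := by
  obtain ⟨a, ha⟩ := IsPGroup.iff_card.1 (hY.to_le h.le)
  obtain ⟨b, hb⟩ := IsPGroup.iff_card.1 hY
  have hlt : Nat.card X < Nat.card Y :=
    Set.ncard_lt_ncard (SetLike.coe_ssubset_coe.2 h) (Set.toFinite _)
  rw [ha, hb] at hlt ⊢
  rw [← pow_succ']
  exact Nat.pow_le_pow_right hp.out.pos ((Nat.pow_lt_pow_iff_right hp.out.one_lt).1 hlt)

/-- **The main inequality.** -/
theorem card_mul_le (S : Setting p V H K) : ∀ (n : ℕ) (A : Subgroup G), Nat.card A ≤ n → A ≤ H →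
    Cfsg.IsElementaryAbelian p A →
    Nat.card A * Nat.card (V ⊓ Subgroup.centralizer (A : Set G) : Subgroup G) ≤ Nat.card V := by
  intro n
  induction n with
  | zero => intro A h; exact absurd h (by simp [Nat.card_pos.ne'])
  | succ n ih =>
    intro A hn hA hAe
    by_cases hA1 : A = ⊥
    · rw [hA1, Subgroup.card_bot, one_mul]
      exact Subgroup.card_le_of_le inf_le_left
    obtain ⟨B, hBA, hcard, hgood⟩ := exists_good S hA hAe hA1
    have hBe := Thompson.isElementaryAbelian_mono hBA hAe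
    have h1 := mul_card_le_of_lt ((isPGroup_of_ea S.hV).to_le inf_le_left) (fix_lt S hA hAe hBA hgood)
    have h2 : Nat.card B < Nat.card A := hcard ▸ lt_mul_of_one_lt_left Nat.card_pos hp.out.one_lt
    have h3 := ih B (by omega) (hBA.trans hA) hBe
    calc Nat.card A * Nat.card (V ⊓ Subgroup.centralizer (A : Set G) : Subgroup G)
        = Nat.card B * (p * Nat.card (V ⊓ Subgroup.centralizer (A : Set G) : Subgroup G)) := by
          rw [hcard]; ring
      _ ≤ _ := Nat.mul_le_mul_left _ h1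
      _ ≤ _ := h3

theorem card_le (S : Setting p V H K) {A : Subgroup G} (hA : A ≤ H) (hAe : Cfsg.IsElementaryAbelian p A) :
    Nat.card A * Nat.card (V ⊓ Subgroup.centralizer (A : Set G) : Subgroup G) ≤ Nat.card V :=
  card_mul_le S _ A le_rfl hA hAe

theorem off_of_best (S : Setting p V H K) {A : Subgroup G} (hA : A ≤ H)
    (hb : Cfsg.IsBestOffenderOn p V A) : Off p V H A := by
  obtain ⟨h1, h2, h3⟩ := hb
  have hab : ∀ a ∈ A, ∀ b ∈ A, a * b = b * a := fun a ha b hb => by
    rw [← commutatorElement_eq_one_iff_mul_comm]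
    refine Subgroup.mem_bot.1 (S.hfaith ▸ ⟨?_, h2 (Subgroup.commutator_mem_commutator ha hb)⟩)
    rw [commutatorElement_def]
    exact mul_mem (mul_mem (mul_mem (hA ha) (hA hb)) (inv_mem (s := H) (hA ha))) (inv_mem (s := H) (hA hb))
  have hAe : Cfsg.IsElementaryAbelian p A := ⟨⟨⟨fun a b => Subtype.ext (hab a a.2 b b.2)⟩⟩,
    fun a ha => Subgroup.mem_bot.1 (S.hfaith ▸ ⟨pow_mem (hA ha) p, h3 a ha⟩)⟩
  refine ⟨hA, hAe, le_antisymm (card_le S hA hAe) ?_⟩
  have h0 := h1 ⊥ bot_le
  have hV' : V ⊓ Subgroup.centralizer ((⊥ : Subgroup G) : Set G) = V :=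
    inf_eq_left.2 fun v _ => Subgroup.mem_centralizer_iff.2 fun d hd => by
      rw [SetLike.mem_coe, Subgroup.mem_bot] at hd; subst hd; simp
  rwa [hV', Subgroup.card_bot, one_mul] at h0

theorem best_of_off (S : Setting p V H K) {A : Subgroup G} (hA : Off p V H A) :
    Cfsg.IsBestOffenderOn p V A := by
  obtain ⟨hAH, hAe, hc⟩ := hA
  refine ⟨fun B hB => hc ▸ card_le S (hB.trans hAH) (Thompson.isElementaryAbelian_mono hB hAe), ?_, ?_⟩
  · rw [Subgroup.commutator_le]
    intro a ha b hb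
    rw [commutatorElement_eq_one_iff_mul_comm.2 (Thompson.commute_of_isElementaryAbelian hAe ha hb)]
    exact one_mem _
  · intro a ha; rw [hAe.2 a ha]; exact one_mem _

theorem off_bot (S : Setting p V H K) : Off p V H (⊥ : Subgroup G) := by
  refine ⟨bot_le, Thompson.isElementaryAbelian_bot p, ?_⟩
  have hV' : V ⊓ Subgroup.centralizer ((⊥ : Subgroup G) : Set G) = V :=
    inf_eq_left.2 fun v _ => Subgroup.mem_centralizer_iff.2 fun d hd => by
      rw [SetLike.mem_coe, Subgroup.mem_bot] at hd; subst hd; simp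
  rw [hV', Subgroup.card_bot, one_mul]

/-- A good hyperplane of an offender is an offender. -/
theorem exists_off_hyperplane (S : Setting p V H K) {A : Subgroup G} (hA : Off p V H A) (hA1 : A ≠ ⊥) :
    ∃ B : Subgroup G, B ≤ A ∧ Nat.card A = p * Nat.card B ∧ Off p V H B ∧
      ¬ K ⊓ Subgroup.centralizer (B : Set G) ≤ Subgroup.centralizer (A : Set G) := by
  obtain ⟨hAH, hAe, hc⟩ := hA
  obtain ⟨B, hBA, hcard, hgood⟩ := exists_good S hAH hAe hA1
  have hBe := Thompson.isElementaryAbelian_mono hBA hAe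
  refine ⟨B, hBA, hcard, ⟨hBA.trans hAH, hBe, le_antisymm (card_le S (hBA.trans hAH) hBe) ?_⟩, hgood⟩
  have h1 := mul_card_le_of_lt ((isPGroup_of_ea S.hV).to_le inf_le_left) (fix_lt S hAH hAe hBA hgood)
  refine le_trans (le_of_eq ?_) (Nat.mul_le_mul_left (Nat.card B) h1)
  rw [← hc, hcard]; ring

/-- Offenders in a common offender are closed under intersection. -/
theorem off_inf (S : Setting p V H K) {A B C : Subgroup G} (hA : A ≤ H) (hAe : Cfsg.IsElementaryAbelian p A)
    (hBA : B ≤ A) (hCA : C ≤ A) (hB : Off p V H B) (hC : Off p V H C) : Off p V H (B ⊓ C) := by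
  have hIe := Thompson.isElementaryAbelian_mono (inf_le_left.trans hBA : B ⊓ C ≤ A) hAe
  have hUA : B ⊔ C ≤ A := sup_le hBA hCA
  refine ⟨(inf_le_left.trans hBA).trans hA, hIe, ?_⟩
  set fB := V ⊓ Subgroup.centralizer (B : Set G) with hfB
  set fC := V ⊓ Subgroup.centralizer (C : Set G) with hfC
  set fI := V ⊓ Subgroup.centralizer ((B ⊓ C : Subgroup G) : Set G) with hfI
  set fU := V ⊓ Subgroup.centralizer ((B ⊔ C : Subgroup G) : Set G) with hfU
  have hmeet : fB ⊓ fC ≤ fU := by
    intro v hv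
    refine ⟨hv.1.1, ?_⟩
    have h : B ⊔ C ≤ Subgroup.centralizer ({v} : Set G) :=
      sup_le (fun b hb => Subgroup.mem_centralizer_singleton_iff.2 (Subgroup.mem_centralizer_iff.1 hv.1.2 b hb))
        (fun b hb => Subgroup.mem_centralizer_singleton_iff.2 (Subgroup.mem_centralizer_iff.1 hv.2.2 b hb))
    exact Subgroup.mem_centralizer_iff.2 fun b hb => Subgroup.mem_centralizer_singleton_iff.1 (h hb)
  have hjoin : fB ⊔ fC ≤ fI :=
    sup_le (inf_le_inf_left _ (Subgroup.centralizer_le inf_le_left))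
      (inf_le_inf_left _ (Subgroup.centralizer_le inf_le_right))
  have e1 := card_sup_mul_inf hAe hBA hCA
  have e2 := card_sup_mul_inf S.hV (inf_le_left : fB ≤ V) (inf_le_left : fC ≤ V)
  have e3 : Nat.card fB * Nat.card fC ≤ Nat.card fI * Nat.card fU := e2 ▸
    Nat.mul_le_mul (Subgroup.card_le_of_le hjoin) (Subgroup.card_le_of_le hmeet)
  have hI := card_le S ((inf_le_left.trans hBA).trans hA) hIe
  have hU := card_le S (hUA.trans hA) (Thompson.isElementaryAbelian_mono hUA hAe)
  refine le_antisymm hI ?_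
  have key : Nat.card V * Nat.card V ≤
      (Nat.card (B ⊓ C : Subgroup G) * Nat.card fI) * Nat.card V := by
    calc Nat.card V * Nat.card V = (Nat.card B * Nat.card C) * (Nat.card fB * Nat.card fC) := by
          rw [mul_mul_mul_comm, hB.2.2, hC.2.2]
      _ ≤ (Nat.card B * Nat.card C) * (Nat.card fI * Nat.card fU) := Nat.mul_le_mul_left _ e3
      _ = (Nat.card (B ⊓ C : Subgroup G) * Nat.card fI) *
            (Nat.card (B ⊔ C : Subgroup G) * Nat.card fU) := by rw [← e1]; ring
      _ ≤ _ := Nat.mul_le_mul_left _ hU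
  exact Nat.le_of_mul_le_mul_right key Nat.card_pos

/-- An offender not inside `B` contains an offender of order `p` not inside `B`. -/
theorem exists_prime_off (S : Setting p V H K) {A : Subgroup G} (hA : Off p V H A) {B : Subgroup G}
    (hAB : ¬ A ≤ B) : ∃ t ∈ A, t ∉ B ∧ Off p V H (Subgroup.zpowers t) := by
  obtain ⟨C, hCA, hC⟩ := Finite.exists_le_minimal (a := A)
    (p := fun C : Subgroup G => C ≤ A ∧ Off p V H C ∧ ¬ C ≤ B) ⟨le_rfl, hA, hAB⟩
  obtain ⟨⟨-, hCoff, hCB⟩, hmin⟩ := hC
  obtain ⟨hCH, hCe, -⟩ := id hCoff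
  obtain ⟨t, htC, htB⟩ := SetLike.not_le_iff_exists.1 hCB
  suffices h : C = Subgroup.zpowers t from ⟨t, hCA htC, htB, h ▸ hCoff⟩
  by_contra hne
  have hC1 : C ≠ ⊥ := fun h => hCB (h ▸ bot_le)
  obtain ⟨D, hDC, hcard, hDoff, hgood⟩ := exists_off_hyperplane S hCoff hC1
  have hDlt : D < C := lt_of_le_of_ne hDC fun h => by
    rw [h] at hcard
    have := lt_mul_of_one_lt_left (Nat.card_pos (α := C)) hp.out.one_lt
    omega
  have hDB : D ≤ B := by
    by_contra h
    exact hDlt.not_ge (hmin ⟨hDC.trans hCA, hDoff, h⟩ hDC)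
  have hD1 : D ≠ ⊥ := by
    intro h
    rw [h, Subgroup.card_bot, mul_one] at hcard
    refine hne (Subgroup.eq_of_le_of_card_ge (Subgroup.zpowers_le.2 htC) ?_).symm
    rw [hcard, card_zpowers_prime (hCe.2 t htC) (fun h => htB (h ▸ one_mem B))]
  -- every good hyperplane of `C` equals `D`
  have huniq : ∀ B' : Subgroup G, B' ≤ C → Nat.card C = p * Nat.card B' →
      ¬ K ⊓ Subgroup.centralizer (B' : Set G) ≤ Subgroup.centralizer (C : Set G) → B' = D := by
    intro B' hB'C hc' hg'
    have hB'e := Thompson.isElementaryAbelian_mono hB'C hCe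
    have hoff : Off p V H B' := by
      refine ⟨hB'C.trans hCH, hB'e, le_antisymm (card_le S (hB'C.trans hCH) hB'e) ?_⟩
      have h1 := mul_card_le_of_lt ((isPGroup_of_ea S.hV).to_le inf_le_left) (fix_lt S hCH hCe hB'C hg')
      refine le_trans (le_of_eq ?_) (Nat.mul_le_mul_left (Nat.card B') h1)
      rw [← hCoff.2.2, hc']; ring
    have hB'lt : B' ≠ C := fun h => by
      rw [h] at hc'
      have := lt_mul_of_one_lt_left (Nat.card_pos (α := C)) hp.out.one_lt
      omega
    have hB'B : B' ≤ B := by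
      by_contra h
      exact hB'lt (le_antisymm hB'C (hmin ⟨hB'C.trans hCA, hoff, h⟩ hB'C))
    have hcc : Nat.card B' = Nat.card D :=
      Nat.eq_of_mul_eq_mul_left hp.out.pos (hc'.symm.trans hcard)
    by_contra hne'
    -- otherwise `B'` and `D` generate `C` inside `B`
    have hlt : D < B' ⊔ D := lt_of_le_of_ne le_sup_right fun h =>
      hne' (Subgroup.eq_of_le_of_card_ge (le_sup_left.trans h.ge) hcc.ge)
    have h2 := mul_card_le_of_lt ((isPGroup_of_ea hCe).to_le (sup_le hB'C hDC)) hlt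
    have := Subgroup.eq_of_le_of_card_ge (sup_le hB'C hDC) (hcard ▸ h2)
    exact hCB (this ▸ sup_le hB'B hDB)
  -- so some nontrivial element of `D` centralizes all of `K`
  obtain ⟨d, hd1⟩ := (Subgroup.ne_bot_iff_exists_ne_one).1 hD1
  have hd1' : (d : G) ≠ 1 := fun h => hd1 (Subtype.ext h)
  obtain ⟨B', hB'C, hc', hg', hdB'⟩ := exists_good_not_mem S hCH hCe (hDC d.2) hd1'
  exact hdB' ((huniq B' hB'C hc' hg').symm ▸ d.2)

end Cfsg.Agent.FF
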