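import Cfsg.Agent.Lib.PLocal.FF.Frozen

/-!
Failure of factorization: automorphisms of prime order at least `5` permuting the components.
-/

set_option autoImplicit false
set_option linter.style.haveILetI false
set_option linter.unusedSectionVars false
set_option linter.unusedVariables false
open scoped commutatorElement Pointwise

namespace Cfsg.Agent.FF

open Cfsg.Agent

variable {G : Type*} [Group G] [Finite G] {p : ℕ} [hp : Fact p.Prime] {V H K : Subgroup G}

/-- An automorphism respecting `V`, `H` and `K`. -/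
structure Sym (V H K : Subgroup G) (σ : MulAut G) : Prop where
  hV : V.map σ.toMonoidHom = V
  hH : H.map σ.toMonoidHom = H
  hK : K.map σ.toMonoidHom = K

variable {σ : MulAut G}

theorem Sym.tv (hσ : Sym V H K σ) {a : G} (ha : Tv p V H a) : Tv p V H (σ a) := by
  obtain ⟨ha1, haH, hae, hc⟩ := ha
  have e1 : (Subgroup.zpowers a).map σ.toMonoidHom = Subgroup.zpowers (σ a) := MonoidHom.map_zpowers _ _
  refine ⟨fun h => ha1 (σ.injective (h.trans (map_one σ).symm)), ?_, ?_, ?_⟩
  · rw [← e1, ← hσ.hH]; exact Subgroup.map_mono haH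
  · rw [← e1]; exact Thompson.isElementaryAbelian_map _ hae
  · rw [← e1, Subgroup.card_map_of_injective σ.injective]
    have e2 : V ⊓ Subgroup.centralizer (((Subgroup.zpowers a).map σ.toMonoidHom : Subgroup G) : Set G) =
        (V ⊓ Subgroup.centralizer (Subgroup.zpowers a : Set G)).map σ.toMonoidHom := by
      rw [Subgroup.map_inf _ _ _ σ.injective, hσ.hV]
      congr 1
      ext x
      constructor
      · intro hx
        refine ⟨σ.symm x, Subgroup.mem_centralizer_iff.2 fun y hy => σ.injective ?_, by simp⟩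
        have := Subgroup.mem_centralizer_iff.1 hx (σ y) ⟨y, hy, rfl⟩
        simpa using this
      · rintro ⟨y, hy, rfl⟩
        refine Subgroup.mem_centralizer_iff.2 ?_
        rintro _ ⟨z, hz, rfl⟩
        rw [← map_mul, ← map_mul, Subgroup.mem_centralizer_iff.1 hy z hz]
    rw [e2, Subgroup.card_map_of_injective σ.injective]
    exact hc

theorem Sym.comp_map (hσ : Sym V H K σ) (a : G) :
    (comp K a).map σ.toMonoidHom = comp K (σ a) := by
  rw [comp, comp, MonoidHom.map_closure]
  congr 1
  ext t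
  constructor
  · rintro ⟨_, ⟨x, hx, rfl⟩, rfl⟩
    exact ⟨σ x, hσ.hK ▸ ⟨x, hx, rfl⟩, by simp⟩
  · rintro ⟨y, hy, rfl⟩
    rw [← hσ.hK] at hy
    obtain ⟨x, hx, rfl⟩ := hy
    exact ⟨_, ⟨x, hx, rfl⟩, by simp⟩

theorem Sym.plane_map (hσ : Sym V H K σ) (a : G) :
    (plane V K a).map σ.toMonoidHom = plane V K (σ a) := by
  rw [plane, plane, Subgroup.map_commutator, hσ.hV, hσ.comp_map]

/-- An automorphism of prime order at least `5` fixing a component fixes its plane pointwise. -/
theorem Sym.fix_plane (S : Setting p V H K) (hσ : Sym V H K σ) {q : ℕ} (hq : q.Prime) (hq5 : 5 ≤ q)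
    (hσq : σ ^ q = 1) {a : G} (ha : Tv p V H a) (hfix : comp K (σ a) = comp K a) :
    ∀ w ∈ plane V K a, σ w = w := by
  classical
  intro w hw
  by_contra hne
  obtain ⟨b, -, -, -, -, -, hcard, -⟩ := comp_spec S ha
  have hp23 := eq_two_or_three S ha
  have hw1 : w ≠ 1 := fun h => hne (by rw [h, map_one])
  have hwp : w ^ p = 1 := S.hV.2 w (plane_le S ha hw)
  have hstab : ∀ n : ℕ, ∀ v ∈ plane V K a, (σ ^ n) v ∈ plane V K a := by
    intro n
    induction n with
    | zero => intro v hv; simpa using hv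
    | succ n ih =>
      intro v hv
      rw [pow_succ', MulAut.mul_apply, ← plane_congr (V := V) hfix, ← hσ.plane_map]
      exact ⟨_, ih v hv, rfl⟩
  have hper : ∀ k : ℕ, ¬ q ∣ k → (σ ^ k) w = w → False := by
    intro k hk hkw
    apply hne
    obtain ⟨m, hm⟩ : ∃ m : ℕ, k * m ≡ 1 [MOD q] := by
      haveI : NeZero q := ⟨hq.ne_zero⟩
      haveI := Fact.mk hq
      refine ⟨((k : ZMod q)⁻¹).val, (ZMod.natCast_eq_natCast_iff' _ _ _).1 ?_⟩
      rw [Nat.cast_mul, ZMod.natCast_zmod_val, Nat.cast_one]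
      exact mul_inv_cancel₀ fun h => hk ((ZMod.natCast_eq_zero_iff _ _).1 h)
    have h1 : ∀ m : ℕ, (σ ^ (k * m)) w = w := by
      intro m
      induction m with
      | zero => simp
      | succ m ih => rw [Nat.mul_succ, pow_add, MulAut.mul_apply, hkw, ih]
    have h2 := h1 m
    rw [pow_eq_pow_mod _ hσq, hm, Nat.mod_eq_of_lt hq.one_lt, pow_one] at h2
    exact h2
  -- the exponents
  let F : Fin q × Fin (p - 1) → plane V K a := fun x =>
    ⟨((σ ^ (x.1 : ℕ)) w) ^ ((x.2 : ℕ) + 1), pow_mem (hstab _ w hw) _⟩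
  have hF : Function.Injective F := by
    rintro ⟨i, j⟩ ⟨i', j'⟩ h
    have h' : (σ ^ (i : ℕ)) (w ^ ((j : ℕ) + 1)) = (σ ^ (i' : ℕ)) (w ^ ((j' : ℕ) + 1)) := by
      simpa [F, map_pow] using h
    wlog hle : (i : ℕ) ≤ i' generalizing i j i' j'
    · exact (this i' j' i j h.symm h'.symm (by omega)).symm
    obtain ⟨d, hd⟩ := Nat.le.dest hle
    rw [← hd, pow_add σ, MulAut.mul_apply] at h'
    have h1 := (σ ^ (i : ℕ)).injective h'
    have hij : (j : ℕ) = j' → i = i' := by
      intro e
      rw [e, map_pow] at h1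
      have hw2 : w = (σ ^ d) w := by
        have hj' := j'.2
        rcases hp23 with rfl | rfl
        · have : (j' : ℕ) = 0 := by omega
          rwa [this, pow_one, pow_one] at h1
        · have hj : (j' : ℕ) = 0 ∨ (j' : ℕ) = 1 := by omega
          rcases hj with e' | e'
          · rwa [e', pow_one, pow_one] at h1
          · rw [e'] at h1
            have h3 : ∀ v : G, v ^ 3 = 1 → (v ^ 2) ^ 2 = v := fun v hv => by
              rw [← pow_mul, show 2 * 2 = 3 + 1 from rfl, pow_succ, hv, one_mul]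
            have h4 := congrArg (fun v => v ^ 2) h1
            rwa [h3 w hwp, h3 _ (by rw [← map_pow, hwp, map_one])] at h4
      by_contra hii
      refine hper d (fun hdvd => ?_) hw2.symm
      have hi' := i'.2
      have hd0 : d ≠ 0 := fun h0 => hii (Fin.ext (by omega))
      have := Nat.le_of_dvd (by omega) hdvd
      omega
    by_cases hjj : (j : ℕ) = j'
    · exact Prod.ext (hij hjj) (Fin.ext hjj)
    exfalso
    have hj2 := j.2
    have hj'2 := j'.2
    rcases hp23 with rfl | rfl
    · omega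
    -- `w` is sent to its inverse
    have hinv : (σ ^ d) w = w⁻¹ := by
      have e2 : w ^ 2 = w⁻¹ := eq_inv_of_mul_eq_one_left (by rw [← pow_succ]; exact hwp)
      rcases (show ((j : ℕ) = 0 ∧ (j' : ℕ) = 1) ∨ ((j : ℕ) = 1 ∧ (j' : ℕ) = 0) by omega) with
        ⟨e, e'⟩ | ⟨e, e'⟩
      · rw [e, e', pow_one, show 1 + 1 = 2 from rfl, e2, map_inv] at h1
        exact inv_inj.1 (h1.symm.trans (inv_inv w).symm)
      · rw [e, e', pow_one, show 1 + 1 = 2 from rfl, e2] at h1
        exact h1.symm
    by_cases hd0 : q ∣ d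
    · obtain ⟨c, rfl⟩ := hd0
      rw [pow_mul, hσq, one_pow, MulAut.one_apply] at hinv
      apply hw1
      have e3 : w ^ 2 = 1 := by rw [sq]; nth_rw 2 [hinv]; exact mul_inv_cancel w
      rw [pow_succ, e3, one_mul] at hwp
      exact hwp
    · refine hper (d + d) (fun h => hd0 ?_) (by rw [pow_add, MulAut.mul_apply, hinv, map_inv, hinv, inv_inv])
      rcases hq.dvd_mul.1 (show q ∣ 2 * d by rwa [two_mul]) with h2 | h2
      · have := Nat.le_of_dvd two_pos h2
        omega
      · exact h2
  have hle := Nat.card_le_card_of_injective F hF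
  rw [Nat.card_prod, Nat.card_fin, Nat.card_fin, hcard] at hle
  rcases hp23 with rfl | rfl <;> norm_num at hle <;> omega

/-- An automorphism of prime order at least `5` fixing a component fixes it pointwise. -/
theorem Sym.fix_comp (S : Setting p V H K) (hσ : Sym V H K σ) {q : ℕ} (hq : q.Prime) (hq5 : 5 ≤ q)
    (hσq : σ ^ q = 1) {a : G} (ha : Tv p V H a) (hfix : comp K (σ a) = comp K a) :
    ∀ e ∈ comp K a, σ e = e := by
  obtain ⟨b, -, -, -, -, -, -, -, hf, -⟩ := comp_spec S ha
  have hw := hσ.fix_plane S hq hq5 hσq ha hfix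
  intro e he
  have hσe : σ e ∈ comp K a := by
    rw [← hfix, ← hσ.comp_map]; exact ⟨e, he, rfl⟩
  refine (eq_of_mul_inv_eq_one (hf _ (mul_mem hσe (inv_mem he)) fun w hwp => ?_))
  have hu : e⁻¹ * w * e⁻¹⁻¹ ∈ plane V K a :=
    (Subgroup.mem_normalizer_iff.1 (Subgroup.normalizer_commutator_ge_right V (comp K a) (inv_mem he)) w).1 hwp
  have h1 : σ (e * (e⁻¹ * w * e⁻¹⁻¹) * e⁻¹) = σ w := by congr 1; group
  rw [map_mul, map_mul, map_inv, hw _ hu, hw w hwp] at h1
  calc σ e * e⁻¹ * w * (σ e * e⁻¹)⁻¹ = σ e * (e⁻¹ * w * e⁻¹⁻¹) * (σ e)⁻¹ := by group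
    _ = w := h1

variable {X : Type*} [Group X] [Finite X] (φ : X →* MulAut G)

/-- For each element of a component, a fixed element of `H` acting the same way on it. -/
theorem exists_fixed_lift (S : Setting p V H K) {q : ℕ} (hq : q.Prime) (hq5 : 5 ≤ q)
    (hX : ∀ x : X, x ^ q = 1) (hφ : ∀ x, Sym V H K (φ x)) {a : G} (ha : Tv p V H a)
    {e : G} (he : e ∈ comp K a) :
    ∃ f ∈ H, (∀ x, φ x f = f) ∧ e⁻¹ * f ∈ rest p V H K a := by
  classical
  haveI : Fintype X := Fintype.ofFinite X
  set s : Finset G := Finset.univ.image fun x => φ x e with hs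
  have hpow : ∀ x : X, φ x ^ q = 1 := fun x => by rw [← map_pow, hX, map_one]
  have hmem : ∀ x : X, φ x e ∈ comp K (φ x a) := fun x => ((hφ x).comp_map a).le ⟨e, he, rfl⟩
  -- two conjugates of `e` in one component coincide
  have hsame : ∀ x y : X, comp K (φ x a) = comp K (φ y a) → φ x e = φ y e := by
    intro x y h
    have h1 : comp K (φ (y⁻¹ * x) a) = comp K a := by
      rw [map_mul, MulAut.mul_apply, ← (hφ y⁻¹).comp_map, h, (hφ y⁻¹).comp_map, ← MulAut.mul_apply,
        ← map_mul, inv_mul_cancel, map_one, MulAut.one_apply]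
    have h2 := (hφ (y⁻¹ * x)).fix_comp S hq hq5 (hpow _) ha h1 e he
    conv_rhs => rw [← h2]
    rw [← MulAut.mul_apply, ← map_mul, mul_inv_cancel_left]
  have hcomm : ∀ x y : X, Commute (φ x e) (φ y e) := by
    intro x y
    by_cases h : comp K (φ x a) = comp K (φ y a)
    · rw [hsame x y h]
    · refine (Subgroup.mem_centralizer_iff.1
        ((rest_le S ((hφ x).tv ha) ?_).1.2) (φ x e) (hmem x))
      have hle : comp K (φ y a) ≤ rest p V H K (φ x a) := by
        refine (Subgroup.closure_le _).2 fun t ht => Subgroup.subset_closure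
          ⟨conjSet_tv S ((hφ y).tv ha) ht, ?_⟩
        rw [comp_eq ht]; exact h
      exact hle (hmem y)
  have hc : (s : Set G).Pairwise (Function.onFun Commute id) := by
    intro u hu v hv _
    rw [Finset.mem_coe, hs, Finset.mem_image] at hu hv
    obtain ⟨x, -, rfl⟩ := hu
    obtain ⟨y, -, rfl⟩ := hv
    exact hcomm x y
  set f := s.noncommProd id hc with hf
  refine ⟨f, ?_, ?_, ?_⟩
  · refine Finset.noncommProd_induction s id hc (· ∈ H) (fun _ _ => mul_mem) (one_mem _) fun u hu => ?_
    rw [hs, Finset.mem_image] at hu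
    obtain ⟨x, -, rfl⟩ := hu
    exact comp_le S ((hφ x).tv ha) (hmem x)
  · intro x
    have himg : s.image (φ x) = s := by
      refine Finset.eq_of_subset_of_card_le ?_ (Finset.card_image_of_injective s (φ x).injective).ge
      intro u hu
      rw [Finset.mem_image] at hu
      obtain ⟨v, hv, rfl⟩ := hu
      rw [hs, Finset.mem_image] at hv ⊢
      obtain ⟨y, -, rfl⟩ := hv
      exact ⟨x * y, Finset.mem_univ _, by rw [map_mul, MulAut.mul_apply]⟩
    calc φ x f = s.noncommProd (fun u => φ x u) _ := Finset.map_noncommProd s id hc (φ x)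
      _ = f := by
        rw [hf]
        unfold Finset.noncommProd
        congr 1
        conv_rhs => rw [← himg]
        rw [Finset.image_val_of_injOn (φ x).injective.injOn, Multiset.map_map]
        rfl
  · have hes : e ∈ s := by
      rw [hs, Finset.mem_image]; exact ⟨1, Finset.mem_univ _, by simp⟩
    have h := Finset.mul_noncommProd_erase s hes id hc
    rw [hf, ← h, id_eq, inv_mul_cancel_left]
    refine Finset.noncommProd_induction _ id _ (· ∈ rest p V H K a) (fun _ _ => mul_mem) (one_mem _)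
      fun u hu => ?_
    rw [Finset.mem_erase, hs, Finset.mem_image] at hu
    obtain ⟨hue, x, -, rfl⟩ := hu
    have hne : comp K a ≠ comp K (φ x a) := by
      intro h
      exact hue ((hsame x 1 (by rw [map_one, MulAut.one_apply]; exact h.symm)).trans (by simp))
    have hle : comp K (φ x a) ≤ rest p V H K a :=
      (Subgroup.closure_le _).2 fun t ht => Subgroup.subset_closure
        ⟨conjSet_tv S ((hφ x).tv ha) ht, by rw [comp_eq ht]; exact hne⟩
    exact hle (hmem x)

/-- The diagonal plane: an injective equivariant map of the plane into the fixed points. -/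
theorem exists_diagonal (S : Setting p V H K) (hgen : H = Subgroup.closure {t | Tv p V H t})
    {q : ℕ} (hq : q.Prime) (hq5 : 5 ≤ q) (hX : ∀ x : X, x ^ q = 1) (hφ : ∀ x, Sym V H K (φ x))
    {a : G} (ha : Tv p V H a) :
    ∃ δ : plane V K a →* G, Function.Injective δ ∧ (∀ w, δ w ∈ V) ∧ (∀ x w, φ x (δ w) = δ w) ∧
      ∀ f ∈ H, (∀ x, φ x f = f) → ∀ w : plane V K a, ∃ hm : f * (w : G) * f⁻¹ ∈ plane V K a,
        f * δ w * f⁻¹ = δ ⟨_, hm⟩ := by
  classical
  haveI : Fintype X := Fintype.ofFinite X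
  letI : CommGroup V := { (inferInstance : Group V) with mul_comm := fun u v => Subtype.ext (S.comm u.2 v.2) }
  set O : Finset (Subgroup G) := Finset.univ.image fun x => comp K (φ x a) with hO
  have hrep : ∀ F : O, ∃ x, comp K (φ x a) = F := fun F => by
    obtain ⟨x, -, hx⟩ := Finset.mem_image.1 F.2
    exact ⟨x, hx⟩
  choose r hr using hrep
  have hpow : ∀ x : X, φ x ^ q = 1 := fun x => by rw [← map_pow, hX, map_one]
  -- `φ x` and `φ y` agree on the plane when they agree on the component
  have hsame : ∀ x y : X, comp K (φ x a) = comp K (φ y a) → ∀ w ∈ plane V K a, φ x w = φ y w := by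
    intro x y h w hw
    have h1 : comp K (φ (y⁻¹ * x) a) = comp K a := by
      rw [map_mul, MulAut.mul_apply, ← (hφ y⁻¹).comp_map, h, (hφ y⁻¹).comp_map, ← MulAut.mul_apply,
        ← map_mul, inv_mul_cancel, map_one, MulAut.one_apply]
    have h2 := (hφ (y⁻¹ * x)).fix_plane S hq hq5 (hpow _) ha h1 w hw
    conv_rhs => rw [← h2]
    rw [← MulAut.mul_apply, ← map_mul, mul_inv_cancel_left]
  have hV' : ∀ (x : X) (w : plane V K a), φ x (w : G) ∈ V := fun x w =>
    (hφ x).hV.le ⟨w, plane_le S ha w.2, rfl⟩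
  let δ₀ : plane V K a →* V :=
    { toFun := fun w => ∏ F : O, (⟨φ (r F) (w : G), hV' _ w⟩ : V)
      map_one' := Finset.prod_eq_one fun F _ => Subtype.ext (map_one _)
      map_mul' := fun u v => by
        rw [← Finset.prod_mul_distrib]
        exact Finset.prod_congr rfl fun F _ => Subtype.ext (map_mul (φ (r F)) _ _) }
  refine ⟨V.subtype.comp δ₀, ?_, fun w => (δ₀ w).2, ?_, ?_⟩
  · rw [injective_iff_map_eq_one]
    intro w hw
    have h1 : comp K a ∈ O := Finset.mem_image.2 ⟨1, Finset.mem_univ _, by simp⟩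
    set F₀ : O := ⟨_, h1⟩
    have hF₀ : φ (r F₀) (w : G) = w := by
      rw [hsame (r F₀) 1 (by rw [hr]; simp [F₀]) w w.2]; simp
    have hmem : ((∏ F ∈ Finset.univ.erase F₀, (⟨φ (r F) (w : G), hV' _ w⟩ : V) : V) : G) ∈
        V ⊓ Subgroup.centralizer (comp K a : Set G) := by
      refine ⟨Subtype.mem _, ?_⟩
      refine Finset.prod_induction _ (fun v : V => (v : G) ∈ Subgroup.centralizer (comp K a : Set G))
        (fun u v hu hv => mul_mem hu hv) (one_mem _) fun F hF => ?_
      have hne : comp K (φ (r F) a) ≠ comp K a := by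
        intro h
        rw [hr] at h
        exact (Finset.mem_erase.1 hF).1 (Subtype.ext h)
      refine Subgroup.mem_centralizer_iff.2 fun g hg => ?_
      have hg' : g ∈ rest p V H K (φ (r F) a) :=
        ((Subgroup.closure_le _).2 fun t ht => Subgroup.subset_closure
          ⟨conjSet_tv S ha ht, by rw [comp_eq ht]; exact hne⟩ :
          comp K a ≤ rest p V H K (φ (r F) a)) hg
      have hwF : φ (r F) (w : G) ∈ plane V K (φ (r F) a) := ((hφ _).plane_map a).le ⟨w, w.2, rfl⟩
      exact (Subgroup.mem_centralizer_iff.1 (rest_le S ((hφ _).tv ha) hg').2 _ hwF).symm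
    have hsplit : δ₀ w = (⟨φ (r F₀) (w : G), hV' _ w⟩ : V) *
        ∏ F ∈ Finset.univ.erase F₀, (⟨φ (r F) (w : G), hV' _ w⟩ : V) :=
      (Finset.mul_prod_erase Finset.univ _ (Finset.mem_univ F₀)).symm
    have hw' : (δ₀ w : G) = 1 := hw
    rw [hsplit, Subgroup.coe_mul] at hw'
    change φ (r F₀) (w : G) * _ = 1 at hw'
    rw [hF₀, mul_eq_one_iff_eq_inv] at hw'
    refine Subtype.ext (Subgroup.mem_bot.1 ((plane_complement S ha).1.le ⟨w.2, plane_le S ha w.2, ?_⟩))
    rw [hw']
    exact inv_mem (s := Subgroup.centralizer (comp K a : Set G)) hmem.2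
  · intro x w
    let ρ : O → O := fun F => ⟨comp K (φ (x * r F) a), Finset.mem_image.2 ⟨_, Finset.mem_univ _, rfl⟩⟩
    have hρ : Function.Injective ρ := by
      intro F F' h
      have h' : comp K (φ (x * r F) a) = comp K (φ (x * r F') a) := congrArg Subtype.val h
      rw [map_mul, map_mul, MulAut.mul_apply, MulAut.mul_apply, ← (hφ x).comp_map, ← (hφ x).comp_map] at h'
      have := Subgroup.map_injective (φ x).injective h'
      rw [hr, hr] at this
      exact Subtype.ext this
    let τ : V →* V :=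
      { toFun := fun v => ⟨φ x v, (hφ x).hV.le ⟨v, v.2, rfl⟩⟩
        map_one' := Subtype.ext (map_one _)
        map_mul' := fun u v => Subtype.ext (map_mul (φ x) _ _) }
    show (τ (δ₀ w) : G) = (δ₀ w : G)
    congr 1
    show τ (∏ F : O, _) = _
    rw [map_prod]
    refine Fintype.prod_bijective ρ (Finite.injective_iff_bijective.1 hρ) _ _ fun F => Subtype.ext ?_
    show φ x (φ (r F) (w : G)) = φ (r (ρ F)) (w : G)
    rw [← MulAut.mul_apply, ← map_mul]
    exact hsame _ _ (hr (ρ F)).symm w w.2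
  · intro f hf hfix w
    have hn := (factor S hgen ha).2.2.2.2.2 hf
    have hm : f * (w : G) * f⁻¹ ∈ plane V K a := by
      have h1 : f ∈ Subgroup.normalizer ((plane V K a : Subgroup G) : Set G) := by
        rw [Subgroup.mem_normalizer_iff_map_conj_eq]
        refine (Subgroup.map_commutator _ _ _).trans ?_
        rw [Subgroup.mem_normalizer_iff_map_conj_eq.1 (S.hnorm hf),
          Subgroup.mem_normalizer_iff_map_conj_eq.1 hn]
        rfl
      exact (Subgroup.mem_normalizer_iff.1 h1 w).1 w.2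
    refine ⟨hm, ?_⟩
    let c : V →* V :=
      { toFun := fun v => ⟨f * v * f⁻¹, S.conj_mem hf v.2⟩
        map_one' := Subtype.ext (by simp)
        map_mul' := fun u v => Subtype.ext (show f * ((u : G) * v) * f⁻¹ = _ * _ by group) }
    show (c (δ₀ w) : G) = (δ₀ ⟨_, hm⟩ : G)
    congr 1
    show c (∏ F : O, _) = ∏ F : O, _
    rw [map_prod]
    refine Finset.prod_congr rfl fun F _ => Subtype.ext ?_
    show f * φ (r F) (w : G) * f⁻¹ = φ (r F) (f * (w : G) * f⁻¹)
    rw [map_mul, map_mul, map_inv, hfix]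

end Cfsg.Agent.FF
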