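import Cfsg.Agent.Lib.PLocal.FF.Pair
import Cfsg.Agent.Lib.Timmesfeld.Prime

/-!
Failure of factorization: the component spanned by an offender of order `p` and its plane.
-/

set_option autoImplicit false
set_option linter.style.haveILetI false
set_option linter.unusedSectionVars false
set_option linter.unusedVariables false
open scoped commutatorElement Pointwise

namespace Cfsg.Agent.FF

open Cfsg.Agent

variable {G : Type*} [Group G] [Finite G] {p : ℕ} [hp : Fact p.Prime] {V H K : Subgroup G}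

/-- The `K`-conjugates of `a`. -/
def conjSet (K : Subgroup G) (a : G) : Set G := {t | ∃ x ∈ K, t = x * a * x⁻¹}

/-- The component of `a`. -/
def comp (K : Subgroup G) (a : G) : Subgroup G := Subgroup.closure (conjSet K a)

/-- The plane of `a`. -/
def plane (V K : Subgroup G) (a : G) : Subgroup G := ⁅V, comp K a⁆

omit [Finite G] hp in
theorem self_mem_conjSet (K : Subgroup G) (a : G) : a ∈ conjSet K a := ⟨1, one_mem _, by group⟩

omit [Finite G] hp in
theorem conjSet_comm {a t : G} (h : t ∈ conjSet K a) : a ∈ conjSet K t := by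
  obtain ⟨x, hx, rfl⟩ := h
  exact ⟨x⁻¹, inv_mem hx, by group⟩

omit [Finite G] hp in
theorem conjSet_eq {a t : G} (h : t ∈ conjSet K a) : conjSet K t = conjSet K a := by
  obtain ⟨x, hx, rfl⟩ := h
  ext u
  constructor
  · rintro ⟨y, hy, rfl⟩; exact ⟨y * x, mul_mem hy hx, by group⟩
  · rintro ⟨y, hy, rfl⟩; exact ⟨y * x⁻¹, mul_mem hy (inv_mem hx), by group⟩

omit [Finite G] hp in
theorem self_mem_comp (K : Subgroup G) (a : G) : a ∈ comp K a :=
  Subgroup.subset_closure (self_mem_conjSet K a)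

theorem conjSet_tv (S : Setting p V H K) {a t : G} (ha : Tv p V H a) (h : t ∈ conjSet K a) :
    Tv p V H t := by
  obtain ⟨x, hx, rfl⟩ := h; exact ha.conj S (S.hKH hx)

theorem comp_le (S : Setting p V H K) {a : G} (ha : Tv p V H a) : comp K a ≤ H :=
  (Subgroup.closure_le _).2 fun t ht => (conjSet_tv S ha ht).mem

theorem line_conj (S : Setting p V H K) {a h : G} (ha : a ∈ H) (hh : h ∈ H) :
    line V (h * a * h⁻¹) = (line V a).map (MulAut.conj h).toMonoidHom := by
  have hV' : V.map (MulAut.conj h).toMonoidHom = V :=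
    Subgroup.mem_normalizer_iff_map_conj_eq.1 (S.hnorm hh)
  rw [line, line, Subgroup.map_commutator, hV', MonoidHom.map_zpowers]
  rfl

theorem exists_noncomm (S : Setting p V H K) {a : G} (ha : Tv p V H a) :
    ∃ x ∈ K, a * (x * a * x⁻¹) ≠ (x * a * x⁻¹) * a := by
  by_contra h
  push Not at h
  refine ha.1 (S.centralizerK ha.mem ha.pow_eq_one fun x hx => ?_)
  have hc : Commute a (x * a * x⁻¹) := h x hx
  have hK : x * a * x⁻¹ * a⁻¹ ∈ K := by
    rw [show x * a * x⁻¹ * a⁻¹ = x * (a * x⁻¹ * a⁻¹) by group]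
    exact mul_mem hx (S.conjK_mem ha.mem (inv_mem hx))
  have h1 := S.eq_one_of_pow hK (by
    rw [(hc.symm.inv_right).mul_pow, conj_pow, inv_pow, ha.pow_eq_one]; group)
  rw [mul_inv_eq_one, mul_inv_eq_iff_eq_mul] at h1
  exact h1.symm

/-- The basic facts on a component, relative to a given non-commuting conjugate. -/
theorem comp_spec_at (S : Setting p V H K) {a x : G} (ha : Tv p V H a) (hx : x ∈ K)
    (hne : a * (x * a * x⁻¹) ≠ (x * a * x⁻¹) * a) :
    ∃ b ∈ conjSet K a, b = x * a * x⁻¹ ∧ comp K a = Subgroup.closure ({a, b} : Set G) ∧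
      plane V K a = line V a ⊔ line V b ∧ ¬ line V b ≤ Subgroup.centralizer ({a} : Set G) ∧
      ¬ line V a ≤ Subgroup.centralizer ({b} : Set G) ∧
      Nat.card (plane V K a) = p ^ 2 ∧
      (∀ r ∈ plane V K a, r * a = a * r → r ∈ line V a) ∧
      (∀ m ∈ comp K a, (∀ w ∈ plane V K a, m * w * m⁻¹ = w) → m = 1) ∧
      (∀ r ∈ plane V K a, r ≠ 1 → ∃ t ∈ conjSet K a, r ∈ line V t) := by
  classical
  set b := x * a * x⁻¹ with hb
  have hbC : b ∈ conjSet K a := ⟨x, hx, rfl⟩
  have hbT := conjSet_tv S ha hbC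
  obtain ⟨h1, h2, hf⟩ := pair S ha hx hne
  set W := line V a ⊔ line V b with hW
  have hWV : W ≤ V := sup_le (line_le S ha.mem) (line_le S hbT.mem)
  have hinf : line V a ⊓ line V b = ⊥ := by
    have hd : Nat.card (line V a ⊓ line V b : Subgroup G) ∣ p :=
      card_line S hbT ▸ Subgroup.card_dvd_of_le inf_le_right
    rcases (Nat.dvd_prime hp.out).1 hd with e | e
    · exact Subgroup.card_eq_one.1 e
    · refine absurd ?_ h1
      have := Subgroup.eq_of_le_of_card_ge (inf_le_right : line V a ⊓ line V b ≤ _) (by rw [e, card_line S hbT])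
      exact (inf_eq_right.1 this).trans (line_le_centralizer S ha)
  have hcard : Nat.card W = p ^ 2 := by
    have h := card_sup_mul_inf S.hV (line_le S ha.mem) (line_le S hbT.mem)
    rw [hinf, Subgroup.card_bot, mul_one, card_line S ha, card_line S hbT] at h
    rw [hW, h, sq]
  have hfix : ∀ r ∈ W, r * a = a * r → r ∈ line V a := by
    intro r hr hra
    have hle : line V a ≤ W ⊓ Subgroup.centralizer ({a} : Set G) :=
      le_inf le_sup_left (line_le_centralizer S ha)
    have hlt : W ⊓ Subgroup.centralizer ({a} : Set G) < W :=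
      lt_of_le_of_ne inf_le_left fun e => h1 (le_sup_right.trans (inf_eq_left.1 e))
    have h3 := mul_card_le_of_lt ((isPGroup_of_ea S.hV).to_le hWV) hlt
    rw [hcard, sq] at h3
    have := Subgroup.eq_of_le_of_card_ge hle (card_line S ha ▸ Nat.le_of_mul_le_mul_left h3 hp.out.pos)
    exact this ▸ ⟨hr, Subgroup.mem_centralizer_singleton_iff.2 hra⟩
  have hMH : Subgroup.closure ({a, b} : Set G) ≤ H :=
    (Subgroup.closure_le _).2 (by rintro t (rfl | rfl); exacts [ha.mem, hbT.mem])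
  -- every point of the plane lies on the line of a conjugate inside the subgroup
  have hcover : ∀ r ∈ W, r ≠ 1 →
      ∃ t ∈ conjSet K a, t ∈ Subgroup.closure ({a, b} : Set G) ∧ r ∈ line V t := by
    intro r hr hr1
    by_cases hra : r ∈ line V a
    · exact ⟨a, self_mem_conjSet K a, Subgroup.subset_closure (by simp), hra⟩
    haveI : ((line V a).subgroupOf V).Normal := ⟨fun u hu g => by
      rw [Subgroup.mem_subgroupOf] at hu ⊢
      rw [Subgroup.coe_mul, Subgroup.coe_mul, InvMemClass.coe_inv, S.comm g.2 u.2, mul_inv_cancel_right]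
      exact hu⟩
    have hset : (W : Set G) = (line V a : Set G) * (line V b : Set G) := by
      rw [hW, Subgroup.coe_mul_of_right_le_normalizer_left]
      exact ((line_le S hbT.mem).trans (le_centralizer_of_ea S.hV (line_le S ha.mem))).trans
        (Subgroup.centralizer_le_normalizer _)
    have hr' : r ∈ (line V a : Set G) * (line V b : Set G) := hset ▸ hr
    obtain ⟨c, hc, d, hd, rfl⟩ := Set.mem_mul.1 hr'
    have hd1 : d ≠ 1 := fun e => hra (by rw [e, mul_one]; exact hc)
    set δ := ⁅a, d⁆ with hδ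
    have hδ1 : δ ≠ 1 := by
      intro e
      rw [hδ, commutatorElement_eq_one_iff_mul_comm] at e
      exact hd1 (Subgroup.mem_bot.1 (hinf ▸ ⟨hfix d (Subgroup.mem_sup_right hd) e.symm, hd⟩))
    have hδl : δ ∈ line V a := mem_line S ha.mem (line_le S hbT.mem hd)
    have hgen : Subgroup.zpowers δ = line V a := Subgroup.eq_of_le_of_card_ge (Subgroup.zpowers_le.2 hδl)
      (by rw [card_line S ha, card_zpowers_prime (S.hV.2 δ (line_le S ha.mem hδl)) hδ1])
    obtain ⟨i, hi⟩ := Submonoid.mem_powers_iff _ _ |>.1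
      ((isOfFinOrder_of_finite δ).mem_powers_iff_mem_zpowers.2 (show c ∈ Subgroup.zpowers δ from hgen ▸ hc))
    have hpow : ∀ n : ℕ, a ^ n * d * (a ^ n)⁻¹ = δ ^ n * d := by
      intro n
      induction n with
      | zero => simp
      | succ n ih =>
        have hcδ : a * δ * a⁻¹ = δ := by
          rw [← Subgroup.mem_centralizer_singleton_iff.1 (line_le_centralizer S ha hδl), mul_inv_cancel_right]
        calc a ^ (n + 1) * d * (a ^ (n + 1))⁻¹ = a * (a ^ n * d * (a ^ n)⁻¹) * a⁻¹ := by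
              rw [pow_succ']; group
          _ = (a * δ * a⁻¹) ^ n * (a * d * a⁻¹) := by rw [ih, conj_pow]; group
          _ = δ ^ (n + 1) * d := by rw [hcδ, pow_succ, hδ, commutatorElement_def]; group
    have haM : a ^ i ∈ Subgroup.closure ({a, b} : Set G) := pow_mem (Subgroup.subset_closure (by simp)) i
    refine ⟨a ^ i * b * (a ^ i)⁻¹, ⟨a ^ i * x * (a ^ i)⁻¹, S.conjK_mem (pow_mem ha.mem i) hx, ?_⟩,
      mul_mem (mul_mem haM (Subgroup.subset_closure (by simp))) (inv_mem haM), ?_⟩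
    · rw [hb]; group
    · rw [line_conj S hbT.mem (pow_mem ha.mem i), ← hi, ← hpow]
      exact ⟨d, hd, rfl⟩
  -- hence all conjugates lie in the subgroup
  have hall : ∀ t ∈ conjSet K a, t ∈ Subgroup.closure ({a, b} : Set G) ∧ line V t ≤ W := by
    intro t ht
    have htT := conjSet_tv S ha ht
    obtain ⟨r, hrW, hr1⟩ : ∃ r ∈ W ⊓ Subgroup.centralizer ({t} : Set G), r ≠ 1 := by
      have hne0 : W ⊓ Subgroup.centralizer ({t} : Set G) ≠ ⊥ := by
        intro e
        have e' : W ⊓ (V ⊓ Subgroup.centralizer ({t} : Set G)) = ⊥ := le_bot_iff.1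
          (le_trans (inf_le_inf_left _ inf_le_right) e.le)
        have h := card_sup_mul_inf S.hV hWV (inf_le_left : V ⊓ Subgroup.centralizer ({t} : Set G) ≤ V)
        rw [e', Subgroup.card_bot, mul_one, hcard] at h
        have h4 : p ^ 2 * Nat.card (V ⊓ Subgroup.centralizer ({t} : Set G) : Subgroup G) ≤ Nat.card V :=
          h ▸ Subgroup.card_le_of_le (sup_le hWV inf_le_left)
        rw [← htT.card_fix, sq, mul_assoc] at h4
        have := Nat.le_of_mul_le_mul_left h4 hp.out.pos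
        have h5 := lt_mul_of_one_lt_left (Nat.card_pos
          (α := (V ⊓ Subgroup.centralizer ({t} : Set G) : Subgroup G))) hp.out.one_lt
        omega
      obtain ⟨r, hr, hr1⟩ := SetLike.exists_of_lt (bot_lt_iff_ne_bot.2 hne0)
      exact ⟨r, hr, fun e => hr1 (e ▸ one_mem _)⟩
    obtain ⟨u, hu, huM, hru⟩ := hcover r hrW.1 hr1
    have huT := conjSet_tv S ha hu
    obtain ⟨y, hy, hty⟩ : t ∈ conjSet K u := by rw [conjSet_eq hu]; exact ht
    have hlu : line V u ≤ Subgroup.centralizer ({t} : Set G) := by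
      have hl : Subgroup.zpowers r = line V u := Subgroup.eq_of_le_of_card_ge (Subgroup.zpowers_le.2 hru)
        (by rw [card_line S huT, card_zpowers_prime (S.hV.2 r (hWV hrW.1)) hr1])
      rw [← hl, Subgroup.zpowers_le]
      exact hrW.2
    by_cases hcm : u * (y * u * y⁻¹) = (y * u * y⁻¹) * u
    swap
    · exact absurd (hty ▸ hlu) (pair S huT hy hcm).2.1
    have htu : t = u := by
      have hK : y * u * y⁻¹ * u⁻¹ ∈ K := by
        rw [show y * u * y⁻¹ * u⁻¹ = y * (u * y⁻¹ * u⁻¹) by group]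
        exact mul_mem hy (S.conjK_mem huT.mem (inv_mem hy))
      have h1 := S.eq_one_of_pow hK (by
        rw [((show Commute u (y * u * y⁻¹) from hcm).symm.inv_right).mul_pow, conj_pow, inv_pow,
          huT.pow_eq_one]; group)
      rw [mul_inv_eq_one] at h1
      rw [hty, h1]
    subst htu
    refine ⟨huM, ?_⟩
    have hl : Subgroup.zpowers r = line V t := Subgroup.eq_of_le_of_card_ge (Subgroup.zpowers_le.2 hru)
      (by rw [card_line S huT, card_zpowers_prime (S.hV.2 r (hWV hrW.1)) hr1])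
    rw [← hl, Subgroup.zpowers_le]
    exact hrW.1
  have hcomp : comp K a = Subgroup.closure ({a, b} : Set G) := le_antisymm
    ((Subgroup.closure_le _).2 fun t ht => (hall t ht).1)
    (Subgroup.closure_mono (by rintro t (rfl | rfl); exacts [self_mem_conjSet K t, hbC]))
  have hplane : plane V K a = W := by
    refine le_antisymm ?_ (sup_le (Subgroup.commutator_mono le_rfl (Subgroup.zpowers_le.2 (self_mem_comp K a)))
      (Subgroup.commutator_mono le_rfl (Subgroup.zpowers_le.2 (Subgroup.subset_closure hbC))))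
    have hWn : Subgroup.closure ({a, b} : Set G) ≤ Subgroup.normalizer (W : Set G) := by
      rw [Subgroup.closure_le]
      intro t ht
      have htC : t ∈ conjSet K a := by rcases ht with rfl | rfl; exacts [self_mem_conjSet K t, hbC]
      have htT := conjSet_tv S ha htC
      rw [SetLike.mem_coe, Subgroup.mem_normalizer_iff_map_conj_eq]
      refine Subgroup.eq_of_le_of_card_ge ?_ (Subgroup.card_map_of_injective (MulAut.conj t).injective).ge
      rintro _ ⟨w, hw, rfl⟩
      rw [MonoidHom.coe_coe, MulAut.conj_apply, show t * w * t⁻¹ = ⁅t, w⁆ * w by rw [commutatorElement_def]; group]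
      exact mul_mem ((hall t htC).2 (mem_line S htT.mem (hWV hw))) hw
    rw [plane, hcomp, Subgroup.commutator_le]
    intro v hv m hm
    rw [← commutatorElement_inv]
    refine inv_mem ?_
    induction hm using Subgroup.closure_induction generalizing v with
    | mem t ht =>
      have htC : t ∈ conjSet K a := by rcases ht with rfl | rfl; exacts [self_mem_conjSet K t, hbC]
      exact (hall t htC).2 (mem_line S (conjSet_tv S ha htC).mem hv)
    | one => simp
    | mul m n hm hn ihm ihn =>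
      have e : ⁅m * n, v⁆ = ⁅m, n * v * n⁻¹⁆ * ⁅n, v⁆ := by simp only [commutatorElement_def]; group
      rw [e]
      exact mul_mem (ihm _ (S.conj_mem (hMH hn) hv)) (ihn v hv)
    | inv m hm ihm =>
      have e : ⁅m⁻¹, v⁆ = ⁅m, m⁻¹ * v * m⁆⁻¹ := by simp only [commutatorElement_def]; group
      rw [e]
      exact inv_mem (ihm _ (by simpa using S.conj_mem (inv_mem (hMH hm)) hv : m⁻¹ * v * m ∈ V))
  refine ⟨b, hbC, rfl, hcomp, hplane, h1, h2, hplane ▸ hcard, hplane ▸ hfix, ?_, ?_⟩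
  · rw [hcomp, hplane]; exact hf
  · intro r hr hr1
    obtain ⟨t, ht, -, hrt⟩ := hcover r (hplane ▸ hr) hr1
    exact ⟨t, ht, hrt⟩

/-- The basic facts on a component. -/
theorem comp_spec (S : Setting p V H K) {a : G} (ha : Tv p V H a) :
    ∃ b ∈ conjSet K a, comp K a = Subgroup.closure ({a, b} : Set G) ∧
      plane V K a = line V a ⊔ line V b ∧ ¬ line V b ≤ Subgroup.centralizer ({a} : Set G) ∧
      ¬ line V a ≤ Subgroup.centralizer ({b} : Set G) ∧
      Nat.card (plane V K a) = p ^ 2 ∧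
      (∀ r ∈ plane V K a, r * a = a * r → r ∈ line V a) ∧
      (∀ m ∈ comp K a, (∀ w ∈ plane V K a, m * w * m⁻¹ = w) → m = 1) ∧
      (∀ r ∈ plane V K a, r ≠ 1 → ∃ t ∈ conjSet K a, r ∈ line V t) := by
  obtain ⟨x, hx, hne⟩ := exists_noncomm S ha
  obtain ⟨b, hb, -, h⟩ := comp_spec_at S ha hx hne
  exact ⟨b, hb, h⟩

/-- `g` acts on the plane with basis `w₁, w₂` through the matrix `M`. -/
def Rel (w₁ w₂ g : G) (M : Matrix.SpecialLinearGroup (Fin 2) (ZMod p)) : Prop :=
  ∀ i j : ZMod p, g * (w₁ ^ i.val * w₂ ^ j.val) * g⁻¹ =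
    w₁ ^ ((M : Matrix (Fin 2) (Fin 2) (ZMod p)) 0 0 * i + (M : Matrix (Fin 2) (Fin 2) (ZMod p)) 0 1 * j).val *
    w₂ ^ ((M : Matrix (Fin 2) (Fin 2) (ZMod p)) 1 0 * i + (M : Matrix (Fin 2) (Fin 2) (ZMod p)) 1 1 * j).val

omit [Finite G] in
theorem Rel.mul {w₁ w₂ g g' : G} {M M' : Matrix.SpecialLinearGroup (Fin 2) (ZMod p)}
    (h : Rel w₁ w₂ g M) (h' : Rel w₁ w₂ g' M') : Rel w₁ w₂ (g * g') (M * M') := by
  intro i j
  rw [show g * g' * (w₁ ^ i.val * w₂ ^ j.val) * (g * g')⁻¹ = g * (g' * (w₁ ^ i.val * w₂ ^ j.val) * g'⁻¹) * g⁻¹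
    by group, h' i j, h]
  congr 2 <;>
  · simp only [Matrix.SpecialLinearGroup.coe_mul, Matrix.mul_apply, Fin.sum_univ_two]
    congr 1
    ring

omit [Finite G] in
theorem Rel.one (w₁ w₂ : G) : Rel w₁ w₂ (1 : G) (1 : Matrix.SpecialLinearGroup (Fin 2) (ZMod p)) := by
  intro i j
  simp

open Timmesfeld in
theorem comp_equiv (S : Setting p V H K) {a : G} (ha : Tv p V H a) :
    Nonempty (comp K a ≃* Matrix.SpecialLinearGroup (Fin 2) (ZMod p)) := by
  classical
  obtain ⟨b, hbC, hcomp, hplane, h1, h2, hcard, hfix, hf, -⟩ := comp_spec S ha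
  have hbT := conjSet_tv S ha hbC
  obtain ⟨w₂, hw₂, hw₂a⟩ := SetLike.not_le_iff_exists.1 h1
  set w₁ := ⁅a, w₂⁆ with hw₁def
  have hw₂V : w₂ ∈ V := line_le S hbT.mem hw₂
  have hw₁ : w₁ ∈ line V a := mem_line S ha.mem hw₂V
  have hw₁1 : w₁ ≠ 1 := fun e => hw₂a (Subgroup.mem_centralizer_singleton_iff.2
    (commutatorElement_eq_one_iff_mul_comm.1 e).symm)
  have hw₂1 : w₂ ≠ 1 := fun e => hw₂a (e ▸ one_mem _)
  have hw₁V : w₁ ∈ V := line_le S ha.mem hw₁
  have hw₁p : w₁ ^ p = 1 := S.hV.2 _ hw₁V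
  have hw₂p : w₂ ^ p = 1 := S.hV.2 _ hw₂V
  have hl₁ : Subgroup.zpowers w₁ = line V a := Subgroup.eq_of_le_of_card_ge (Subgroup.zpowers_le.2 hw₁)
    (by rw [card_line S ha, card_zpowers_prime hw₁p hw₁1])
  have hl₂ : Subgroup.zpowers w₂ = line V b := Subgroup.eq_of_le_of_card_ge (Subgroup.zpowers_le.2 hw₂)
    (by rw [card_line S hbT, card_zpowers_prime hw₂p hw₂1])
  haveI : NeZero p := ⟨hp.out.ne_zero⟩
  -- coordinates
  have hsurj : ∀ w ∈ plane V K a, ∃ i j : ZMod p, w = w₁ ^ i.val * w₂ ^ j.val := by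
    intro w hw
    rw [hplane] at hw
    have hw' : w ∈ (line V a : Set G) * (line V b : Set G) := by
      rw [← Subgroup.coe_mul_of_right_le_normalizer_left (line V a) (line V b)
        (((line_le S hbT.mem).trans (le_centralizer_of_ea S.hV (line_le S ha.mem))).trans
        (Subgroup.centralizer_le_normalizer _))]
      exact hw
    obtain ⟨c, hc, d, hd, rfl⟩ := Set.mem_mul.1 hw'
    rw [← hl₁] at hc
    rw [← hl₂] at hd
    obtain ⟨i, rfl⟩ := Submonoid.mem_powers_iff _ _ |>.1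
      ((isOfFinOrder_of_finite w₁).mem_powers_iff_mem_zpowers.2 hc)
    obtain ⟨j, rfl⟩ := Submonoid.mem_powers_iff _ _ |>.1
      ((isOfFinOrder_of_finite w₂).mem_powers_iff_mem_zpowers.2 hd)
    exact ⟨i, j, by rw [ZMod.val_natCast, ZMod.val_natCast, ← pow_eq_pow_mod _ hw₁p, ← pow_eq_pow_mod _ hw₂p]⟩
  have hinj : ∀ i j i' j' : ZMod p, w₁ ^ i.val * w₂ ^ j.val = w₁ ^ i'.val * w₂ ^ j'.val → i = i' ∧ j = j' := by
    intro i j i' j' he
    have hm : (w₁ ^ i'.val)⁻¹ * w₁ ^ i.val = w₂ ^ j'.val * (w₂ ^ j.val)⁻¹ := by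
      rw [eq_mul_inv_iff_mul_eq, mul_assoc, he, inv_mul_cancel_left]
    have hx1 : (w₁ ^ i'.val)⁻¹ * w₁ ^ i.val = 1 := by
      have hla : (w₁ ^ i'.val)⁻¹ * w₁ ^ i.val ∈ line V a := mul_mem (inv_mem (pow_mem hw₁ _)) (pow_mem hw₁ _)
      have hlb : (w₁ ^ i'.val)⁻¹ * w₁ ^ i.val ∈ line V b :=
        hm ▸ mul_mem (pow_mem hw₂ _) (inv_mem (pow_mem hw₂ _))
      by_contra hne
      have e1 : Subgroup.zpowers ((w₁ ^ i'.val)⁻¹ * w₁ ^ i.val) = line V b :=
        Subgroup.eq_of_le_of_card_ge (Subgroup.zpowers_le.2 hlb)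
          (by rw [card_line S hbT, card_zpowers_prime (S.hV.2 _ (line_le S ha.mem hla)) hne])
      exact h1 (e1 ▸ (Subgroup.zpowers_le.2 hla).trans (line_le_centralizer S ha))
    have key : ∀ (w : G), w ≠ 1 → w ^ p = 1 → ∀ s t : ZMod p, w ^ s.val = w ^ t.val → s = t := by
      intro w hw hwp s t h
      have ho := orderOf_eq_prime hwp hw
      exact ZMod.val_injective p
        (pow_injOn_Iio_orderOf (by rw [Set.mem_Iio, ho]; exact ZMod.val_lt s)
          (by rw [Set.mem_Iio, ho]; exact ZMod.val_lt t) h)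
    refine ⟨key w₁ hw₁1 hw₁p _ _ (inv_mul_eq_one.1 hx1).symm, (key w₂ hw₂1 hw₂p _ _ ?_).symm⟩
    rw [hm, mul_inv_eq_one] at hx1
    exact hx1
  -- transvections
  have hRa : Rel (p := p) w₁ w₂ a (upperSL (1 : ZMod p)) := by
    intro i j
    have e1 : a * w₁ * a⁻¹ = w₁ := by
      rw [← Subgroup.mem_centralizer_singleton_iff.1 (line_le_centralizer S ha hw₁), mul_inv_cancel_right]
    have e2 : a * w₂ * a⁻¹ = w₁ * w₂ := by rw [hw₁def, commutatorElement_def]; group
    simp only [upperSL_coe, Matrix.of_apply, Matrix.cons_val', Matrix.cons_val_zero, Matrix.cons_val_one,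
      Matrix.cons_val_fin_one, one_mul, zero_mul, zero_add]
    rw [show a * (w₁ ^ i.val * w₂ ^ j.val) * a⁻¹ = (a * w₁ ^ i.val * a⁻¹) * (a * w₂ ^ j.val * a⁻¹) by group,
      ← conj_pow, ← conj_pow, e1, e2, (show Commute w₁ w₂ from S.comm hw₁V hw₂V).mul_pow, ← mul_assoc,
      Timmesfeld.pow_val_add hw₁p]
  obtain ⟨β, hβ, hRb⟩ : ∃ β : ZMod p, β ≠ 0 ∧ Rel (p := p) w₁ w₂ b (lowerSL β) := by
    have hc : ⁅b, w₁⁆ ∈ Subgroup.zpowers w₂ := hl₂ ▸ mem_line S hbT.mem hw₁V
    obtain ⟨k, hk⟩ := Submonoid.mem_powers_iff _ _ |>.1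
      ((isOfFinOrder_of_finite w₂).mem_powers_iff_mem_zpowers.2 hc)
    refine ⟨(k : ZMod p), fun h0 => h2 ?_, fun i j => ?_⟩
    · rw [ZMod.natCast_eq_zero_iff] at h0
      obtain ⟨d, rfl⟩ := h0
      rw [pow_mul, hw₂p, one_pow, eq_comm, commutatorElement_eq_one_iff_mul_comm] at hk
      rw [← hl₁, Subgroup.zpowers_le, Subgroup.mem_centralizer_singleton_iff]
      exact hk.symm
    · have e1 : b * w₁ * b⁻¹ = w₁ * w₂ ^ k := by
        rw [hk, S.comm hw₁V (line_le S hbT.mem (mem_line S hbT.mem hw₁V)), commutatorElement_def]; group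
      have e2 : b * w₂ * b⁻¹ = w₂ := by
        rw [← Subgroup.mem_centralizer_singleton_iff.1 (line_le_centralizer S hbT hw₂), mul_inv_cancel_right]
      simp only [lowerSL_coe, Matrix.of_apply, Matrix.cons_val', Matrix.cons_val_zero, Matrix.cons_val_one,
        Matrix.cons_val_fin_one, one_mul, zero_mul, add_zero]
      rw [show b * (w₁ ^ i.val * w₂ ^ j.val) * b⁻¹ = (b * w₁ ^ i.val * b⁻¹) * (b * w₂ ^ j.val * b⁻¹) by group,
        ← conj_pow, ← conj_pow, e1, e2, (show Commute w₁ (w₂ ^ k) from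
          (show Commute w₁ w₂ from S.comm hw₁V hw₂V).pow_right k).mul_pow, mul_assoc, ← pow_mul, ← pow_add]
      congr 1
      have hcast : ((k : ZMod p) * i + j) = ((k * i.val + j.val : ℕ) : ZMod p) := by
        push_cast [ZMod.natCast_zmod_val]; ring
      rw [hcast, ZMod.val_natCast, ← pow_eq_pow_mod _ hw₂p]
  -- existence in both directions
  have hto : ∀ g ∈ comp K a, ∃ M, Rel (p := p) w₁ w₂ g M := by
    rw [hcomp]
    intro g hg
    have hg' : g ∈ Submonoid.closure ({a, b} : Set G) := by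
      rw [← Subgroup.closure_toSubmonoid_of_finite]; exact hg
    induction hg' using Submonoid.closure_induction with
    | mem t ht =>
      rcases ht with rfl | rfl
      · exact ⟨_, hRa⟩
      · exact ⟨_, hRb⟩
    | one => exact ⟨1, Rel.one (p := p) _ _⟩
    | mul x y hx hy ihx ihy =>
      obtain ⟨M, hM⟩ := ihx (by rw [← Subgroup.mem_toSubmonoid, Subgroup.closure_toSubmonoid_of_finite]; exact hx)
      obtain ⟨M', hM'⟩ := ihy (by rw [← Subgroup.mem_toSubmonoid, Subgroup.closure_toSubmonoid_of_finite]; exact hy)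
      exact ⟨_, hM.mul hM'⟩
  have hfrom : ∀ M, ∃ g ∈ comp K a, Rel (p := p) w₁ w₂ g M := by
    intro M
    have hu : ∀ c : ZMod p, ∃ g ∈ comp K a, Rel (p := p) w₁ w₂ g (upperSL c) := by
      intro c
      refine ⟨a ^ c.val, pow_mem (self_mem_comp K a) _, ?_⟩
      suffices h : ∀ n : ℕ, Rel (p := p) w₁ w₂ (a ^ n) (upperSL (n : ZMod p)) by
        simpa using h c.val
      intro n
      induction n with
      | zero => simpa [upperSL_zero] using Rel.one (p := p) w₁ w₂
      | succ n ih => rw [pow_succ, Nat.cast_succ, ← upperSL_mul]; exact ih.mul hRa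
    have hl : ∀ c : ZMod p, ∃ g ∈ comp K a, Rel (p := p) w₁ w₂ g (lowerSL c) := by
      intro c
      refine ⟨b ^ (c / β).val, pow_mem (Subgroup.subset_closure hbC) _, ?_⟩
      suffices h : ∀ n : ℕ, Rel (p := p) w₁ w₂ (b ^ n) (lowerSL ((n : ZMod p) * β)) by
        simpa [div_mul_cancel₀ _ hβ] using h (c / β).val
      intro n
      induction n with
      | zero => simpa [lowerSL_zero] using Rel.one (p := p) w₁ w₂
      | succ n ih => rw [pow_succ, Nat.cast_succ, add_mul, one_mul, ← lowerSL_mul]; exact ih.mul hRb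
    refine Matrix.SL2.transvection_induction (fun M => ∃ g ∈ comp K a, Rel (p := p) w₁ w₂ g M)
      (fun i j hij c => ?_) ?_ M
    · fin_cases i <;> fin_cases j <;> first | exact absurd rfl hij | skip
      · convert hu c using 4
        ext i j; fin_cases i <;> fin_cases j <;>
          simp [Matrix.SpecialLinearGroup.transvection_coe, Matrix.transvection]
      · convert hl c using 4
        ext i j; fin_cases i <;> fin_cases j <;>
          simp [Matrix.SpecialLinearGroup.transvection_coe, Matrix.transvection]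
    · rintro M M' ⟨g, hg, hM⟩ ⟨g', hg', hM'⟩
      exact ⟨g * g', mul_mem hg hg', hM.mul hM'⟩
  have huniqM : ∀ g M M', Rel (p := p) w₁ w₂ g M → Rel (p := p) w₁ w₂ g M' → M = M' := by
    intro g M M' h h'
    obtain ⟨a1, a2⟩ := hinj _ _ _ _ ((h 1 0).symm.trans (h' 1 0))
    obtain ⟨a3, a4⟩ := hinj _ _ _ _ ((h 0 1).symm.trans (h' 0 1))
    simp at a1 a2 a3 a4
    ext i j
    fin_cases i <;> fin_cases j <;> assumption
  have huniqg : ∀ g g' M, g ∈ comp K a → g' ∈ comp K a → Rel (p := p) w₁ w₂ g M → Rel (p := p) w₁ w₂ g' M → g = g' := by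
    intro g g' M hg hg' h h'
    rw [← mul_inv_eq_one]
    refine inv_eq_one.1 ?_
    refine hf _ (inv_mem (mul_mem hg (inv_mem hg'))) fun w hw => ?_
    have hu : g⁻¹ * w * g⁻¹⁻¹ ∈ plane V K a :=
      (Subgroup.mem_normalizer_iff.1 (Subgroup.normalizer_commutator_ge_right V (comp K a) (inv_mem hg)) w).1 hw
    obtain ⟨i, j, hij⟩ := hsurj _ hu
    calc (g * g'⁻¹)⁻¹ * w * (g * g'⁻¹)⁻¹⁻¹ = g' * (g⁻¹ * w * g⁻¹⁻¹) * g'⁻¹ := by group
      _ = g * (g⁻¹ * w * g⁻¹⁻¹) * g⁻¹ := by rw [hij, h i j, h' i j]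
      _ = w := by group
  choose φ hφ using fun g : comp K a => hto g g.2
  refine ⟨MulEquiv.ofBijective
    ({ toFun := φ
       map_one' := huniqM _ _ _ (hφ 1) (Rel.one (p := p) _ _)
       map_mul' := fun x y => huniqM _ _ _ (hφ (x * y)) ((hφ x).mul (hφ y)) } :
      comp K a →* Matrix.SpecialLinearGroup (Fin 2) (ZMod p)) ⟨fun x y h => ?_, fun M => ?_⟩⟩
  · exact Subtype.ext (huniqg _ _ _ x.2 y.2 (hφ x) ((show φ x = φ y from h) ▸ hφ y))
  · obtain ⟨g, hg, hM⟩ := hfrom M
    exact ⟨⟨g, hg⟩, huniqM _ _ _ (hφ _) hM⟩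

end Cfsg.Agent.FF
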