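import Cfsg.Agent.Lib.PLocal.FF.Factor
import Cfsg.Agent.Lib.PLocal.FF.Aut
import Cfsg.Agent.Lib.Solvable.Coprime

/-!
Failure of factorization under the coprime action of an elementary abelian group.
-/

set_option autoImplicit false
set_option linter.style.haveILetI false
set_option linter.unusedSectionVars false
set_option linter.unusedVariables false
open scoped commutatorElement Pointwise

namespace Cfsg.Agent.FF

open Cfsg.Agent

universe u

variable {G : Type u} [Group G] [Finite G] {p : ℕ} [hp : Fact p.Prime]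

theorem map_zClosure (e : MulAut G) : (zClosure p G).map e.toMonoidHom = zClosure p G := by
  refine Subgroup.eq_of_le_of_card_ge ?_ (Subgroup.card_map_of_injective e.injective).ge
  rw [zClosure, Subgroup.map_iSup]
  refine iSup_le fun S => ?_
  rw [OmegaOne.map_center _ e.injective.injOn]
  refine le_trans (le_of_eq ?_) (le_iSup (fun T : Sylow p G => Cfsg.omegaOne p
    ((T : Subgroup G) ⊓ Subgroup.centralizer ((T : Subgroup G) : Set G))) (S.mapSurjective (f := e.toMonoidHom) e.surjective))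
  rfl

theorem map_centralizer_of_map {V : Subgroup G} (e : MulAut G) (h : V.map e.toMonoidHom = V) :
    (Subgroup.centralizer (V : Set G)).map e.toMonoidHom = Subgroup.centralizer (V : Set G) := by
  refine Subgroup.eq_of_le_of_card_ge ?_ (Subgroup.card_map_of_injective e.injective).ge
  rintro _ ⟨c, hc, rfl⟩
  refine Subgroup.mem_centralizer_iff.2 fun v hv => ?_
  obtain ⟨u, hu, rfl⟩ := h.ge hv
  rw [← map_mul, ← map_mul, Subgroup.mem_centralizer_iff.1 hc u hu]

variable (V : Subgroup G) [V.Normal]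

/-- The automorphism of `V ⋊ G / C_G(V)` induced by an automorphism of `G` fixing `V`. -/
noncomputable def semiAut (e : MulAut G) (h : V.map e.toMonoidHom = V) : MulAut (Semi V) :=
  SemidirectProduct.congr ((e.subgroupMap V).trans (MulEquiv.subgroupCongr h))
    (QuotientGroup.congr (Subgroup.centralizer (V : Set G)) (Subgroup.centralizer (V : Set G)) e
      (map_centralizer_of_map e h))
    (fun x => by
      obtain ⟨g, rfl⟩ := QuotientGroup.mk'_surjective _ x
      ext v
      show e ((MulAut.conjNormal g v : V) : G) = _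
      rw [MulAut.conjNormal_apply, map_mul, map_mul, map_inv]
      rfl)

theorem semiAut_toSemi (e : MulAut G) (h : V.map e.toMonoidHom = V) (g : G) :
    semiAut V e h (toSemi V g) = toSemi V (e g) := by
  refine SemidirectProduct.ext ?_ ?_
  · show ((e.subgroupMap V).trans (MulEquiv.subgroupCongr h)) 1 = 1
    exact map_one _
  · rfl

theorem semiAut_inV (e : MulAut G) (h : V.map e.toMonoidHom = V) (v : V) :
    semiAut V e h (inV V v) = inV V ⟨e v, h.le ⟨v, v.2, rfl⟩⟩ := by
  refine SemidirectProduct.ext ?_ ?_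
  · rfl
  · exact map_one _

theorem semi_ext {σ τ : MulAut (Semi V)} (h1 : ∀ g, σ (toSemi V g) = τ (toSemi V g))
    (h2 : ∀ v, σ (inV V v) = τ (inV V v)) : σ = τ := by
  ext1 x
  obtain ⟨g, hg⟩ := QuotientGroup.mk'_surjective _ x.right
  have hx : x = inV V x.left * toSemi V g := by
    rw [toSemi, MonoidHom.comp_apply, hg]
    exact (SemidirectProduct.inl_left_mul_inr_right x).symm
  rw [hx, map_mul, map_mul, h1, h2]

/-- An action on `G` fixing `V` induces one on `V ⋊ G / C_G(V)`. -/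
noncomputable def semiHom {X : Type*} [Group X] (α : X →* MulAut G) (h : ∀ x, V.map (α x).toMonoidHom = V) :
    X →* MulAut (Semi V) where
  toFun x := semiAut V (α x) (h x)
  map_one' := semi_ext V (fun g => by rw [semiAut_toSemi, map_one]; rfl)
    (fun v => by rw [semiAut_inV]; simp [map_one])
  map_mul' x y := semi_ext V
    (fun g => by rw [semiAut_toSemi, MulAut.mul_apply, semiAut_toSemi, semiAut_toSemi, map_mul]; rfl)
    (fun v => by
      rw [semiAut_inV, MulAut.mul_apply, semiAut_inV, semiAut_inV]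
      simp only [map_mul, MulAut.mul_apply])

/-- The image of `J(G)`. -/
abbrev jImage (p : ℕ) : Subgroup (G ⧸ Subgroup.centralizer (V : Set G)) :=
  (Cfsg.thompsonSubgroup p G).map (QuotientGroup.mk' _)

instance jImage_normal : (jImage V p).Normal := by
  haveI := Thompson.thompsonSubgroup_characteristic p G
  exact Subgroup.Normal.map inferInstance _ (QuotientGroup.mk'_surjective _)

/-- The group generated by the offenders. -/
abbrev jH (p : ℕ) : Subgroup (Semi V) := (jImage V p).map (SemidirectProduct.inr : _ →* Semi V)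

/-- Its core of order prime to `p`. -/
abbrev jK (p : ℕ) : Subgroup (Semi V) :=
  ((Cfsg.pPrimeCore p ↥(jImage V p)).map (jImage V p).subtype).map (SemidirectProduct.inr : _ →* Semi V)

theorem jH_eq : jH V p = (Cfsg.thompsonSubgroup p G).map (toSemi V) := by
  rw [jH, jImage, Subgroup.map_map]; rfl

theorem sym_semiAut (e : MulAut G) (h : V.map e.toMonoidHom = V) :
    Sym (inV V).range (jH V p) (jK V p) (semiAut V e h) := by
  haveI := Thompson.thompsonSubgroup_characteristic p G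
  have hJ : (Cfsg.thompsonSubgroup p G).map e.toMonoidHom = Cfsg.thompsonSubgroup p G :=
    Subgroup.characteristic_iff_map_eq.1 inferInstance e
  refine ⟨?_, ?_, ?_⟩
  · refine Subgroup.eq_of_le_of_card_ge ?_
      (Subgroup.card_map_of_injective (semiAut V e h).injective).ge
    rintro _ ⟨_, ⟨v, rfl⟩, rfl⟩
    exact ⟨_, (semiAut_inV V e h v).symm⟩
  · rw [jH_eq]
    refine Subgroup.eq_of_le_of_card_ge ?_
      (Subgroup.card_map_of_injective (semiAut V e h).injective).ge
    rintro _ ⟨_, ⟨g, hg, rfl⟩, rfl⟩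
    exact ⟨e g, hJ.le ⟨g, hg, rfl⟩, (semiAut_toSemi V e h g).symm⟩
  · set N := jImage V p with hN
    set eq := QuotientGroup.congr (Subgroup.centralizer (V : Set G)) (Subgroup.centralizer (V : Set G)) e
      (map_centralizer_of_map e h) with heq
    have hNe : N.map eq.toMonoidHom = N := by
      refine Subgroup.eq_of_le_of_card_ge ?_ (Subgroup.card_map_of_injective eq.injective).ge
      rintro _ ⟨_, ⟨g, hg, rfl⟩, rfl⟩
      exact ⟨e g, hJ.le ⟨g, hg, rfl⟩, rfl⟩
    let eN : N ≃* N := (eq.subgroupMap N).trans (MulEquiv.subgroupCongr hNe)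
    have hcore := PBasic.map_pPrimeCore_equiv (p := p) eN
    refine Subgroup.eq_of_le_of_card_ge ?_
      (Subgroup.card_map_of_injective (semiAut V e h).injective).ge
    rintro _ ⟨_, ⟨_, ⟨k, hk, rfl⟩, rfl⟩, rfl⟩
    refine ⟨_, ⟨eN k, hcore.le ⟨k, hk, rfl⟩, rfl⟩, ?_⟩
    refine SemidirectProduct.ext ?_ ?_
    · exact (map_one _).symm
    · rfl

/-- The components attached to `V = ⟨Ω₁(Z(S))⟩`. -/
theorem jSetting (hsep : Cfsg.IsPSolvable p G) (hO : Cfsg.pPrimeCore p G = ⊥) :
    Setting p (inV (zClosure p G)).range (jH (zClosure p G) p) (jK (zClosure p G) p) ∧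
      jH (zClosure p G) p = Subgroup.closure
        {t | Tv p (inV (zClosure p G)).range (jH (zClosure p G) p) t} := by
  set W := zClosure p G with hW
  have hWe := zClosure_ea hsep hO
  have hOq : Cfsg.pCore p (G ⧸ Subgroup.centralizer (W : Set G)) = ⊥ := pCore_quotient_zClosure
  have S := setting_semi W hsep hWe hOq (jImage W p)
  refine ⟨S, le_antisymm ?_ ((Subgroup.closure_le _).2 fun t ht => Tv.mem ht)⟩
  have key : (Cfsg.thompsonSubgroup p G).map (toSemi W) ≤
      Subgroup.closure {t | Tv p (inV W).range (jH W p) t} := by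
    rw [Cfsg.thompsonSubgroup, sSup_eq_iSup', Subgroup.map_iSup]
    refine iSup_le fun A => ?_
    have hoff := off_image W hsep hWe hOq (jImage W p) (Thompson.isMaxEAIn_top_iff.2 A.2)
      (Subgroup.map_mono (le_sSup A.2))
    rw [Off.eq_closure S hoff]
    exact Subgroup.closure_mono fun t ht => ht.2
  exact (jH_eq W).le.trans key

theorem five_le {q : ℕ} (hq : q.Prime) (hqG : ¬ q ∣ Nat.card G) {H K W : Subgroup (Semi V)}
    (S : Setting p W H K) (hH : H ≤ (toSemi V).range) {a : Semi V} (ha : Tv p W H a) : 5 ≤ q := by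
  have hdvd : Nat.card (comp K a) ∣ Nat.card G :=
    (Subgroup.card_dvd_of_le ((comp_le S ha).trans hH)).trans (Subgroup.card_range_dvd (toSemi V))
  obtain ⟨e⟩ := comp_equiv S ha
  rw [Nat.card_congr e.toEquiv] at hdvd
  have h6 : 6 ∣ Nat.card G := by
    rcases eq_two_or_three S ha with rfl | rfl
    · rwa [Nat.card_eq_fintype_card,
        show Fintype.card (Matrix.SpecialLinearGroup (Fin 2) (ZMod 2)) = 6 by decide] at hdvd
    · rw [NearField.card_sl23] at hdvd
      exact (show (6 : ℕ) ∣ 24 by norm_num).trans hdvd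
  have h2 : q ≠ 2 := fun h => hqG (h ▸ (show (2 : ℕ) ∣ 6 by norm_num).trans h6)
  have h3 : q ≠ 3 := fun h => hqG (h ▸ (show (3 : ℕ) ∣ 6 by norm_num).trans h6)
  have h4 : q ≠ 4 := fun h => by rw [h] at hq; norm_num at hq
  have := hq.two_le
  omega

section Conj

variable (K X : Subgroup G)

/-- Conjugation of `K` by elements of `X`. -/
def actHom (hXK : X ≤ Subgroup.normalizer (K : Set G)) : X →* MulAut K where
  toFun x :=
    { toFun := fun k => ⟨(x : G) * k * (x : G)⁻¹, (Subgroup.mem_normalizer_iff.1 (hXK x.2) k).1 k.2⟩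
      invFun := fun k => ⟨(x : G)⁻¹ * k * (x : G)⁻¹⁻¹,
        (Subgroup.mem_normalizer_iff.1 (hXK (inv_mem x.2)) k).1 k.2⟩
      left_inv := fun k => Subtype.ext
        (show (x : G)⁻¹ * ((x : G) * k * (x : G)⁻¹) * (x : G)⁻¹⁻¹ = k by group)
      right_inv := fun k => Subtype.ext
        (show (x : G) * ((x : G)⁻¹ * k * (x : G)⁻¹⁻¹) * (x : G)⁻¹ = k by group)
      map_mul' := fun a b => Subtype.ext
        (show (x : G) * ((a : G) * b) * (x : G)⁻¹ =
          ((x : G) * a * (x : G)⁻¹) * ((x : G) * b * (x : G)⁻¹) by group) }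
  map_one' := by
    ext k
    show ((1 : X) : G) * k * ((1 : X) : G)⁻¹ = k
    simp
  map_mul' x y := by
    ext k
    show ((x * y : X) : G) * k * ((x * y : X) : G)⁻¹ = (x : G) * ((y : G) * k * (y : G)⁻¹) * (x : G)⁻¹
    rw [Subgroup.coe_mul]; group

theorem actHom_apply (hXK : X ≤ Subgroup.normalizer (K : Set G)) (x : X) (k : K) :
    ((actHom K X hXK x k : K) : G) = (x : G) * k * (x : G)⁻¹ := rfl

/-- The action of `X` on the semidirect product. -/
noncomputable def jAct (hXK : X ≤ Subgroup.normalizer (K : Set G)) (p : ℕ) [Fact p.Prime] :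
    X →* MulAut (Semi (zClosure p ↥K)) :=
  semiHom (zClosure p ↥K) (actHom K X hXK) fun x => map_zClosure _

theorem jAct_toSemi (hXK : X ≤ Subgroup.normalizer (K : Set G)) (x : X) (k : K) :
    jAct K X hXK p x (toSemi (zClosure p ↥K) k) = toSemi (zClosure p ↥K) (actHom K X hXK x k) :=
  semiAut_toSemi _ _ _ _

theorem jAct_inV (hXK : X ≤ Subgroup.normalizer (K : Set G)) (x : X) (v : zClosure p ↥K) :
    jAct K X hXK p x (inV (zClosure p ↥K) v) =
      inV (zClosure p ↥K) ⟨actHom K X hXK x v, (map_zClosure (actHom K X hXK x)).le ⟨v, v.2, rfl⟩⟩ :=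
  semiAut_inV _ _ _ _

theorem pow_eq_one_of_ea {q : ℕ} (hX : Cfsg.IsElementaryAbelian q X) (x : X) : x ^ q = 1 :=
  Subtype.ext (by rw [Subgroup.coe_pow]; exact hX.2 x x.2)

/-- Fixed elements of the image come from fixed elements. -/
theorem exists_fixed_preimage {q : ℕ} [Fact q.Prime] (hXK : X ≤ Subgroup.normalizer (K : Set G))
    (hX : Cfsg.IsElementaryAbelian q X) (hq : ¬ q ∣ Nat.card K) {f : Semi (zClosure p ↥K)}
    (hf : f ∈ (toSemi (zClosure p ↥K)).range) (hfix : ∀ x, jAct K X hXK p x f = f) :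
    ∃ d : K, (d : G) ∈ Subgroup.centralizer (X : Set G) ∧ toSemi (zClosure p ↥K) d = f := by
  obtain ⟨j, rfl⟩ := hf
  set C := Subgroup.centralizer ((zClosure p ↥K : Subgroup K) : Set K) with hC
  set N := C.map K.subtype with hN
  have hcop : (Nat.card X).Coprime (Nat.card K) := by
    obtain ⟨n, hn⟩ := IsPGroup.iff_card.1 (isPGroup_of_ea (p := q) hX)
    rw [hn]
    exact Nat.Coprime.pow_left _ ((Fact.out : q.Prime).coprime_iff_not_dvd.2 hq)
  have hCn : C.Normal := Subgroup.normal_centralizer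
  have hKN : K ≤ Subgroup.normalizer (N : Set G) := by
    intro k hk
    rw [Subgroup.mem_normalizer_iff_map_conj_eq]
    refine Subgroup.eq_of_le_of_card_ge ?_ (Subgroup.card_map_of_injective (MulAut.conj k).injective).ge
    rintro _ ⟨_, ⟨c, hc, rfl⟩, rfl⟩
    exact ⟨(⟨k, hk⟩ : K) * c * (⟨k, hk⟩ : K)⁻¹, hCn.conj_mem c hc _, rfl⟩
  have hXN : X ≤ Subgroup.normalizer (N : Set G) := by
    intro x hx
    rw [Subgroup.mem_normalizer_iff_map_conj_eq]
    refine Subgroup.eq_of_le_of_card_ge ?_ (Subgroup.card_map_of_injective (MulAut.conj x).injective).ge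
    rintro _ ⟨_, ⟨c, hc, rfl⟩, rfl⟩
    exact ⟨actHom K X hXK ⟨x, hx⟩ c,
      (map_centralizer_of_map _ (map_zClosure (actHom K X hXK ⟨x, hx⟩))).le ⟨c, hc, rfl⟩, rfl⟩
  obtain ⟨c, ⟨hcK, hcX⟩, hcN⟩ := CoprimeAct.exists_mem_centralizer hXK hcop
    (Or.inl (by haveI := hX.1; exact Group.isSolvable_of_comm fun a b => mul_comm' a b))
    (N := N) (Subgroup.map_subtype_le _) hKN hXN j.2 (fun x hx => by
      have h := hfix ⟨x, hx⟩
      rw [jAct_toSemi, ← mul_inv_eq_one, ← map_inv, ← map_mul, toSemi_eq_one] at h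
      exact ⟨_, h, rfl⟩)
  refine ⟨⟨c, hcK⟩, hcX, ?_⟩
  obtain ⟨y, hy, hyc⟩ := hcN
  have e : (⟨c, hcK⟩ : K) = j * y := Subtype.ext (by
    rw [Subgroup.coe_mul, show (y : G) = (j : G)⁻¹ * c from hyc, mul_inv_cancel_left])
  rw [e, map_mul, (toSemi_eq_one _).2 hy, mul_one]

/-- **Generation.** -/
theorem generated {q : ℕ} [Fact q.Prime] (hXK : X ≤ Subgroup.normalizer (K : Set G))
    (hX : Cfsg.IsElementaryAbelian q X) (hq : ¬ q ∣ Nat.card K) (hsep : Cfsg.IsPSolvable p ↥K)
    (hO : Cfsg.pPrimeCore p ↥K = ⊥) (T : Sylow p ↥K) :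
    Subgroup.normalizer (Cfsg.thompsonSubgroupOf p (T : Subgroup ↥K) : Set ↥K) ⊔
      Subgroup.centralizer
        (Cfsg.omegaOne p ((T : Subgroup ↥K) ⊓ Subgroup.centralizer ((T : Subgroup ↥K) : Set ↥K)) : Set ↥K) ⊔
      (Subgroup.centralizer (X : Set G)).subgroupOf K = ⊤ := by
  classical
  set W := zClosure p ↥K with hW
  obtain ⟨S, hgen⟩ := jSetting (G := ↥K) hsep hO
  set M := Subgroup.normalizer (Cfsg.thompsonSubgroupOf p (T : Subgroup ↥K) : Set ↥K) ⊔
      Subgroup.centralizer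
        (Cfsg.omegaOne p ((T : Subgroup ↥K) ⊓ Subgroup.centralizer ((T : Subgroup ↥K) : Set ↥K)) : Set ↥K) ⊔
      (Subgroup.centralizer (X : Set G)).subgroupOf K with hM
  set J := Cfsg.thompsonSubgroup p ↥K with hJdef
  set C := Subgroup.centralizer (W : Set K) with hC
  have hCM : C ≤ M := (Subgroup.centralizer_le (le_iSup (fun S : Sylow p ↥K => Cfsg.omegaOne p
      ((S : Subgroup ↥K) ⊓ Subgroup.centralizer ((S : Subgroup ↥K) : Set ↥K))) T)).trans
    (le_sup_of_le_left le_sup_right)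
  have hNM : Subgroup.normalizer (Cfsg.thompsonSubgroupOf p (T : Subgroup ↥K) : Set ↥K) ≤ M :=
    le_sup_of_le_left le_sup_left
  have hTM : (T : Subgroup K) ≤ M :=
    (Subgroup.le_normalizer.trans (Thompson.normalizer_le_normalizer_thompsonSubgroupOf p _)).trans hNM
  haveI : J.Normal := by
    haveI := Thompson.thompsonSubgroup_characteristic p ↥K
    infer_instance
  haveI : C.Normal := Subgroup.normal_centralizer
  set L := J ⊔ C with hL
  obtain ⟨R, hR⟩ := PBasic.exists_sylow_subgroupOf T L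
  have hrange : ∀ y ∈ jH W p, y ∈ (toSemi W).range := fun y hy => by
    obtain ⟨g, -, rfl⟩ := (jH_eq W).le hy
    exact ⟨g, rfl⟩
  have hLH : L.map (toSemi W) = jH W p := by
    rw [hL, Subgroup.map_sup, ← jH_eq, sup_eq_left]
    rintro _ ⟨c, hc, rfl⟩
    rw [(toSemi_eq_one W).2 hc]; exact one_mem _
  -- every component lies in the image of `M`
  have hcompM : ∀ a, Tv p (inV W).range (jH W p) a → comp (jK W p) a ≤ M.map (toSemi W) := by
    intro a ha
    set E := comp (jK W p) a with hE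
    set f : L →* jH W p := ((toSemi W).comp L.subtype).codRestrict (jH W p)
      (fun x => hLH.le ⟨x, x.2, rfl⟩) with hf
    have hfs : Function.Surjective f := by
      rintro ⟨y, hy⟩
      obtain ⟨g, hg, rfl⟩ := hLH.ge hy
      exact ⟨⟨g, hg⟩, rfl⟩
    haveI hEn : (E.subgroupOf (jH W p)).Normal :=
      Subgroup.normal_subgroupOf_of_le_normalizer (factor S hgen ha).2.2.2.2.2
    obtain ⟨Q, hQ⟩ := PBasic.exists_sylow_subgroupOf (R.mapSurjective hfs) (E.subgroupOf (jH W p))
    obtain ⟨hc, -⟩ := card_comp_inf S ha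
    have hcE : Nat.card (E.subgroupOf (jH W p)) = Nat.card (E ⊓ jK W p : Subgroup (Semi W)) * p := by
      rw [Nat.card_congr (Subgroup.subgroupOfEquivOfLe (comp_le S ha)).toEquiv, hc]
    have hQ1 : (Q : Subgroup (E.subgroupOf (jH W p))) ≠ ⊥ := by
      refine Q.ne_bot_of_dvd_card ?_
      rw [hcE]; exact dvd_mul_left p _
    obtain ⟨⟨w, hw⟩, hw1⟩ := (Subgroup.ne_bot_iff_exists_ne_one).1 hQ1
    rw [hQ, Subgroup.mem_subgroupOf, Sylow.coe_mapSurjective] at hw
    obtain ⟨r, hr, hrw⟩ := hw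
    set u := ((w : jH W p) : Semi W) with hu
    have huE : u ∈ E := w.2
    have hu1 : u ≠ 1 := fun h => hw1 (Subtype.ext (Subtype.ext (Subtype.ext h)))
    have huM : u ∈ M.map (toSemi W) := by
      refine ⟨(r : L), hTM ?_, ?_⟩
      · have : r ∈ (R : Subgroup L) := hr
        rw [hR] at this; exact this
      · rw [hu, ← hrw]; rfl
    -- the Sylow subgroups of `E` have order `p`
    have hindex : ∀ P : Sylow p E, Nat.card P = p := by
      intro P
      rw [P.card_eq_multiplicity, ← hc]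
      have hcop : ¬ p ∣ Nat.card (E ⊓ jK W p : Subgroup (Semi W)) := fun h =>
        hp.out.coprime_iff_not_dvd.1 (Nat.Coprime.coprime_dvd_left
          (Subgroup.card_dvd_of_le inf_le_right) S.hcop).symm h
      rw [Nat.factorization_mul Nat.card_pos.ne' hp.out.ne_zero, Finsupp.add_apply,
        Nat.factorization_eq_zero_of_not_dvd hcop, hp.out.factorization_self, zero_add, pow_one]
    obtain ⟨P₁, hP₁⟩ := (Q.2.map (Subgroup.subgroupOfEquivOfLe (comp_le S ha)).toMonoidHom).exists_le_sylow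
    set u' : E := ⟨u, huE⟩ with hu'
    have hu'P : u' ∈ (P₁ : Subgroup E) := hP₁ ⟨w, by
      show (w : E.subgroupOf (jH W p)) ∈ (Q : Subgroup (E.subgroupOf (jH W p)))
      rw [hQ, Subgroup.mem_subgroupOf, Sylow.coe_mapSurjective]
      exact ⟨r, hr, hrw⟩, Subtype.ext rfl⟩
    have hu'1 : u' ≠ 1 := fun h => hu1 (congrArg Subtype.val h)
    have hu'p : u' ^ p = 1 := by
      have h := pow_card_eq_one' (x := (⟨u', hu'P⟩ : (P₁ : Subgroup E)))
      rw [hindex P₁] at h
      exact congrArg Subtype.val h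
    have hP₁z : Subgroup.zpowers u' = (P₁ : Subgroup E) := by
      refine Subgroup.eq_of_le_of_card_ge (Subgroup.zpowers_le.2 hu'P) ?_
      rw [Nat.card_zpowers, orderOf_eq_prime hu'p hu'1]
      exact (hindex P₁).le
    -- the conjugating elements can be chosen among the fixed points
    have hconj : ∀ e ∈ E, e * u * e⁻¹ ∈ M.map (toSemi W) := by
      intro e he
      obtain ⟨f, hfH, hfix, hfr⟩ := exists_fixed_lift (jAct K X hXK p) S (Fact.out : q.Prime)
        (five_le W (Fact.out : q.Prime) hq S (fun y hy => hrange y hy) ha) (pow_eq_one_of_ea X hX)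
        (fun x => sym_semiAut W _ _) ha he
      obtain ⟨d, hdX, hd⟩ := exists_fixed_preimage K X hXK hX hq (hrange f hfH) hfix
      have hdM : d ∈ M := le_sup_right (a := Subgroup.normalizer _ ⊔ Subgroup.centralizer _) hdX
      have hcomm : u * (e⁻¹ * f) = e⁻¹ * f * u :=
        Subgroup.mem_centralizer_iff.1 (rest_le S ha hfr).1.2 u huE
      have e1 : e * u * e⁻¹ = f * u * f⁻¹ := by
        calc e * u * e⁻¹ = e * (u * (e⁻¹ * f)) * f⁻¹ := by group
          _ = e * (e⁻¹ * f * u) * f⁻¹ := by rw [hcomm]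
          _ = f * u * f⁻¹ := by group
      rw [e1]
      have hfM : f ∈ M.map (toSemi W) := ⟨d, hdM, hd⟩
      exact mul_mem (mul_mem hfM huM) (inv_mem hfM)
    have htM : ∀ t, Tv p (inV W).range (jH W p) t → t ∈ E → t ∈ M.map (toSemi W) := by
      intro t ht htE
      have htp : t ^ p = 1 := ht.2.2.1.2 t (Subgroup.mem_zpowers t)
      have htpg : IsPGroup p (Subgroup.zpowers (⟨t, htE⟩ : E)) :=
        IsPGroup.of_card (n := 1) (by
          rw [pow_one, Nat.card_zpowers, orderOf_eq_prime (Subtype.ext htp)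
            (fun h => ht.1 (congrArg Subtype.val h))])
      obtain ⟨Pt, hPt⟩ := htpg.exists_le_sylow
      obtain ⟨e, rfl⟩ := MulAction.exists_smul_eq E P₁ Pt
      have h := hPt (Subgroup.mem_zpowers _)
      rw [Sylow.coe_subgroup_smul, Subgroup.mem_pointwise_smul_iff_inv_smul_mem, ← hP₁z] at h
      obtain ⟨k, hk⟩ := h
      have hk' : (u : Semi W) ^ k = (e : Semi W)⁻¹ * t * e := by
        have h := congrArg Subtype.val hk
        simpa [u', MulAut.smul_def, mul_assoc] using h
      have e2 : t = ((e : Semi W) * u * (e : Semi W)⁻¹) ^ k := by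
        rw [conj_zpow, hk']; group
      rw [e2]
      exact zpow_mem (hconj _ e.2) k
    obtain ⟨b, hbC, hcomp, -⟩ := comp_spec S ha
    rw [hE, hcomp, Subgroup.closure_le]
    rintro t (rfl | rfl)
    · exact htM t ha (self_mem_comp _ t)
    · exact htM t (conjSet_tv S ha hbC) (Subgroup.subset_closure hbC)
  have hLM : L ≤ M := by
    intro x hx
    have h : toSemi W x ∈ M.map (toSemi W) := by
      have h1 : jH W p ≤ M.map (toSemi W) :=
        hgen.le.trans ((Subgroup.closure_le _).2 fun t ht => hcompM t ht (self_mem_comp _ t))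
      exact h1 (hLH.le ⟨x, hx, rfl⟩)
    obtain ⟨m, hm, hmx⟩ := h
    have hc : m⁻¹ * x ∈ C := (toSemi_eq_one W).1 (by rw [map_mul, map_inv, hmx, inv_mul_cancel])
    rw [show x = m * (m⁻¹ * x) by group]
    exact mul_mem hm (hCM hc)
  rw [eq_top_iff]
  have hfr := Sylow.normalizer_sup_eq_top R
  rw [hR, Subgroup.subgroupOf_map_subtype] at hfr
  rw [← hfr]
  refine sup_le (le_trans ?_ hNM) hLM
  have hJT : Cfsg.thompsonSubgroupOf p (T : Subgroup K) ≤ L :=
    (le_iSup (fun S : Sylow p ↥K => Cfsg.thompsonSubgroupOf p (S : Subgroup ↥K)) T).trans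
      (OmegaOne.thompsonSubgroup_eq_iSup.ge.trans le_sup_left)
  rw [← Thompson.thompsonSubgroupOf_eq_of_le
      (le_inf (Thompson.thompsonSubgroupOf_le p _) hJT) (inf_le_left : (T : Subgroup K) ⊓ L ≤ _)]
  exact Thompson.normalizer_le_normalizer_thompsonSubgroupOf p _

/-- **A fixed plane and the subgroup inducing `SL(2, p)` on it.** -/
theorem fixed_plane {q : ℕ} [Fact q.Prime] (hXK : X ≤ Subgroup.normalizer (K : Set G))
    (hX : Cfsg.IsElementaryAbelian q X) (hq : ¬ q ∣ Nat.card K) (hsep : Cfsg.IsPSolvable p ↥K)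
    (hO : Cfsg.pPrimeCore p ↥K = ⊥) (hnf : ¬ Cfsg.IsThompsonFactorizable p ↥K) :
    (p = 2 ∨ p = 3) ∧ ∃ W D : Subgroup G, W ≤ K ⊓ Subgroup.centralizer (X : Set G) ∧
      D ≤ K ⊓ Subgroup.centralizer (X : Set G) ∧ Cfsg.IsElementaryAbelian p W ∧
      Nat.card W = p ^ 2 ∧ D ≤ Subgroup.normalizer (W : Set G) ∧
      ∃ hn : ((Subgroup.centralizer (W : Set G)).subgroupOf D).Normal,
        Nonempty ((↥D ⧸ (Subgroup.centralizer (W : Set G)).subgroupOf D) ≃*
          Matrix.SpecialLinearGroup (Fin 2) (ZMod p)) := by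
  classical
  rw [S0608.result hO] at hnf
  obtain ⟨S, hgen⟩ := jSetting (G := ↥K) hsep hO
  obtain ⟨a, ha⟩ : ∃ a, Tv p (inV (zClosure p ↥K)).range (jH (zClosure p ↥K) p) a := by
    by_contra hcon
    apply hnf
    intro g hg
    refine (toSemi_eq_one (zClosure p ↥K)).1 ?_
    have h1 : toSemi (zClosure p ↥K) g ∈ jH (zClosure p ↥K) p := (jH_eq (zClosure p ↥K)).ge ⟨g, hg, rfl⟩
    rw [hgen, show {t | Tv p (inV (zClosure p ↥K)).range (jH (zClosure p ↥K) p) t} = (∅ : Set (Semi (zClosure p ↥K))) from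
      Set.eq_empty_iff_forall_notMem.2 fun t ht => hcon ⟨t, ht⟩, Subgroup.closure_empty,
      Subgroup.mem_bot] at h1
    exact h1
  refine ⟨eq_two_or_three S ha, ?_⟩
  have hrange : ∀ y ∈ jH (zClosure p ↥K) p, y ∈ (toSemi (zClosure p ↥K)).range := fun y hy => by
    obtain ⟨g, -, rfl⟩ := (jH_eq (zClosure p ↥K)).le hy
    exact ⟨g, rfl⟩
  have hq5 := five_le (zClosure p ↥K) (Fact.out : q.Prime) hq S (fun y hy => hrange y hy) ha
  have hXq := pow_eq_one_of_ea X hX
  have hφ : ∀ x, Sym (inV (zClosure p ↥K)).range (jH (zClosure p ↥K) p) (jK (zClosure p ↥K) p) (jAct K X hXK p x) := fun x => sym_semiAut (zClosure p ↥K) _ _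
  obtain ⟨b, -, -, -, -, -, hcard, -, hfaith, -⟩ := comp_spec S ha
  obtain ⟨δ, hδ, hδV, hδX, hδeq⟩ :=
    exists_diagonal (jAct K X hXK p) S hgen (Fact.out : q.Prime) hq5 hXq hφ ha
  obtain ⟨hfac1, hfac2, hfac3, hfac4, -, -⟩ := factor S hgen ha
  -- the plane inside `K`
  let δ' : (plane (inV (zClosure p ↥K)).range (jK (zClosure p ↥K) p) a) →* (zClosure p ↥K) :=
    (MonoidHom.ofInjective (inV_injective (zClosure p ↥K))).symm.toMonoidHom.comp (δ.codRestrict (inV (zClosure p ↥K)).range hδV)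
  have hδ' : ∀ w, inV (zClosure p ↥K) (δ' w) = δ w := fun w =>
    MonoidHom.apply_ofInjective_symm (inV_injective (zClosure p ↥K)) ⟨δ w, hδV w⟩
  have hδ'inj : Function.Injective δ' := fun u v h => hδ (by rw [← hδ' u, ← hδ' v, h])
  let θ : (plane (inV (zClosure p ↥K)).range (jK (zClosure p ↥K) p) a) →* G := K.subtype.comp ((zClosure p ↥K).subtype.comp δ')
  have hθ : Function.Injective θ :=
    K.subtype_injective.comp ((zClosure p ↥K).subtype_injective.comp hδ'inj)
  have hθK : ∀ w, θ w ∈ K := fun w => (((δ' w : (zClosure p ↥K)) : K)).2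
  have hθX : ∀ w, θ w ∈ Subgroup.centralizer (X : Set G) := by
    intro w
    refine Subgroup.mem_centralizer_iff.2 fun x hx => ?_
    have h := hδX ⟨x, hx⟩ w
    rw [← hδ', jAct_inV, (inV_injective (zClosure p ↥K)).eq_iff] at h
    have h2 : x * θ w * x⁻¹ = θ w := congrArg (fun v : (zClosure p ↥K) => ((v : K) : G)) h
    exact mul_inv_eq_iff_eq_mul.1 h2
  set W₀ := θ.range with hW₀
  let D₀ : Subgroup K := (Subgroup.centralizer (X : Set G)).subgroupOf K ⊓ (jH (zClosure p ↥K) p).comap (toSemi (zClosure p ↥K))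
  have hfix : ∀ d ∈ D₀, ∀ x, jAct K X hXK p x (toSemi (zClosure p ↥K) d) = toSemi (zClosure p ↥K) d := by
    intro d hd x
    rw [jAct_toSemi]
    congr 1
    refine Subtype.ext ?_
    rw [actHom_apply, mul_inv_eq_iff_eq_mul]
    exact Subgroup.mem_centralizer_iff.1 hd.1 x x.2
  have heq : ∀ d ∈ D₀, ∀ w : (plane (inV (zClosure p ↥K)).range (jK (zClosure p ↥K) p) a), ∃ hm : toSemi (zClosure p ↥K) d * (w : Semi (zClosure p ↥K)) * (toSemi (zClosure p ↥K) d)⁻¹ ∈ (plane (inV (zClosure p ↥K)).range (jK (zClosure p ↥K) p) a),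
      (d : G) * θ w * (d : G)⁻¹ = θ ⟨_, hm⟩ := by
    intro d hd w
    obtain ⟨hm, h⟩ := hδeq _ hd.2 (hfix d hd) w
    refine ⟨hm, ?_⟩
    rw [← hδ', ← hδ', conj_inV, (inV_injective (zClosure p ↥K)).eq_iff] at h
    exact congrArg (fun v : (zClosure p ↥K) => ((v : K) : G)) h
  -- the action on the component
  have hmul : ∀ y ∈ jH (zClosure p ↥K) p, ∃ e : (comp (jK (zClosure p ↥K) p) a), (e : Semi (zClosure p ↥K))⁻¹ * y ∈ rest p (inV (zClosure p ↥K)).range (jH (zClosure p ↥K) p) (jK (zClosure p ↥K) p) a := by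
    intro y hy
    have hmem : y ∈ ((comp (jK (zClosure p ↥K) p) a) : Set (Semi (zClosure p ↥K))) * (rest p (inV (zClosure p ↥K)).range (jH (zClosure p ↥K) p) (jK (zClosure p ↥K) p) a : Set (Semi (zClosure p ↥K))) := by
      rw [← Subgroup.coe_mul_of_right_le_normalizer_left (comp (jK (zClosure p ↥K) p) a) _
        (((rest_le S ha).trans (inf_le_left.trans inf_le_right)).trans
          (Subgroup.centralizer_le_normalizer _)), hfac2]
      exact hy
    obtain ⟨e, he, f, hf, rfl⟩ := Set.mem_mul.1 hmem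
    exact ⟨⟨e, he⟩, by rwa [inv_mul_cancel_left]⟩
  choose π hπ using fun d : D₀ => hmul (toSemi (zClosure p ↥K) (d : K)) d.2.2
  have huniq : ∀ (d : D₀) (e : (comp (jK (zClosure p ↥K) p) a)),
      (e : Semi (zClosure p ↥K))⁻¹ * toSemi (zClosure p ↥K) (d : K) ∈ rest p (inV (zClosure p ↥K)).range (jH (zClosure p ↥K) p) (jK (zClosure p ↥K) p) a → π d = e := by
    intro d e he
    refine Subtype.ext (eq_of_inv_mul_eq_one ?_)
    have h1 : ((π d : (comp (jK (zClosure p ↥K) p) a)) : Semi (zClosure p ↥K))⁻¹ * e ∈ (comp (jK (zClosure p ↥K) p) a) ⊓ rest p (inV (zClosure p ↥K)).range (jH (zClosure p ↥K) p) (jK (zClosure p ↥K) p) a := by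
      refine ⟨Subgroup.mul_mem _ (Subgroup.inv_mem _ (π d).2) e.2, ?_⟩
      have := mul_mem (hπ d) (inv_mem he)
      simpa [mul_assoc] using this
    rwa [hfac3, Subgroup.mem_bot] at h1
  let ψ : D₀ →* (comp (jK (zClosure p ↥K) p) a) :=
    { toFun := π
      map_one' := huniq 1 1 (by simpa using one_mem _)
      map_mul' := fun d d' => huniq (d * d') (π d * π d') (by
        have hc : ((π d' : (comp (jK (zClosure p ↥K) p) a)) : Semi (zClosure p ↥K)) * (((π d : (comp (jK (zClosure p ↥K) p) a)) : Semi (zClosure p ↥K))⁻¹ * toSemi (zClosure p ↥K) (d : K)) =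
            ((π d : (comp (jK (zClosure p ↥K) p) a)) : Semi (zClosure p ↥K))⁻¹ * toSemi (zClosure p ↥K) (d : K) * (π d' : (comp (jK (zClosure p ↥K) p) a)) :=
          Subgroup.mem_centralizer_iff.1 (rest_le S ha (hπ d)).1.2 _ (π d').2
        have e1 : ((π d * π d' : (comp (jK (zClosure p ↥K) p) a)) : Semi (zClosure p ↥K))⁻¹ * toSemi (zClosure p ↥K) ((d * d' : D₀) : K) =
            (((π d : (comp (jK (zClosure p ↥K) p) a)) : Semi (zClosure p ↥K))⁻¹ * toSemi (zClosure p ↥K) (d : K)) *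
              (((π d' : (comp (jK (zClosure p ↥K) p) a)) : Semi (zClosure p ↥K))⁻¹ * toSemi (zClosure p ↥K) (d' : K)) := by
          rw [Subgroup.coe_mul, Subgroup.coe_mul, map_mul]
          calc _ = ((π d' : (comp (jK (zClosure p ↥K) p) a)) : Semi (zClosure p ↥K))⁻¹ * (((π d : (comp (jK (zClosure p ↥K) p) a)) : Semi (zClosure p ↥K))⁻¹ * toSemi (zClosure p ↥K) (d : K)) *
                toSemi (zClosure p ↥K) (d' : K) := by group
            _ = ((π d' : (comp (jK (zClosure p ↥K) p) a)) : Semi (zClosure p ↥K))⁻¹ * ((((π d : (comp (jK (zClosure p ↥K) p) a)) : Semi (zClosure p ↥K))⁻¹ * toSemi (zClosure p ↥K) (d : K)) *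
                (π d' : (comp (jK (zClosure p ↥K) p) a))) * (((π d' : (comp (jK (zClosure p ↥K) p) a)) : Semi (zClosure p ↥K))⁻¹ * toSemi (zClosure p ↥K) (d' : K)) := by group
            _ = _ := by rw [← hc]; group
        rw [e1]
        exact mul_mem (hπ d) (hπ d')) }
  have hψs : Function.Surjective ψ := by
    intro e
    obtain ⟨f, hfH, hffix, hfr⟩ :=
      exists_fixed_lift (jAct K X hXK p) S (Fact.out : q.Prime) hq5 hXq hφ ha e.2
    obtain ⟨d, hdX, hd⟩ := exists_fixed_preimage K X hXK hX hq (hrange f hfH) hffix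
    refine ⟨⟨d, hdX, show toSemi (zClosure p ↥K) d ∈ jH (zClosure p ↥K) p by rw [hd]; exact hfH⟩, huniq _ e ?_⟩
    show (e : Semi (zClosure p ↥K))⁻¹ * toSemi (zClosure p ↥K) d ∈ _
    rw [hd]; exact hfr
  have hker : ∀ d : D₀, ψ d = 1 ↔ ((d : K) : G) ∈ Subgroup.centralizer (W₀ : Set G) := by
    intro d
    have h1 : ψ d = 1 ↔ toSemi (zClosure p ↥K) (d : K) ∈ Subgroup.centralizer ((plane (inV (zClosure p ↥K)).range (jK (zClosure p ↥K) p) a) : Set (Semi (zClosure p ↥K))) := by
      constructor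
      · intro h
        have := hπ d
        rw [show π d = 1 from h, Subgroup.coe_one, inv_one, one_mul] at this
        exact (rest_le S ha this).2
      · intro h
        refine huniq d 1 ?_
        rw [Subgroup.coe_one, inv_one, one_mul, ← hfac1]
        exact ⟨d.2.2, h⟩
    rw [h1]
    constructor
    · intro h
      rw [Subgroup.mem_centralizer_iff]
      rintro _ ⟨w, rfl⟩
      obtain ⟨hm, he⟩ := heq _ d.2 w
      have : (⟨_, hm⟩ : (plane (inV (zClosure p ↥K)).range (jK (zClosure p ↥K) p) a)) = w := Subtype.ext (by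
        show toSemi (zClosure p ↥K) (d : K) * (w : Semi (zClosure p ↥K)) * (toSemi (zClosure p ↥K) (d : K))⁻¹ = w
        rw [← Subgroup.mem_centralizer_iff.1 h w w.2, mul_inv_cancel_right])
      rw [this, mul_inv_eq_iff_eq_mul] at he
      exact he.symm
    · intro h
      rw [Subgroup.mem_centralizer_iff]
      intro w hw
      obtain ⟨hm, he⟩ := heq _ d.2 ⟨w, hw⟩
      rw [← Subgroup.mem_centralizer_iff.1 h _ ⟨⟨w, hw⟩, rfl⟩, mul_inv_cancel_right] at he
      have h2 : w = toSemi (zClosure p ↥K) (d : K) * w * (toSemi (zClosure p ↥K) (d : K))⁻¹ := congrArg Subtype.val (hθ he)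
      exact (mul_inv_eq_iff_eq_mul.1 h2.symm).symm
  let ι : D₀ ≃* D₀.map K.subtype := D₀.equivMapOfInjective K.subtype K.subtype_injective
  let Ψ : D₀.map K.subtype →* (comp (jK (zClosure p ↥K) p) a) := ψ.comp ι.symm.toMonoidHom
  have hΨ : Ψ.ker = (Subgroup.centralizer (W₀ : Set G)).subgroupOf (D₀.map K.subtype) := by
    ext y
    obtain ⟨d, rfl⟩ := ι.surjective y
    rw [MonoidHom.mem_ker, MonoidHom.comp_apply, MulEquiv.coe_toMonoidHom, MulEquiv.symm_apply_apply,
      hker d, Subgroup.mem_subgroupOf]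
    rfl
  have hΨs : Function.Surjective Ψ := hψs.comp ι.symm.surjective
  haveI hn : ((Subgroup.centralizer (W₀ : Set G)).subgroupOf (D₀.map K.subtype)).Normal :=
    hΨ ▸ MonoidHom.normal_ker Ψ
  obtain ⟨eSL⟩ := comp_equiv S ha
  refine ⟨W₀, D₀.map K.subtype, ?_, ?_, ?_, ?_, ?_, hn,
    ⟨((QuotientGroup.quotientMulEquivOfEq hΨ.symm).trans
      (QuotientGroup.quotientKerEquivOfSurjective Ψ hΨs)).trans eSL⟩⟩
  · rintro _ ⟨w, rfl⟩
    exact ⟨hθK w, hθX w⟩
  · rintro _ ⟨d, hd, rfl⟩
    exact ⟨d.2, hd.1⟩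
  · refine ⟨⟨⟨?_⟩⟩, ?_⟩
    · rintro ⟨_, u, rfl⟩ ⟨_, v, rfl⟩
      refine Subtype.ext ?_
      show θ u * θ v = θ v * θ u
      rw [← map_mul, ← map_mul,
        show u * v = v * u from Subtype.ext (S.comm (plane_le S ha u.2) (plane_le S ha v.2))]
    · rintro _ ⟨w, rfl⟩
      rw [← map_pow, show w ^ p = 1 from Subtype.ext (S.hV.2 _ (plane_le S ha w.2)), map_one]
  · exact (Nat.card_congr (MonoidHom.ofInjective hθ).toEquiv).symm.trans hcard
  · rintro _ ⟨d, hd, rfl⟩
    rw [Subgroup.mem_normalizer_iff_map_conj_eq]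
    refine Subgroup.eq_of_le_of_card_ge ?_
      (Subgroup.card_map_of_injective (MulAut.conj (K.subtype d)).injective).ge
    rintro _ ⟨_, ⟨w, rfl⟩, rfl⟩
    obtain ⟨hm, he⟩ := heq d hd w
    exact ⟨_, he.symm⟩

end Conj

end Cfsg.Agent.FF
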