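import Cfsg.Agent.Lib.PLocal.FF.Structure
import Cfsg.Agent.Lib.Transfer.Basic
import Cfsg.Agent.Lib.PStable.SL2Prime
import Cfsg.Agent.Lib.NearField.SL23

/-!
Failure of factorization: translation between best offenders and offenders of order `p`.
-/

set_option autoImplicit false
set_option linter.style.haveILetI false
set_option linter.unusedSectionVars false
set_option linter.unusedVariables false
open scoped commutatorElement Pointwise

namespace Cfsg.Agent.FF

open Cfsg.Agent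

variable {G : Type*} [Group G] [Finite G] {p : ℕ} [hp : Fact p.Prime]

theorem setting_of (V H : Subgroup G) (hV : Cfsg.IsElementaryAbelian p V)
    (hHV : H ≤ Subgroup.normalizer (V : Set G)) (hf : H ⊓ Subgroup.centralizer (V : Set G) = ⊥)
    (hS1 : Subgroup.centralizer (Cfsg.pPrimeCore p ↥H : Set ↥H) ≤ Cfsg.pPrimeCore p ↥H) :
    Setting p V H ((Cfsg.pPrimeCore p ↥H).map H.subtype) := by
  refine ⟨hV, hHV, hf, Subgroup.map_subtype_le _, ?_, ?_, ?_⟩
  · intro h hh
    haveI := PBasic.pPrimeCore_characteristic p ↥H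
    rw [Subgroup.mem_normalizer_iff_map_conj_eq]
    refine Subgroup.eq_of_le_of_card_ge ?_ (Subgroup.card_map_of_injective (MulAut.conj h).injective).ge
    rintro _ ⟨_, ⟨k, hk, rfl⟩, rfl⟩
    exact ⟨(⟨h, hh⟩ : H) * k * (⟨h, hh⟩ : H)⁻¹,
      (inferInstance : (Cfsg.pPrimeCore p ↥H).Normal).conj_mem k hk _, rfl⟩
  · rw [Subgroup.card_map_of_injective H.subtype_injective]
    exact PBasic.pPrimeCore_coprime p ↥H
  · rintro h ⟨hh, hc⟩
    refine ⟨⟨h, hh⟩, hS1 (Subgroup.mem_centralizer_iff.2 fun k hk => Subtype.ext ?_), rfl⟩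
    exact Subgroup.mem_centralizer_iff.1 hc k ⟨k, hk, rfl⟩

variable {V H K : Subgroup G}

theorem commutator_ne_bot_of_tv (S : Setting p V H K) {a : G} (ha : Tv p V H a) :
    ⁅V, Subgroup.zpowers a⁆ ≠ ⊥ := fun h => by
  have h1 := card_line S ha
  rw [line, h, Subgroup.card_bot] at h1
  exact hp.out.one_lt.ne h1

theorem minimal_of_tv (S : Setting p V H K) {a : G} (ha : Tv p V H a) (B : Subgroup G)
    (hB : B ≤ Subgroup.zpowers a) (hB1 : ⁅V, B⁆ ≠ ⊥) : B = Subgroup.zpowers a := by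
  have h1 : Nat.card B ≠ 1 := fun h => hB1 (by
    rw [Subgroup.card_eq_one.1 h, Subgroup.commutator_bot_right])
  have hz := card_zpowers_prime ha.pow_eq_one ha.1
  rcases (Nat.dvd_prime hp.out).1 (hz ▸ Subgroup.card_dvd_of_le hB) with h | h
  · exact absurd h h1
  · exact Subgroup.eq_of_le_of_card_ge hB (by rw [h, hz])

/-- A best offender minimal among those acting nontrivially has order `p`. -/
theorem exists_tv_of_minimal (S : Setting p V H K) {A : Subgroup G} (hAH : A ≤ H)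
    (hA : Cfsg.IsBestOffenderOn p V A) (hAV : ⁅V, A⁆ ≠ ⊥)
    (hmin : ∀ B : Subgroup G, B ≤ A → Cfsg.IsBestOffenderOn p V B → ⁅V, B⁆ ≠ ⊥ → B = A) :
    ∃ a, Tv p V H a ∧ A = Subgroup.zpowers a := by
  have hA1 : ¬ A ≤ ⊥ := fun h => hAV (by rw [le_bot_iff.1 h, Subgroup.commutator_bot_right])
  obtain ⟨t, htA, ht1, htO⟩ := exists_prime_off S (off_of_best S hAH hA) hA1
  have ht : Tv p V H t := ⟨fun e => ht1 (e ▸ one_mem _), htO⟩
  exact ⟨t, ht, (hmin _ (Subgroup.zpowers_le.2 htA) (ht.isBest S) (commutator_ne_bot_of_tv S ht)).symm⟩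

theorem card_comp_inf (S : Setting p V H K) {a : G} (ha : Tv p V H a) :
    Nat.card (comp K a ⊓ K : Subgroup G) * p = Nat.card (comp K a) ∧
      ⁅K, Subgroup.zpowers a⁆ = comp K a ⊓ K := by
  have hn : Subgroup.zpowers a ≤ Subgroup.normalizer ((comp K a ⊓ K : Subgroup G) : Set G) := by
    rw [Subgroup.zpowers_le, Subgroup.mem_normalizer_iff_map_conj_eq]
    refine Subgroup.eq_of_le_of_card_ge ?_ (Subgroup.card_map_of_injective (MulAut.conj a).injective).ge
    rintro _ ⟨g, hg, rfl⟩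
    exact ⟨mul_mem (mul_mem (self_mem_comp K a) hg.1) (inv_mem (s := comp K a) (self_mem_comp K a)),
      S.conjK_mem ha.mem hg.2⟩
  have hle : ⁅K, Subgroup.zpowers a⁆ ≤ comp K a ⊓ K := by
    refine le_inf (le_sup_left.trans (comp_eq_commutator S ha).ge) ?_
    rw [Subgroup.commutator_le]
    intro x hx g hg
    rw [commutatorElement_def, mul_assoc, mul_assoc, ← mul_assoc g]
    exact mul_mem hx (S.conjK_mem (Subgroup.zpowers_le.2 ha.mem hg) (inv_mem hx))
  have hsup : (comp K a ⊓ K) ⊔ Subgroup.zpowers a = comp K a := by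
    refine le_antisymm (sup_le inf_le_left (Subgroup.zpowers_le.2 (self_mem_comp K a))) ?_
    conv_lhs => rw [comp_eq_commutator S ha]
    exact sup_le_sup_right hle _
  have hbot : (comp K a ⊓ K) ⊓ Subgroup.zpowers a = ⊥ :=
    inf_zpowers_eq_bot ha.pow_eq_one fun h => ha.1 (S.eq_one_of_pow h.2 ha.pow_eq_one)
  have h := SolvBasic.card_sup_mul_card_inf (N := comp K a ⊓ K) (H := Subgroup.zpowers a) hn
  rw [hsup, hbot, Subgroup.card_bot, mul_one, card_zpowers_prime ha.pow_eq_one ha.1] at h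
  refine ⟨h.symm, Subgroup.eq_of_le_of_card_ge hle ?_⟩
  have hn' : Subgroup.zpowers a ≤ Subgroup.normalizer ((⁅K, Subgroup.zpowers a⁆ : Subgroup G) : Set G) :=
    Subgroup.normalizer_commutator_ge_right K _
  have h2 := SolvBasic.card_sup_mul_card_inf (N := ⁅K, Subgroup.zpowers a⁆) (H := Subgroup.zpowers a) hn'
  rw [← comp_eq_commutator S ha, card_zpowers_prime ha.pow_eq_one ha.1, h] at h2
  refine Nat.le_of_mul_le_mul_right ?_ hp.out.pos
  rw [← h2]
  exact Nat.le_mul_of_pos_right _ Nat.card_pos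

theorem eq_two_or_three (S : Setting p V H K) {a : G} (ha : Tv p V H a) : p = 2 ∨ p = 3 := by
  classical
  by_contra hcon
  push Not at hcon
  obtain ⟨e⟩ := comp_equiv S ha
  obtain ⟨hc, -⟩ := card_comp_inf S ha
  set N := (comp K a ⊓ K).subgroupOf (comp K a) with hN
  haveI : N.Normal := Subgroup.normal_subgroupOf_of_le_normalizer (fun g hg => by
    rw [Subgroup.mem_normalizer_iff_map_conj_eq]
    refine Subgroup.eq_of_le_of_card_ge ?_ (Subgroup.card_map_of_injective (MulAut.conj g).injective).ge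
    rintro _ ⟨x, hx, rfl⟩
    exact ⟨mul_mem (mul_mem hg hx.1) (inv_mem (s := comp K a) hg), S.conjK_mem (comp_le S ha hg) hx.2⟩)
  have hi : N.index = p := by
    have h := N.card_mul_index
    rw [hN, Nat.card_congr (Subgroup.subgroupOfEquivOfLe inf_le_left).toEquiv, ← hc] at h
    exact Nat.eq_of_mul_eq_mul_left Nat.card_pos h
  haveI : (N.map e.toMonoidHom).Normal := Subgroup.Normal.map inferInstance _ e.surjective
  have hi' : (N.map e.toMonoidHom).index = p := by
    exact (Subgroup.index_map_equiv N e).trans hi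
  haveI : IsCyclic (Matrix.SpecialLinearGroup (Fin 2) (ZMod p) ⧸ N.map e.toMonoidHom) :=
    isCyclic_of_prime_card (p := p) (by rw [← Subgroup.index_eq_card, hi'])
  letI := IsCyclic.commGroup (α := Matrix.SpecialLinearGroup (Fin 2) (ZMod p) ⧸ N.map e.toMonoidHom)
  have := PStable.isPerfect_sl2 hcon.1 hcon.2 (N.map e.toMonoidHom) fun x y => mul_comm x y
  rw [this, Subgroup.index_top] at hi'
  exact hp.out.one_lt.ne hi'

theorem commutator_core (S : Setting p V H K) {a : G} (ha : Tv p V H a) :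
    (p = 2 ∧ IsPGroup 3 ↥(⁅K, Subgroup.zpowers a⁆)) ∨
      (p = 3 ∧ IsPGroup 2 ↥(⁅K, Subgroup.zpowers a⁆) ∧ ¬ IsMulCommutative ↥(⁅K, Subgroup.zpowers a⁆)) := by
  obtain ⟨e⟩ := comp_equiv S ha
  obtain ⟨hc, heq⟩ := card_comp_inf S ha
  rw [← heq] at hc
  rcases eq_two_or_three S ha with rfl | rfl
  · left
    haveI : Fact (Nat.Prime 3) := ⟨Nat.prime_three⟩
    rw [Nat.card_congr e.toEquiv, show Nat.card (Matrix.SpecialLinearGroup (Fin 2) (ZMod 2)) = 6 by
      rw [Nat.card_eq_fintype_card]; decide] at hc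
    exact ⟨rfl, IsPGroup.of_card (n := 1) (by omega)⟩
  · right
    rw [Nat.card_congr e.toEquiv, NearField.card_sl23] at hc
    have h8 : Nat.card ↥(⁅K, Subgroup.zpowers a⁆) = 8 := by omega
    haveI : Fact (Nat.Prime 2) := ⟨Nat.prime_two⟩
    refine ⟨rfl, IsPGroup.of_card (n := 3) (by rw [h8]; rfl), fun hcom => ?_⟩
    set Q := ⁅K, Subgroup.zpowers a⁆ with hQ
    have hQle : Q ≤ comp K a := heq ▸ inf_le_left
    have hQp : IsPGroup 2 (Q.subgroupOf (comp K a)) :=
      (IsPGroup.of_card (n := 3) (by rw [h8]; rfl) : IsPGroup 2 Q).of_equiv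
        (Subgroup.subgroupOfEquivOfLe hQle).symm
    have hidx : ¬ 2 ∣ (Q.subgroupOf (comp K a)).index := by
      have h := (Q.subgroupOf (comp K a)).card_mul_index
      rw [Nat.card_congr (Subgroup.subgroupOfEquivOfLe hQle).toEquiv, h8, Nat.card_congr e.toEquiv,
        NearField.card_sl23] at h
      omega
    refine PStable.sylow_two_noncomm (p := 3) (G := comp K a) (by norm_num) (K := ⊤)
      (e.toMonoidHom.comp Subgroup.topEquiv.toMonoidHom)
      (fun y => ⟨⟨e.symm y, Subgroup.mem_top _⟩, e.apply_symm_apply y⟩) (hQp.toSylow hidx) ?_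
    refine ⟨⟨fun x y => Subtype.ext (Subtype.ext ?_)⟩⟩
    simp only [Subgroup.coe_mul]
    exact congrArg Subtype.val (hcom.is_comm.comm (⟨((x : comp K a) : G), x.2⟩ : Q) ⟨((y : comp K a) : G), y.2⟩)

end Cfsg.Agent.FF
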