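import Cfsg.Agent.Lib.PLocal.FF.Basic
import Cfsg.Agent.Lib.Solvable.Structure

/-!
Failure of factorization: two conjugate offenders of order `p` span a plane.
-/

set_option autoImplicit false
set_option linter.style.haveILetI false
set_option linter.unusedSectionVars false
set_option linter.unusedVariables false
open scoped commutatorElement Pointwise

namespace Cfsg.Agent.FF

open Cfsg.Agent

variable {G : Type*} [Group G] [Finite G] {p : ℕ} [hp : Fact p.Prime] {V H K : Subgroup G}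

/-- An element generating an offender of order `p`. -/
def Tv (p : ℕ) (V H : Subgroup G) (a : G) : Prop := a ≠ 1 ∧ Off p V H (Subgroup.zpowers a)

theorem Tv.mem {a : G} (h : Tv p V H a) : a ∈ H := h.2.1 (Subgroup.mem_zpowers a)

theorem Tv.pow_eq_one {a : G} (h : Tv p V H a) : a ^ p = 1 := h.2.2.1.2 a (Subgroup.mem_zpowers a)

omit [Finite G] hp in
theorem centralizer_zpowers (a : G) :
    Subgroup.centralizer (Subgroup.zpowers a : Set G) = Subgroup.centralizer ({a} : Set G) := by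
  rw [Subgroup.zpowers_eq_closure, Subgroup.centralizer_closure]

theorem Tv.card_fix {a : G} (h : Tv p V H a) :
    p * Nat.card (V ⊓ Subgroup.centralizer ({a} : Set G) : Subgroup G) = Nat.card V := by
  have h' := h.2.2.2
  rwa [centralizer_zpowers, card_zpowers_prime h.pow_eq_one h.1] at h'

theorem Tv.conj (S : Setting p V H K) {a h : G} (ha : Tv p V H a) (hh : h ∈ H) :
    Tv p V H (h * a * h⁻¹) := by
  obtain ⟨ha1, -, hae, hc⟩ := id ha
  refine ⟨fun e => ha1 (conj_eq_one_iff.1 e), Subgroup.zpowers_le.2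
    (mul_mem (mul_mem hh ha.mem) (inv_mem hh)), ?_, ?_⟩
  · rw [show Subgroup.zpowers (h * a * h⁻¹) = (Subgroup.zpowers a).map (MulAut.conj h).toMonoidHom by
      rw [MonoidHom.map_zpowers]; rfl]
    exact Thompson.isElementaryAbelian_map _ hae
  · rw [centralizer_zpowers, card_zpowers_prime (by rw [conj_pow, ha.pow_eq_one]; group)
      (fun e => ha1 (conj_eq_one_iff.1 e))]
    rw [show (V ⊓ Subgroup.centralizer ({h * a * h⁻¹} : Set G) : Subgroup G) =
      (V ⊓ Subgroup.centralizer ({a} : Set G)).map (MulAut.conj h).toMonoidHom from ?_,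
      Subgroup.card_map_of_injective (MulAut.conj h).injective, ha.card_fix]
    ext v
    simp only [Subgroup.mem_map, Subgroup.mem_inf, MulEquiv.coe_toMonoidHom, MulAut.conj_apply,
      Subgroup.mem_centralizer_singleton_iff]
    constructor
    · rintro ⟨hv, hva⟩
      refine ⟨h⁻¹ * v * h, ⟨by simpa using S.conj_mem (inv_mem hh) hv, ?_⟩, by group⟩
      calc h⁻¹ * v * h * a = h⁻¹ * (v * (h * a * h⁻¹)) * h := by group
        _ = a * (h⁻¹ * v * h) := by rw [hva]; group
    · rintro ⟨u, ⟨hu, hua⟩, rfl⟩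
      refine ⟨S.conj_mem hh hu, ?_⟩
      calc h * u * h⁻¹ * (h * a * h⁻¹) = h * (u * a) * h⁻¹ := by group
        _ = h * a * h⁻¹ * (h * u * h⁻¹) := by rw [hua]; group

theorem Tv.isBest (S : Setting p V H K) {a : G} (h : Tv p V H a) :
    Cfsg.IsBestOffenderOn p V (Subgroup.zpowers a) := best_of_off S h.2

/-- The commutator map of `a` on `V`. -/
def comMap (S : Setting p V H K) {a : G} (ha : a ∈ H) : V →* G where
  toFun v := ⁅a, (v : G)⁆
  map_one' := by simp
  map_mul' u v := by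
    have hv : ⁅a, (v : G)⁆ ∈ V := by
      rw [commutatorElement_def]; exact mul_mem (S.conj_mem ha v.2) (inv_mem v.2)
    show ⁅a, (u : G) * v⁆ = ⁅a, (u : G)⁆ * ⁅a, (v : G)⁆
    have e : ⁅a, (u : G) * v⁆ = ⁅a, (u : G)⁆ * (u * ⁅a, (v : G)⁆ * (u : G)⁻¹) := by
      simp only [commutatorElement_def]; group
    rw [e, S.comm u.2 hv, mul_inv_cancel_right]

/-- The line of `a`. -/
def line (V : Subgroup G) (a : G) : Subgroup G := ⁅V, Subgroup.zpowers a⁆

theorem range_comMap (S : Setting p V H K) {a : G} (ha : a ∈ H) :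
    (comMap S ha).range = line V a := by
  refine le_antisymm ?_ ?_
  · rintro _ ⟨v, rfl⟩
    show ⁅a, (v : G)⁆ ∈ _
    rw [← commutatorElement_inv]
    exact inv_mem (Subgroup.commutator_mem_commutator v.2 (Subgroup.mem_zpowers a))
  · rw [line, Subgroup.commutator_le]
    intro v hv g hg
    obtain ⟨k, rfl⟩ := Submonoid.mem_powers_iff _ _ |>.1
      ((isOfFinOrder_of_finite a).mem_powers_iff_mem_zpowers.2 hg)
    rw [← commutatorElement_inv]
    refine inv_mem ?_
    clear hg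
    induction k with
    | zero => simp
    | succ k ih =>
      have hu : a ^ k * v * (a ^ k)⁻¹ ∈ V := S.conj_mem (pow_mem ha k) hv
      have e : ⁅a ^ (k + 1), v⁆ = ⁅a, a ^ k * v * (a ^ k)⁻¹⁆ * ⁅a ^ k, v⁆ := by
        simp only [commutatorElement_def, pow_succ']; group
      rw [e]
      exact mul_mem ⟨⟨_, hu⟩, rfl⟩ ih

theorem mem_line (S : Setting p V H K) {a v : G} (ha : a ∈ H) (hv : v ∈ V) : ⁅a, v⁆ ∈ line V a := by
  rw [← range_comMap S ha]; exact ⟨⟨v, hv⟩, rfl⟩

theorem exists_of_mem_line (S : Setting p V H K) {a c : G} (ha : a ∈ H) (hc : c ∈ line V a) :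
    ∃ v ∈ V, ⁅a, v⁆ = c := by
  rw [← range_comMap S ha] at hc
  obtain ⟨v, rfl⟩ := hc
  exact ⟨v, v.2, rfl⟩

theorem line_le (S : Setting p V H K) {a : G} (ha : a ∈ H) : line V a ≤ V := by
  intro c hc
  obtain ⟨v, hv, rfl⟩ := exists_of_mem_line S ha hc
  rw [commutatorElement_def]; exact mul_mem (S.conj_mem ha hv) (inv_mem hv)

theorem card_line (S : Setting p V H K) {a : G} (ha : Tv p V H a) : Nat.card (line V a) = p := by
  rw [← range_comMap S ha.mem, ← Subgroup.index_ker]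
  have hker : (comMap S ha.mem).ker = (V ⊓ Subgroup.centralizer ({a} : Set G)).subgroupOf V := by
    ext v
    rw [MonoidHom.mem_ker, Subgroup.mem_subgroupOf, Subgroup.mem_inf, Subgroup.mem_centralizer_singleton_iff]
    show ⁅a, (v : G)⁆ = 1 ↔ _
    rw [commutatorElement_eq_one_iff_mul_comm]
    exact ⟨fun h => ⟨v.2, h.symm⟩, fun h => h.2.symm⟩
  have h := ((V ⊓ Subgroup.centralizer ({a} : Set G)).subgroupOf V).card_mul_index
  rw [Nat.card_congr (Subgroup.subgroupOfEquivOfLe inf_le_left).toEquiv, ← ha.card_fix, mul_comm p,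
    ← hker] at h
  exact Nat.eq_of_mul_eq_mul_left Nat.card_pos h

theorem line_le_centralizer (S : Setting p V H K) {a : G} (ha : Tv p V H a) :
    line V a ≤ Subgroup.centralizer ({a} : Set G) := by
  intro c hc
  rw [Subgroup.mem_centralizer_singleton_iff]
  obtain ⟨v, hv, rfl⟩ := exists_of_mem_line S ha.mem hc
  by_contra hne
  -- otherwise conjugation by `a` moves the line by an element of itself, of order `p`
  have hnorm : Subgroup.zpowers a ≤ Subgroup.normalizer (line V a : Set G) :=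
    Subgroup.normalizer_commutator_ge_right V _
  set L := line V a ⊔ Subgroup.zpowers a with hL
  haveI hn : ((line V a).subgroupOf L).Normal :=
    Subgroup.normal_subgroupOf_of_le_normalizer (sup_le Subgroup.le_normalizer hnorm)
  have hcard : IsPGroup p L := by
    have h := SolvBasic.card_sup_mul_card_inf (N := line V a) (H := Subgroup.zpowers a) hnorm
    rw [card_line S ha, card_zpowers_prime ha.pow_eq_one ha.1, ← hL] at h
    obtain ⟨i, -, hi⟩ := (Nat.dvd_prime_pow hp.out).1 (show Nat.card L ∣ p ^ 2 from Dvd.intro _ (h.trans (sq p).symm))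
    exact IsPGroup.of_card hi
  haveI := hcard.isNilpotent
  have hne0 : (line V a).subgroupOf L ≠ ⊥ := by
    intro h
    rw [Subgroup.subgroupOf_eq_bot, disjoint_iff, inf_eq_left.2 (le_sup_left : line V a ≤ L)] at h
    have := card_line S ha
    rw [h, Subgroup.card_bot] at this
    exact hp.out.one_lt.ne this
  have hcl : Nat.card ((line V a).subgroupOf L) = p := by
    rw [Nat.card_congr (Subgroup.subgroupOfEquivOfLe (le_sup_left : line V a ≤ L)).toEquiv, card_line S ha]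
  have hd := SolvStruct.inf_center_ne_bot hne0
  have hle : (line V a).subgroupOf L ≤ Subgroup.center L := by
    rcases (Nat.dvd_prime hp.out).1
      (hcl ▸ Subgroup.card_dvd_of_le (inf_le_left : (line V a).subgroupOf L ⊓ Subgroup.center L ≤ _)) with
      h1 | h1
    · exact absurd (Subgroup.card_eq_one.1 h1) hd
    · exact inf_eq_left.1 (Subgroup.eq_of_le_of_card_ge inf_le_left (by rw [hcl, h1]))
  have hcL : ⁅a, v⁆ ∈ L := Subgroup.mem_sup_left hc
  have haL : a ∈ L := Subgroup.mem_sup_right (Subgroup.mem_zpowers a)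
  have := Subgroup.mem_center_iff.1 (hle (show (⟨⁅a, v⁆, hcL⟩ : L) ∈ (line V a).subgroupOf L from hc)) ⟨a, haL⟩
  exact hne (congrArg Subtype.val this).symm

/-- Offenders of order `p` centralizing each other's lines commute. -/
theorem commute_of_lines (S : Setting p V H K) {a b : G} (ha : a ∈ H) (hb : b ∈ H)
    (h1 : line V a ≤ Subgroup.centralizer ({b} : Set G))
    (h2 : line V b ≤ Subgroup.centralizer ({a} : Set G)) : a * b = b * a := by
  rw [← commutatorElement_eq_one_iff_mul_comm]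
  have hab : ⁅a, b⁆ ∈ H := by
    rw [commutatorElement_def]
    exact mul_mem (mul_mem (mul_mem ha hb) (inv_mem ha)) (inv_mem hb)
  have key : ∀ v ∈ V, a * (b * v * b⁻¹) * a⁻¹ = b * (a * v * a⁻¹) * b⁻¹ := by
    intro v hv
    have hu := Subgroup.mem_centralizer_singleton_iff.1 (h1 (mem_line S ha hv))
    have hw := Subgroup.mem_centralizer_singleton_iff.1 (h2 (mem_line S hb hv))
    have hu' : ⁅a, v⁆ ∈ V := line_le S ha (mem_line S ha hv)
    have hw' : ⁅b, v⁆ ∈ V := line_le S hb (mem_line S hb hv)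
    calc a * (b * v * b⁻¹) * a⁻¹ = a * ⁅b, v⁆ * a⁻¹ * (a * v * a⁻¹) := by
          rw [commutatorElement_def]; group
      _ = ⁅b, v⁆ * (⁅a, v⁆ * v) := by rw [← hw]; simp only [commutatorElement_def]; group
      _ = ⁅a, v⁆ * (⁅b, v⁆ * v) := by rw [← mul_assoc, S.comm hw' hu', mul_assoc]
      _ = b * ⁅a, v⁆ * b⁻¹ * (b * v * b⁻¹) := by rw [← hu]; simp only [commutatorElement_def]; group
      _ = b * (a * v * a⁻¹) * b⁻¹ := by rw [commutatorElement_def]; group
  refine S.eq_one_of_fix hab fun v hv => ?_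
  have hv' : a⁻¹ * (b⁻¹ * v * b⁻¹⁻¹) * a⁻¹⁻¹ ∈ V :=
    S.conj_mem (inv_mem ha) (S.conj_mem (inv_mem hb) hv)
  calc ⁅a, b⁆ * v * ⁅a, b⁆⁻¹
      = a * (b * (a⁻¹ * (b⁻¹ * v * b⁻¹⁻¹) * a⁻¹⁻¹) * b⁻¹) * a⁻¹ := by
        rw [commutatorElement_def]; group
    _ = b * (a * (a⁻¹ * (b⁻¹ * v * b⁻¹⁻¹) * a⁻¹⁻¹) * a⁻¹) * b⁻¹ := key _ hv'
    _ = v := by group

/-- A group generated by `K`-conjugates of `a`, two of which do not commute, acts faithfully on any
subgroup of `V` containing all their lines. -/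
theorem faithful_aux (S : Setting p V H K) {a : G} (ha : Tv p V H a) {W : Subgroup G} (hWV : W ≤ V)
    {T : Set G} (hT : ∀ t ∈ T, ∃ x ∈ K, t = x * a * x⁻¹) (hTW : ∀ t ∈ T, line V t ≤ W)
    (hnc : ∃ t ∈ T, ∃ s ∈ T, t * s ≠ s * t) :
    ∀ m ∈ Subgroup.closure T, (∀ w ∈ W, m * w * m⁻¹ = w) → m = 1 := by
  classical
  set M := Subgroup.closure T with hM
  have hTH : ∀ t ∈ T, Tv p V H t := fun t ht => by
    obtain ⟨x, hx, rfl⟩ := hT t ht
    exact ha.conj S (S.hKH hx)
  have hMH : M ≤ H := (Subgroup.closure_le _).2 fun t ht => (hTH t ht).mem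
  -- elements of `M` map `v` into `v W`, and normalize `W`
  have hWn : ∀ t ∈ T, t ∈ Subgroup.normalizer (W : Set G) := by
    intro t ht
    rw [Subgroup.mem_normalizer_iff_map_conj_eq]
    refine Subgroup.eq_of_le_of_card_ge ?_ (Subgroup.card_map_of_injective (MulAut.conj t).injective).ge
    rintro _ ⟨w, hw, rfl⟩
    rw [MonoidHom.coe_coe, MulAut.conj_apply, show t * w * t⁻¹ = ⁅t, w⁆ * w by rw [commutatorElement_def]; group]
    exact mul_mem (hTW t ht (mem_line S (hTH t ht).mem (hWV hw))) hw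
  have hMW : M ≤ Subgroup.normalizer (W : Set G) := (Subgroup.closure_le _).2 hWn
  have hmove : ∀ m ∈ M, ∀ v ∈ V, ⁅m, v⁆ ∈ W := by
    intro m hm
    induction hm using Subgroup.closure_induction with
    | mem t ht => exact fun v hv => hTW t ht (mem_line S (hTH t ht).mem hv)
    | one => intro v _; simp
    | mul x y hx hy ihx ihy =>
      intro v hv
      have e : ⁅x * y, v⁆ = ⁅x, y * v * y⁻¹⁆ * ⁅y, v⁆ := by simp only [commutatorElement_def]; group
      rw [e]
      exact mul_mem (ihx _ (S.conj_mem (hMH hy) hv)) (ihy v hv)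
    | inv x hx ihx =>
      intro v hv
      have h1 := ihx _ (by simpa using S.conj_mem (inv_mem (hMH hx)) hv : x⁻¹ * v * x ∈ V)
      have e : ⁅x⁻¹, v⁆ = ⁅x, x⁻¹ * v * x⁆⁻¹ := by simp only [commutatorElement_def]; group
      rw [e]
      exact inv_mem h1
  intro l hl hfix
  by_contra hl1
  -- `l` has order `p`
  have hlp : l ^ p = 1 := by
    refine S.eq_one_of_fix (pow_mem (hMH hl) p) fun v hv => ?_
    have hc : l * ⁅l, v⁆ * l⁻¹ = ⁅l, v⁆ := hfix _ (hmove l hl v hv)
    have hpow : ∀ n : ℕ, l ^ n * v * (l ^ n)⁻¹ = ⁅l, v⁆ ^ n * v := by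
      intro n
      induction n with
      | zero => simp
      | succ n ih =>
        calc l ^ (n + 1) * v * (l ^ (n + 1))⁻¹ = l * (l ^ n * v * (l ^ n)⁻¹) * l⁻¹ := by
              rw [pow_succ']; group
          _ = (l * ⁅l, v⁆ * l⁻¹) ^ n * (l * v * l⁻¹) := by rw [ih, conj_pow]; group
          _ = ⁅l, v⁆ ^ (n + 1) * v := by rw [hc, pow_succ, commutatorElement_def]; group
    rw [hpow, S.hV.2 _ (hWV (hmove l hl v hv)), one_mul]
  -- the `K`-part of an element
  have hdec : ∀ m ∈ M, ∃ k ∈ K, ∃ j : ℕ, m = k * a ^ j := by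
    intro m hm
    have hle : M ≤ K ⊔ Subgroup.zpowers a := by
      refine (Subgroup.closure_le _).2 fun t ht => ?_
      obtain ⟨x, hx, rfl⟩ := hT t ht
      exact mul_mem (mul_mem (Subgroup.mem_sup_left hx) (Subgroup.mem_sup_right (Subgroup.mem_zpowers a)))
        (inv_mem (Subgroup.mem_sup_left hx))
    have hm' := hle hm
    have hmem : m ∈ (K : Set G) * (Subgroup.zpowers a : Set G) := by
      rw [← Subgroup.coe_mul_of_right_le_normalizer_left K (Subgroup.zpowers a)
        (Subgroup.zpowers_le.2 (S.hKn ha.mem))]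
      exact hm'
    obtain ⟨k, hk, z, hz, rfl⟩ := Set.mem_mul.1 hmem
    obtain ⟨j, rfl⟩ := Submonoid.mem_powers_iff _ _ |>.1
      ((isOfFinOrder_of_finite a).mem_powers_iff_mem_zpowers.2 hz)
    exact ⟨k, hk, j, rfl⟩
  -- `l` commutes with `M ⊓ K`
  have hlK : ∀ k ∈ M, k ∈ K → l * k = k * l := by
    intro k hkM hk
    rw [← commutatorElement_eq_one_iff_mul_comm]
    have hcK : ⁅l, k⁆ ∈ K := by
      rw [commutatorElement_def]; exact mul_mem (S.conjK_mem (hMH hl) hk) (inv_mem hk)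
    have hcM : ⁅l, k⁆ ∈ M := by
      rw [commutatorElement_def]
      exact mul_mem (mul_mem (mul_mem hl hkM) (inv_mem hl)) (inv_mem hkM)
    have hcfix : ∀ w ∈ W, ⁅l, k⁆ * w * ⁅l, k⁆⁻¹ = w := by
      intro w hw
      have hkw : k * (l⁻¹) * k⁻¹ * w * (k * (l⁻¹) * k⁻¹)⁻¹ = w := by
        have hu : k⁻¹ * w * k⁻¹⁻¹ ∈ W := (Subgroup.mem_normalizer_iff.1 (hMW (inv_mem hkM)) w).1 hw
        have h1 := hfix _ hu
        calc k * l⁻¹ * k⁻¹ * w * (k * l⁻¹ * k⁻¹)⁻¹ = k * (l⁻¹ * (k⁻¹ * w * k⁻¹⁻¹) * l) * k⁻¹ := by group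
          _ = k * (l⁻¹ * (l * (k⁻¹ * w * k⁻¹⁻¹) * l⁻¹) * l) * k⁻¹ := by rw [h1]
          _ = w := by group
      calc ⁅l, k⁆ * w * ⁅l, k⁆⁻¹ = l * (k * l⁻¹ * k⁻¹ * w * (k * l⁻¹ * k⁻¹)⁻¹) * l⁻¹ := by
            rw [commutatorElement_def]; group
        _ = w := by rw [hkw, hfix w hw]
    refine S.eq_one_of_pow hcK (S.eq_one_of_fix (pow_mem (hMH hcM) p) fun v hv => ?_)
    set c := ⁅l, k⁆ with hcdef
    have hc : c * ⁅c, v⁆ * c⁻¹ = ⁅c, v⁆ := hcfix _ (hmove c hcM v hv)
    have hpow : ∀ n : ℕ, c ^ n * v * (c ^ n)⁻¹ = ⁅c, v⁆ ^ n * v := by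
      intro n
      induction n with
      | zero => simp
      | succ n ih =>
        calc c ^ (n + 1) * v * (c ^ (n + 1))⁻¹ = c * (c ^ n * v * (c ^ n)⁻¹) * c⁻¹ := by
              rw [pow_succ']; group
          _ = (c * ⁅c, v⁆ * c⁻¹) ^ n * (c * v * c⁻¹) := by rw [ih, conj_pow]; group
          _ = ⁅c, v⁆ ^ (n + 1) * v := by rw [hc, pow_succ]; simp only [commutatorElement_def]; group
    rw [hpow, S.hV.2 _ (hWV (hmove c hcM v hv)), one_mul]
  obtain ⟨k₀, hk₀, j₀, hl0⟩ := hdec l hl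
  have hj₀ : ¬ p ∣ j₀ := by
    intro hd
    obtain ⟨d, rfl⟩ := hd
    rw [pow_mul, ha.pow_eq_one, one_pow, mul_one] at hl0
    exact hl1 (S.eq_one_of_pow (hl0 ▸ hk₀) hlp)
  -- every element of order `p` of `M` is a power of `l`
  have hpowl : ∀ g ∈ M, g ^ p = 1 → g ∈ Subgroup.zpowers l := by
    intro g hg hgp
    obtain ⟨k, hk, j, hgk⟩ := hdec g hg
    -- the image of `l` generates the quotient by `K`
    obtain ⟨s, hs⟩ : ∃ s : ℕ, j₀ * s ≡ j [MOD p] := by
      have : NeZero p := ⟨hp.out.ne_zero⟩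
      refine ⟨((j : ZMod p) * ((j₀ : ZMod p))⁻¹).val, (ZMod.natCast_eq_natCast_iff' _ _ _).1 ?_⟩
      rw [Nat.cast_mul, ZMod.natCast_zmod_val]
      have h0 : (j₀ : ZMod p) ≠ 0 := fun h => hj₀ ((ZMod.natCast_eq_zero_iff _ _).1 h)
      field_simp
    have hpow : a ^ (j₀ * s) = a ^ j := by
      rw [pow_eq_pow_mod (j₀ * s) ha.pow_eq_one, hs, ← pow_eq_pow_mod j ha.pow_eq_one]
    haveI hKn : (K.subgroupOf H).Normal := Subgroup.normal_subgroupOf_of_le_normalizer S.hKn
    set π := QuotientGroup.mk' (K.subgroupOf H) with hπ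
    have hker : ∀ (x : G) (hx : x ∈ H), x ∈ K → π ⟨x, hx⟩ = 1 := fun x hx hxK =>
      (QuotientGroup.eq_one_iff _).2 hxK
    have hkH : k ∈ H := S.hKH hk
    have hk₀H : k₀ ∈ H := S.hKH hk₀
    have himg : π ⟨g, hMH hg⟩ = π ⟨l, hMH hl⟩ ^ s := by
      have e1 : (⟨g, hMH hg⟩ : H) = ⟨k, hkH⟩ * ⟨a, ha.mem⟩ ^ j := Subtype.ext hgk
      have e2 : (⟨l, hMH hl⟩ : H) = ⟨k₀, hk₀H⟩ * ⟨a, ha.mem⟩ ^ j₀ := Subtype.ext hl0
      rw [e1, e2, map_mul, map_mul, hker k hkH hk, hker k₀ hk₀H hk₀, one_mul, one_mul, map_pow, map_pow,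
        ← pow_mul, ← map_pow, ← map_pow]
      exact congrArg π (Subtype.ext hpow.symm)
    set k' := g * (l ^ s)⁻¹ with hk'
    have hk'M : k' ∈ M := mul_mem hg (inv_mem (pow_mem hl s))
    have hk'K : k' ∈ K := by
      have h1 : π (⟨g, hMH hg⟩ * (⟨l, hMH hl⟩ ^ s)⁻¹) = 1 := by
        rw [map_mul, map_inv, map_pow, himg, mul_inv_cancel]
      exact (QuotientGroup.eq_one_iff (N := K.subgroupOf H) _).1 h1
    have hcomm : Commute k' (l ^ s) := ((show Commute l k' from hlK k' hk'M hk'K).symm).pow_right s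
    have hk'1 : k' = 1 := by
      refine S.eq_one_of_pow hk'K ?_
      have h1 := hcomm.mul_pow p
      rw [show k' * l ^ s = g by rw [hk']; group, hgp, ← pow_mul, mul_comm s p, pow_mul, hlp, one_pow,
        mul_one] at h1
      exact h1.symm
    rw [hk', mul_inv_eq_one] at hk'1
    exact hk'1 ▸ pow_mem (Subgroup.mem_zpowers l) s
  obtain ⟨t, ht, s, hs, hne⟩ := hnc
  obtain ⟨i, hi⟩ := Subgroup.mem_zpowers_iff.1 (hpowl t (Subgroup.subset_closure ht) (hTH t ht).pow_eq_one)
  obtain ⟨j, hj⟩ := Subgroup.mem_zpowers_iff.1 (hpowl s (Subgroup.subset_closure hs) (hTH s hs).pow_eq_one)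
  exact hne (by rw [← hi, ← hj, ← zpow_add, ← zpow_add, add_comm])

/-- The plane of two non-commuting conjugates. -/
theorem pair (S : Setting p V H K) {a x : G} (ha : Tv p V H a) (hx : x ∈ K)
    (hne : a * (x * a * x⁻¹) ≠ (x * a * x⁻¹) * a) :
    ¬ line V (x * a * x⁻¹) ≤ Subgroup.centralizer ({a} : Set G) ∧
      ¬ line V a ≤ Subgroup.centralizer ({x * a * x⁻¹} : Set G) ∧
      (∀ m ∈ Subgroup.closure ({a, x * a * x⁻¹} : Set G),
        (∀ w ∈ line V a ⊔ line V (x * a * x⁻¹), m * w * m⁻¹ = w) → m = 1) := by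
  set b := x * a * x⁻¹ with hb
  have hbT := ha.conj S (S.hKH hx)
  have hf := faithful_aux S ha (W := line V a ⊔ line V b) (sup_le (line_le S ha.mem) (line_le S hbT.mem))
    (T := {a, b}) (by
      rintro t (rfl | rfl)
      · exact ⟨1, one_mem _, by group⟩
      · exact ⟨x, hx, rfl⟩)
    (by
      rintro t (rfl | rfl)
      · exact le_sup_left
      · exact le_sup_right)
    ⟨a, by simp, b, by simp, hne⟩
  have key : ∀ c : G, c ∈ Subgroup.closure ({a, b} : Set G) → c ≠ 1 →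
      line V a ≤ Subgroup.centralizer ({c} : Set G) → line V b ≤ Subgroup.centralizer ({c} : Set G) → False := by
    intro c hc hc1 h1 h2
    refine hc1 (hf c hc fun w hw => ?_)
    rw [← Subgroup.mem_centralizer_singleton_iff.1 (sup_le h1 h2 hw), mul_inv_cancel_right]
  exact ⟨fun h => key a (Subgroup.subset_closure (by simp)) ha.1 (line_le_centralizer S ha) h,
    fun h => key b (Subgroup.subset_closure (by simp)) hbT.1 h (line_le_centralizer S hbT), hf⟩

end Cfsg.Agent.FF
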