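import Cfsg.Agent.Lib.PLocal.FF.Comp

/-!
Failure of factorization: distinct components commute and act on independent planes.
-/

set_option autoImplicit false
set_option linter.style.haveILetI false
set_option linter.unusedSectionVars false
set_option linter.unusedVariables false
open scoped commutatorElement Pointwise

namespace Cfsg.Agent.FF

open Cfsg.Agent

variable {G : Type*} [Group G] [Finite G] {p : ℕ} [hp : Fact p.Prime] {V H K : Subgroup G}

theorem plane_le (S : Setting p V H K) {a : G} (ha : Tv p V H a) : plane V K a ≤ V := by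
  obtain ⟨b, hbC, -, hpl, -⟩ := comp_spec S ha
  rw [hpl]
  exact sup_le (line_le S ha.mem) (line_le S (conjSet_tv S ha hbC).mem)

omit [Finite G] hp in
theorem comp_eq {a t : G} (h : t ∈ conjSet K a) : comp K t = comp K a := by
  rw [comp, comp, conjSet_eq h]

omit [Finite G] hp in
theorem plane_eq {a t : G} (h : t ∈ conjSet K a) : plane V K t = plane V K a := by
  rw [plane, plane, comp_eq h]

omit [Finite G] hp in
theorem plane_congr {a b : G} (h : comp K a = comp K b) : plane V K a = plane V K b := by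
  rw [plane, plane, h]

theorem line_le_plane {a t : G} (h : t ∈ conjSet K a) : line V t ≤ plane V K a :=
  Subgroup.commutator_mono le_rfl (Subgroup.zpowers_le.2 (Subgroup.subset_closure h))

theorem comp_conj (S : Setting p V H K) {a h : G} (hh : h ∈ H) :
    comp K (h * a * h⁻¹) = (comp K a).map (MulAut.conj h).toMonoidHom := by
  rw [comp, comp, MonoidHom.map_closure]
  congr 1
  ext t
  constructor
  · rintro ⟨x, hx, rfl⟩
    refine ⟨(h⁻¹ * x * h) * a * (h⁻¹ * x * h)⁻¹, ⟨_, ?_, rfl⟩, ?_⟩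
    · simpa using S.conjK_mem (inv_mem hh) hx
    · rw [MulEquiv.coe_toMonoidHom, MulAut.conj_apply]; group
  · rintro ⟨_, ⟨x, hx, rfl⟩, rfl⟩
    refine ⟨h * x * h⁻¹, S.conjK_mem hh hx, ?_⟩
    rw [MulEquiv.coe_toMonoidHom, MulAut.conj_apply]; group

theorem plane_conj (S : Setting p V H K) {a h : G} (hh : h ∈ H) :
    plane V K (h * a * h⁻¹) = (plane V K a).map (MulAut.conj h).toMonoidHom := by
  have hV' : V.map (MulAut.conj h).toMonoidHom = V :=
    Subgroup.mem_normalizer_iff_map_conj_eq.1 (S.hnorm hh)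
  rw [plane, plane, Subgroup.map_commutator, comp_conj S hh, hV']

/-- Offenders of order `p` with the same line generate the same subgroup. -/
theorem mem_zpowers_of_line (S : Setting p V H K) {a b : G} (ha : Tv p V H a) (hb : Tv p V H b)
    (hl : line V b = line V a) : b ∈ Subgroup.zpowers a := by
  classical
  obtain ⟨b', hb'C, hcomp, hplane, h1, h2, hcard, hfix, hf, -⟩ := comp_spec S ha
  have hb'T := conjSet_tv S ha hb'C
  have hab : a * b = b * a := commute_of_lines S ha.mem hb.mem
    (hl ▸ line_le_centralizer S hb) (hl.symm ▸ line_le_centralizer S ha)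
  obtain ⟨w₂, hw₂, hw₂a⟩ := SetLike.not_le_iff_exists.1 h1
  have hw₂V : w₂ ∈ V := line_le S hb'T.mem hw₂
  set w₁ := ⁅a, w₂⁆ with hw₁def
  have hw₁ : w₁ ∈ line V a := mem_line S ha.mem hw₂V
  have hw₁1 : w₁ ≠ 1 := fun e => hw₂a (Subgroup.mem_centralizer_singleton_iff.2
    (commutatorElement_eq_one_iff_mul_comm.1 e).symm)
  have hl₁ : Subgroup.zpowers w₁ = line V a := Subgroup.eq_of_le_of_card_ge (Subgroup.zpowers_le.2 hw₁)
    (by rw [card_line S ha, card_zpowers_prime (S.hV.2 _ (line_le S ha.mem hw₁)) hw₁1])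
  obtain ⟨j, hj⟩ : ∃ j : ℕ, w₁ ^ j = ⁅b, w₂⁆ := by
    have : ⁅b, w₂⁆ ∈ Subgroup.zpowers w₁ := hl₁ ▸ hl ▸ mem_line S hb.mem hw₂V
    exact Submonoid.mem_powers_iff _ _ |>.1 ((isOfFinOrder_of_finite w₁).mem_powers_iff_mem_zpowers.2 this)
  set d := b * (a ^ j)⁻¹ with hd
  have haj : a ^ j ∈ H := pow_mem ha.mem j
  have hdH : d ∈ H := mul_mem hb.mem (inv_mem haj)
  have hdl : ∀ c ∈ line V a, d * c * d⁻¹ = c := by
    intro c hc
    have e1 : (a ^ j)⁻¹ * c * (a ^ j) = c := by
      have : Commute c a := Subgroup.mem_centralizer_singleton_iff.1 (line_le_centralizer S ha hc)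
      rw [mul_assoc, (this.pow_right j).eq, inv_mul_cancel_left]
    calc d * c * d⁻¹ = b * ((a ^ j)⁻¹ * c * a ^ j) * b⁻¹ := by rw [hd]; group
      _ = c := by
        rw [e1, ← Subgroup.mem_centralizer_singleton_iff.1 (line_le_centralizer S hb (hl.symm ▸ hc)),
          mul_inv_cancel_right]
  have hdw₂ : d * w₂ * d⁻¹ = w₂ := by
    have e0 : a * w₁ * a⁻¹ = w₁ := by
      rw [← Subgroup.mem_centralizer_singleton_iff.1 (line_le_centralizer S ha hw₁), mul_inv_cancel_right]
    have hpow : ∀ n : ℕ, a ^ n * w₂ * (a ^ n)⁻¹ = w₁ ^ n * w₂ := by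
      intro n
      induction n with
      | zero => simp
      | succ n ih =>
        calc a ^ (n + 1) * w₂ * (a ^ (n + 1))⁻¹ = a * (a ^ n * w₂ * (a ^ n)⁻¹) * a⁻¹ := by
              rw [pow_succ']; group
          _ = (a * w₁ * a⁻¹) ^ n * (a * w₂ * a⁻¹) := by rw [ih, conj_pow]; group
          _ = w₁ ^ (n + 1) * w₂ := by rw [e0, pow_succ, hw₁def, commutatorElement_def]; group
    have hbw₁ : b * w₁ * b⁻¹ = w₁ := by
      rw [← Subgroup.mem_centralizer_singleton_iff.1 (line_le_centralizer S hb (hl.symm ▸ hw₁)),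
        mul_inv_cancel_right]
    calc d * w₂ * d⁻¹ = d * ((w₁ ^ j)⁻¹ * (a ^ j * w₂ * (a ^ j)⁻¹)) * d⁻¹ := by rw [hpow]; group
      _ = (d * (w₁ ^ j)⁻¹ * d⁻¹) * (b * w₂ * b⁻¹) := by rw [hd]; group
      _ = (w₁ ^ j)⁻¹ * (⁅b, w₂⁆ * w₂) := by
          rw [hdl _ (inv_mem (pow_mem hw₁ j)), commutatorElement_def b w₂]; group
      _ = w₂ := by rw [← hj]; group
  have hl₂ : Subgroup.zpowers w₂ = line V b' := Subgroup.eq_of_le_of_card_ge (Subgroup.zpowers_le.2 hw₂)
    (by rw [card_line S hb'T, card_zpowers_prime (S.hV.2 w₂ hw₂V) (fun e => hw₂a (e ▸ one_mem _))])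
  have hdW : ∀ w ∈ plane V K a, d * w * d⁻¹ = w := by
    intro w hw
    have hle : plane V K a ≤ Subgroup.centralizer ({d} : Set G) := by
      rw [hplane]
      refine sup_le (fun c hc => ?_) ?_
      · rw [Subgroup.mem_centralizer_singleton_iff]
        conv_lhs => rw [← hdl c hc]
        group
      · rw [← hl₂, Subgroup.zpowers_le, Subgroup.mem_centralizer_singleton_iff]
        conv_lhs => rw [← hdw₂]
        group
    rw [← Subgroup.mem_centralizer_singleton_iff.1 (hle hw), mul_inv_cancel_right]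
  -- `d` commutes with the component
  have hda : d * a = a * d := by
    have h1 : Commute a b := hab
    exact ((h1.mul_right ((Commute.refl a).pow_right j).inv_right).symm).eq
  have hdb : d * b' * d⁻¹ = b' := by
    obtain ⟨x, hx, hx'⟩ := hb'C
    have hmem : d * b' * d⁻¹ ∈ comp K a := by
      refine Subgroup.subset_closure ⟨d * x * d⁻¹, S.conjK_mem hdH hx, ?_⟩
      rw [hx']
      calc d * (x * a * x⁻¹) * d⁻¹ = d * x * d⁻¹ * (d * a) * d⁻¹ * (d * x * d⁻¹)⁻¹ := by group
        _ = d * x * d⁻¹ * a * (d * x * d⁻¹)⁻¹ := by rw [hda]; group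
    have hb'm : b' ∈ comp K a := Subgroup.subset_closure ⟨x, hx, hx'⟩
    refine eq_of_mul_inv_eq_one (hf _ (mul_mem hmem (inv_mem hb'm)) fun w hw => ?_)
    have hu : b'⁻¹ * w * b'⁻¹⁻¹ ∈ plane V K a :=
      (Subgroup.mem_normalizer_iff.1 (Subgroup.normalizer_commutator_ge_right V (comp K a) (inv_mem hb'm)) w).1 hw
    have h4 := hdW _ hu
    calc d * b' * d⁻¹ * b'⁻¹ * w * (d * b' * d⁻¹ * b'⁻¹)⁻¹
        = d * (b' * (d⁻¹ * (b'⁻¹ * w * b'⁻¹⁻¹) * d) * b'⁻¹) * d⁻¹ := by group
      _ = d * w * d⁻¹ := by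
          rw [show d⁻¹ * (b'⁻¹ * w * b'⁻¹⁻¹) * d = b'⁻¹ * w * b'⁻¹⁻¹ by
            conv_lhs => rw [← h4]
            group]
          group
      _ = w := hdW w hw
  -- so `d` is trivial on `V`
  have hd1 : d = 1 := S.eq_one_of_fix hdH fun v hv => by
    have hφ : d * v * d⁻¹ * v⁻¹ ∈ line V a := by
      have e : d * v * d⁻¹ * v⁻¹ = ⁅b, (a ^ j)⁻¹ * v * a ^ j⁆ * ⁅(a ^ j)⁻¹, v⁆ := by
        rw [hd]; simp only [commutatorElement_def]; group
      rw [e]
      refine mul_mem (hl ▸ mem_line S hb.mem (by simpa using S.conj_mem (inv_mem haj) hv)) ?_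
      rw [← commutatorElement_inv]
      exact inv_mem (Subgroup.commutator_mem_commutator hv
        (inv_mem (pow_mem (Subgroup.mem_zpowers a) j)))
    set φ := d * v * d⁻¹ * v⁻¹ with hφdef
    have hb'v : ⁅b', v⁆ ∈ plane V K a := line_le_plane hb'C (mem_line S hb'T.mem hv)
    have key : b' * φ * b'⁻¹ = φ := by
      calc b' * φ * b'⁻¹ = (d * b' * d⁻¹) * (d * v * d⁻¹) * (d * b' * d⁻¹)⁻¹ * (b' * v * b'⁻¹)⁻¹ := by
            rw [hdb, hφdef]; group
        _ = d * (⁅b', v⁆ * v) * d⁻¹ * (⁅b', v⁆ * v)⁻¹ := by rw [commutatorElement_def]; group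
        _ = (d * ⁅b', v⁆ * d⁻¹) * φ * ⁅b', v⁆⁻¹ := by rw [hφdef]; group
        _ = φ := by
            rw [hdW _ hb'v, S.comm (plane_le S ha hb'v) (line_le S ha.mem hφ), mul_inv_cancel_right]
    have hc : φ ∈ line V a ⊓ Subgroup.centralizer ({b'} : Set G) :=
      ⟨hφ, Subgroup.mem_centralizer_singleton_iff.2 (mul_inv_eq_iff_eq_mul.1 key).symm⟩
    by_contra hne
    apply h2
    have hφ1 : φ ≠ 1 := fun e => hne (mul_inv_eq_one.1 e)
    have e2 : Subgroup.zpowers φ = line V a := Subgroup.eq_of_le_of_card_ge (Subgroup.zpowers_le.2 hφ)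
      (by rw [card_line S ha, card_zpowers_prime (S.hV.2 _ (line_le S ha.mem hφ)) hφ1])
    rw [← e2, Subgroup.zpowers_le]
    exact hc.2
  rw [hd, mul_inv_eq_one] at hd1
  exact hd1 ▸ pow_mem (Subgroup.mem_zpowers a) j

theorem mem_comp_of_line_le (S : Setting p V H K) {a b : G} (ha : Tv p V H a) (hb : Tv p V H b)
    (hl : line V b ≤ plane V K a) : b ∈ comp K a := by
  obtain ⟨-, -, -, -, -, -, -, -, -, hcover⟩ := comp_spec S ha
  have hne : line V b ≠ ⊥ := fun e => by
    have := card_line S hb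
    rw [e, Subgroup.card_bot] at this
    exact hp.out.one_lt.ne this
  obtain ⟨r, hr, hr1⟩ := SetLike.exists_of_lt (bot_lt_iff_ne_bot.2 hne)
  have hr1' : r ≠ 1 := fun e => hr1 (e ▸ one_mem _)
  obtain ⟨t, ht, hrt⟩ := hcover r (hl hr) hr1'
  have htT := conjSet_tv S ha ht
  have hrp : r ^ p = 1 := S.hV.2 r (line_le S hb.mem hr)
  have e1 : line V b = line V t := by
    rw [← Subgroup.eq_of_le_of_card_ge (Subgroup.zpowers_le.2 hr) (by rw [card_line S hb, card_zpowers_prime hrp hr1']),
      Subgroup.eq_of_le_of_card_ge (Subgroup.zpowers_le.2 hrt) (by rw [card_line S htT, card_zpowers_prime hrp hr1'])]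
  exact Subgroup.zpowers_le.2 (Subgroup.subset_closure ht) (mem_zpowers_of_line S htT hb e1)

theorem comp_normalized (S : Setting p V H K) {a x : G} (hx : x ∈ K) :
    (comp K a).map (MulAut.conj x).toMonoidHom = comp K a := by
  rw [← comp_conj S (S.hKH hx)]
  exact comp_eq ⟨x, hx, rfl⟩

theorem comp_le_of_mem (S : Setting p V H K) {a b : G} (h : a ∈ comp K b) : comp K a ≤ comp K b := by
  refine (Subgroup.closure_le _).2 ?_
  rintro _ ⟨x, hx, rfl⟩
  rw [SetLike.mem_coe, ← comp_normalized S (a := b) hx]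
  exact ⟨a, h, rfl⟩

theorem comp_eq_of_mem (S : Setting p V H K) {a b : G} (ha : Tv p V H a) (hb : Tv p V H b)
    (h : b ∈ comp K a) : comp K b = comp K a := by
  have hle := comp_le_of_mem S h
  have hpl : plane V K b = plane V K a := by
    refine Subgroup.eq_of_le_of_card_ge (Subgroup.commutator_mono le_rfl hle) ?_
    obtain ⟨-, -, -, -, -, -, hca, -⟩ := comp_spec S ha
    obtain ⟨-, -, -, -, -, -, hcb, -⟩ := comp_spec S hb
    rw [hca, hcb]
  exact le_antisymm hle (comp_le_of_mem S
    (mem_comp_of_line_le S hb ha (hpl ▸ line_le_plane (self_mem_conjSet K a))))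

theorem comp_eq_of_plane_inf (S : Setting p V H K) {a b : G} (ha : Tv p V H a) (hb : Tv p V H b)
    (h : plane V K a ⊓ plane V K b ≠ ⊥) : comp K a = comp K b := by
  obtain ⟨-, -, -, -, -, -, -, -, -, hca⟩ := comp_spec S ha
  obtain ⟨-, -, -, -, -, -, -, -, -, hcb⟩ := comp_spec S hb
  obtain ⟨r, hr, hr1⟩ := SetLike.exists_of_lt (bot_lt_iff_ne_bot.2 h)
  have hr1' : r ≠ 1 := fun e => hr1 (e ▸ one_mem _)
  obtain ⟨t, ht, hrt⟩ := hca r hr.1 hr1'
  obtain ⟨u, hu, hru⟩ := hcb r hr.2 hr1'
  have htT := conjSet_tv S ha ht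
  have huT := conjSet_tv S hb hu
  have hrp : r ^ p = 1 := S.hV.2 r (line_le S htT.mem hrt)
  have e1 : line V t = line V u := by
    rw [← Subgroup.eq_of_le_of_card_ge (Subgroup.zpowers_le.2 hrt)
        (by rw [card_line S htT, card_zpowers_prime hrp hr1']),
      Subgroup.eq_of_le_of_card_ge (Subgroup.zpowers_le.2 hru)
        (by rw [card_line S huT, card_zpowers_prime hrp hr1'])]
  rw [← comp_eq (a := a) ht, ← comp_eq (a := b) hu]
  exact comp_eq_of_mem S huT htT
    (Subgroup.zpowers_le.2 (self_mem_comp K u) (mem_zpowers_of_line S huT htT e1))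

/-- An offender of order `p` outside a component centralizes its plane. -/
theorem plane_le_centralizer (S : Setting p V H K) {a b : G} (ha : Tv p V H a) (hb : Tv p V H b)
    (h : comp K a ≠ comp K b) : plane V K a ≤ Subgroup.centralizer ({b} : Set G) := by
  by_contra hcon
  obtain ⟨w, hw, hwb⟩ := SetLike.not_le_iff_exists.1 hcon
  obtain ⟨-, -, -, -, -, -, hcard, -⟩ := comp_spec S ha
  have hWV := plane_le S ha
  have ha' := ha.conj S hb.mem
  obtain ⟨r, hr, hr1⟩ : ∃ r ∈ plane V K a ⊓ Subgroup.centralizer ({b} : Set G), r ≠ 1 := by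
    have hne0 : plane V K a ⊓ Subgroup.centralizer ({b} : Set G) ≠ ⊥ := by
      intro e
      have e' : plane V K a ⊓ (V ⊓ Subgroup.centralizer ({b} : Set G)) = ⊥ := le_bot_iff.1
        (le_trans (inf_le_inf_left _ inf_le_right) e.le)
      have h := card_sup_mul_inf S.hV hWV (inf_le_left : V ⊓ Subgroup.centralizer ({b} : Set G) ≤ V)
      rw [e', Subgroup.card_bot, mul_one, hcard] at h
      have h4 : p ^ 2 * Nat.card (V ⊓ Subgroup.centralizer ({b} : Set G) : Subgroup G) ≤ Nat.card V :=
        h ▸ Subgroup.card_le_of_le (sup_le hWV inf_le_left)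
      rw [← hb.card_fix, sq, mul_assoc] at h4
      have := Nat.le_of_mul_le_mul_left h4 hp.out.pos
      have h5 := lt_mul_of_one_lt_left (Nat.card_pos
        (α := (V ⊓ Subgroup.centralizer ({b} : Set G) : Subgroup G))) hp.out.one_lt
      omega
    obtain ⟨r, hr, hr1⟩ := SetLike.exists_of_lt (bot_lt_iff_ne_bot.2 hne0)
    exact ⟨r, hr, fun e => hr1 (e ▸ one_mem _)⟩
  have hconj : plane V K a ⊓ plane V K (b * a * b⁻¹) ≠ ⊥ := fun e => hr1 (Subgroup.mem_bot.1 (e ▸
    ⟨hr.1, by rw [plane_conj S hb.mem]; exact ⟨r, hr.1, by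
      rw [MulEquiv.coe_toMonoidHom, MulAut.conj_apply,
        ← Subgroup.mem_centralizer_singleton_iff.1 hr.2, mul_inv_cancel_right]⟩⟩))
  have he := plane_congr (V := V) (comp_eq_of_plane_inf S ha ha' hconj)
  have hδ : ⁅b, w⁆ ∈ plane V K a := by
    rw [commutatorElement_def]
    refine mul_mem ?_ (inv_mem hw)
    rw [he, plane_conj S hb.mem]
    exact ⟨w, hw, rfl⟩
  have hδ1 : ⁅b, w⁆ ≠ 1 := fun e => hwb (Subgroup.mem_centralizer_singleton_iff.2
    (commutatorElement_eq_one_iff_mul_comm.1 e).symm)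
  refine h (comp_eq_of_plane_inf S ha hb fun e => hδ1 (Subgroup.mem_bot.1 (e ▸
    ⟨hδ, line_le_plane (self_mem_conjSet K b) (mem_line S hb.mem (hWV hw))⟩)))

/-- An offender of order `p` outside a component centralizes it. -/
theorem comp_le_centralizer (S : Setting p V H K) {a b : G} (ha : Tv p V H a) (hb : Tv p V H b)
    (h : comp K a ≠ comp K b) : comp K a ≤ Subgroup.centralizer ({b} : Set G) := by
  refine (Subgroup.closure_le _).2 fun t ht => ?_
  rw [SetLike.mem_coe, Subgroup.mem_centralizer_singleton_iff]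
  have htT := conjSet_tv S ha ht
  have h' : comp K t ≠ comp K b := by rwa [comp_eq ht]
  exact commute_of_lines S htT.mem hb.mem
    ((line_le_plane (self_mem_conjSet K t)).trans (plane_le_centralizer S htT hb h'))
    ((line_le_plane (self_mem_conjSet K b)).trans (plane_le_centralizer S hb htT h'.symm))

/-- An offender is generated by its offenders of order `p`. -/
theorem Off.eq_closure (S : Setting p V H K) {A : Subgroup G} (hA : Off p V H A) :
    A = Subgroup.closure {t | t ∈ A ∧ Tv p V H t} := by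
  refine le_antisymm ?_ ((Subgroup.closure_le _).2 fun t ht => ht.1)
  by_contra hcon
  obtain ⟨t, htA, htB, htO⟩ := exists_prime_off S hA hcon
  exact htB (Subgroup.subset_closure ⟨htA, fun e => htB (e ▸ one_mem _), htO⟩)

/-- `H` is generated by offenders. -/
theorem eq_closure_of_gen (S : Setting p V H K)
    (hS3 : H = ⨆ A : {A : Subgroup G // A ≤ H ∧ Cfsg.IsBestOffenderOn p V A}, (A : Subgroup G)) :
    H = Subgroup.closure {t | Tv p V H t} := by
  refine le_antisymm ?_ ((Subgroup.closure_le _).2 fun t ht => Tv.mem ht)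
  refine hS3.le.trans (iSup_le fun A => ?_)
  rw [Off.eq_closure S (off_of_best S A.2.1 A.2.2)]
  exact Subgroup.closure_mono fun t ht => ht.2

/-- The decomposition of `V` along a component. -/
theorem plane_complement (S : Setting p V H K) {a : G} (ha : Tv p V H a) :
    plane V K a ⊓ (V ⊓ Subgroup.centralizer (comp K a : Set G)) = ⊥ ∧
      plane V K a ⊔ (V ⊓ Subgroup.centralizer (comp K a : Set G)) = V := by
  obtain ⟨b, hbC, hcomp, hplane, h1, h2, hcard, hfix, -, -⟩ := comp_spec S ha
  have hbT := conjSet_tv S ha hbC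
  set W := plane V K a with hW
  set C := V ⊓ Subgroup.centralizer (comp K a : Set G) with hC
  have hWV := plane_le S ha
  have hinf : W ⊓ C = ⊥ := by
    rw [eq_bot_iff]
    intro r hr
    have hc := Subgroup.mem_centralizer_iff.1 hr.2.2
    have hra := hfix r hr.1 (hc a (self_mem_comp K a)).symm
    rw [Subgroup.mem_bot]
    by_contra hr1
    apply h2
    have e : Subgroup.zpowers r = line V a := Subgroup.eq_of_le_of_card_ge (Subgroup.zpowers_le.2 hra)
      (by rw [card_line S ha, card_zpowers_prime (S.hV.2 r hr.2.1) hr1])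
    rw [← e, Subgroup.zpowers_le, Subgroup.mem_centralizer_singleton_iff]
    exact (hc b (Subgroup.subset_closure hbC)).symm
  refine ⟨hinf, Subgroup.eq_of_le_of_card_ge (sup_le hWV inf_le_left) ?_⟩
  have hbig : Nat.card V ≤ p ^ 2 * Nat.card C := by
    have hCeq : (V ⊓ Subgroup.centralizer ({a} : Set G)) ⊓ (V ⊓ Subgroup.centralizer ({b} : Set G)) ≤ C := by
      intro v hv
      refine ⟨hv.1.1, Subgroup.mem_centralizer_iff.2 fun g hg => ?_⟩
      have hle : comp K a ≤ Subgroup.centralizer ({v} : Set G) := by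
        rw [hcomp, Subgroup.closure_le]
        rintro t (rfl | rfl)
        · exact Subgroup.mem_centralizer_singleton_iff.2 (Subgroup.mem_centralizer_singleton_iff.1 hv.1.2).symm
        · exact Subgroup.mem_centralizer_singleton_iff.2 (Subgroup.mem_centralizer_singleton_iff.1 hv.2.2).symm
      exact Subgroup.mem_centralizer_singleton_iff.1 (hle hg)
    have h := card_sup_mul_inf S.hV (inf_le_left : V ⊓ Subgroup.centralizer ({a} : Set G) ≤ V)
      (inf_le_left : V ⊓ Subgroup.centralizer ({b} : Set G) ≤ V)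
    have h3 := h.symm.le.trans (Nat.mul_le_mul (Subgroup.card_le_of_le (sup_le inf_le_left inf_le_left))
      (Subgroup.card_le_of_le hCeq))
    refine Nat.le_of_mul_le_mul_left ?_ (Nat.card_pos (α := V))
    calc Nat.card V * Nat.card V = (p * Nat.card (V ⊓ Subgroup.centralizer ({a} : Set G) : Subgroup G)) *
          (p * Nat.card (V ⊓ Subgroup.centralizer ({b} : Set G) : Subgroup G)) := by
          rw [ha.card_fix, hbT.card_fix]
      _ = p ^ 2 * (Nat.card (V ⊓ Subgroup.centralizer ({a} : Set G) : Subgroup G) *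
          Nat.card (V ⊓ Subgroup.centralizer ({b} : Set G) : Subgroup G)) := by ring
      _ ≤ p ^ 2 * (Nat.card V * Nat.card C) := Nat.mul_le_mul_left _ h3
      _ = Nat.card V * (p ^ 2 * Nat.card C) := by ring
  have h := card_sup_mul_inf S.hV hWV (inf_le_left : C ≤ V)
  rw [hinf, Subgroup.card_bot, mul_one, hcard] at h
  rw [h]
  exact hbig

/-- The remaining offenders of order `p`. -/
def rest (p : ℕ) (V H K : Subgroup G) (a : G) : Subgroup G :=
  Subgroup.closure {t | Tv p V H t ∧ comp K a ≠ comp K t}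

theorem rest_le (S : Setting p V H K) {a : G} (ha : Tv p V H a) :
    rest p V H K a ≤ H ⊓ Subgroup.centralizer (comp K a : Set G) ⊓
      Subgroup.centralizer (plane V K a : Set G) := by
  refine (Subgroup.closure_le _).2 fun t ht => ⟨⟨ht.1.mem, ?_⟩, ?_⟩
  · exact Subgroup.mem_centralizer_iff.2 fun g hg =>
      (Subgroup.mem_centralizer_singleton_iff.1 (comp_le_centralizer S ha ht.1 ht.2 hg))
  · exact Subgroup.mem_centralizer_iff.2 fun g hg =>
      (Subgroup.mem_centralizer_singleton_iff.1 (plane_le_centralizer S ha ht.1 ht.2 hg))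

/-- **The direct factor spanned by an offender of order `p`.** -/
theorem factor (S : Setting p V H K) (hgen : H = Subgroup.closure {t | Tv p V H t}) {a : G}
    (ha : Tv p V H a) :
    H ⊓ Subgroup.centralizer (plane V K a : Set G) = rest p V H K a ∧
      comp K a ⊔ rest p V H K a = H ∧ comp K a ⊓ rest p V H K a = ⊥ ∧
      ⁅comp K a, rest p V H K a⁆ = ⊥ ∧
      ⁅V, rest p V H K a⁆ ≤ V ⊓ Subgroup.centralizer (comp K a : Set G) ∧
      H ≤ Subgroup.normalizer (comp K a : Set G) := by
  obtain ⟨b, hbC, hcomp, hplane, -, -, -, -, hf, -⟩ := comp_spec S ha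
  have hr := rest_le S ha
  have hsup : comp K a ⊔ rest p V H K a = H := by
    refine le_antisymm (sup_le (comp_le S ha) (hr.trans (inf_le_left.trans inf_le_left))) ?_
    refine hgen.le.trans ((Subgroup.closure_le _).2 fun t ht => ?_)
    by_cases he : comp K a = comp K t
    · exact Subgroup.mem_sup_left (he ▸ self_mem_comp K t)
    · exact Subgroup.mem_sup_right (Subgroup.subset_closure ⟨ht, he⟩)
  have hcz : rest p V H K a ≤ Subgroup.centralizer (comp K a : Set G) :=
    hr.trans (inf_le_left.trans inf_le_right)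
  have hmul : ∀ h ∈ H, ∃ e ∈ comp K a, ∃ f ∈ rest p V H K a, h = e * f := by
    intro h hh
    have hmem : h ∈ (comp K a : Set G) * (rest p V H K a : Set G) := by
      rw [← Subgroup.coe_mul_of_right_le_normalizer_left (comp K a) (rest p V H K a)
        (hcz.trans (Subgroup.centralizer_le_normalizer _)), hsup]
      exact hh
    obtain ⟨e, he, f, hf', rfl⟩ := Set.mem_mul.1 hmem
    exact ⟨e, he, f, hf', rfl⟩
  have hinf : comp K a ⊓ rest p V H K a = ⊥ := by
    rw [eq_bot_iff]
    intro e he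
    rw [Subgroup.mem_bot]
    refine hf e he.1 fun w hw => ?_
    rw [← Subgroup.mem_centralizer_iff.1 (hr he.2).2 w hw, mul_inv_cancel_right]
  refine ⟨?_, hsup, hinf, ?_, ?_, ?_⟩
  · refine le_antisymm (fun h hh => ?_) (le_inf (hr.trans (inf_le_left.trans inf_le_left))
      (hr.trans inf_le_right))
    obtain ⟨e, he, f, hf', rfl⟩ := hmul h hh.1
    have he1 : e = 1 := by
      refine hf e he fun w hw => ?_
      have h1 := Subgroup.mem_centralizer_iff.1 hh.2 w hw
      have h2 := Subgroup.mem_centralizer_iff.1 (hr hf').2 w hw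
      calc e * w * e⁻¹ = e * (w * f) * f⁻¹ * e⁻¹ := by group
        _ = (e * f * w) * (e * f)⁻¹ := by rw [h2]; group
        _ = w := by rw [← h1]; group
    rwa [he1, one_mul]
  · rw [Subgroup.commutator_comm, Subgroup.commutator_eq_bot_iff_le_centralizer]
    exact hcz
  · rw [Subgroup.commutator_le]
    intro v hv f hf'
    have hfH : f ∈ H := (hr hf').1.1
    have hc : ⁅v, f⁆ ∈ V := by
      rw [commutatorElement_def, mul_assoc, mul_assoc, ← mul_assoc f]
      exact mul_mem hv (S.conj_mem hfH (inv_mem hv))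
    refine ⟨hc, Subgroup.mem_centralizer_iff.2 fun g hg => ?_⟩
    have hle : comp K a ≤ Subgroup.centralizer ({⁅v, f⁆} : Set G) := by
      refine (Subgroup.closure_le _).2 fun t ht => ?_
      have htT := conjSet_tv S ha ht
      rw [SetLike.mem_coe, Subgroup.mem_centralizer_singleton_iff]
      have hft : t * f = f * t := Subgroup.mem_centralizer_iff.1 (hcz hf') t (Subgroup.subset_closure ht)
      set x := ⁅t, v⁆ with hx
      have hxf : x * f = f * x :=
        Subgroup.mem_centralizer_iff.1 (hr hf').2 x (line_le_plane ht (mem_line S htT.mem hv))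
      have hxV : x ∈ V := line_le S htT.mem (mem_line S htT.mem hv)
      have key : t * ⁅v, f⁆ * t⁻¹ = ⁅v, f⁆ := by
        have e1 : t * f * t⁻¹ = f := by rw [hft, mul_inv_cancel_right]
        have e2 : t * v * t⁻¹ = x * v := by rw [hx, commutatorElement_def]; group
        calc t * ⁅v, f⁆ * t⁻¹ = (t * v * t⁻¹) * (t * f * t⁻¹) * (t * v * t⁻¹)⁻¹ * (t * f * t⁻¹)⁻¹ := by
              rw [commutatorElement_def]; group
          _ = x * v * (f * v⁻¹ * x⁻¹ * f⁻¹) := by rw [e1, e2]; group
          _ = x * (v * f * v⁻¹ * f⁻¹) * x⁻¹ := by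
              rw [mul_assoc (f * v⁻¹), show x⁻¹ * f⁻¹ = f⁻¹ * x⁻¹ by rw [← mul_inv_rev, ← mul_inv_rev, hxf]]
              group
          _ = ⁅v, f⁆ := by rw [← commutatorElement_def, S.comm hxV hc, mul_inv_cancel_right]
      exact (by rw [← mul_inv_eq_iff_eq_mul]; exact key : t * ⁅v, f⁆ = ⁅v, f⁆ * t)
    exact Subgroup.mem_centralizer_singleton_iff.1 (hle hg)
  · rw [← hsup]
    exact sup_le Subgroup.le_normalizer (hcz.trans (Subgroup.centralizer_le_normalizer _))

theorem comp_eq_commutator (S : Setting p V H K) {a : G} (ha : Tv p V H a) :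
    comp K a = ⁅K, Subgroup.zpowers a⁆ ⊔ Subgroup.zpowers a := by
  refine le_antisymm ((Subgroup.closure_le _).2 ?_) (sup_le ?_ (Subgroup.zpowers_le.2 (self_mem_comp K a)))
  · rintro _ ⟨x, hx, rfl⟩
    rw [SetLike.mem_coe, show x * a * x⁻¹ = ⁅x, a⁆ * a by rw [commutatorElement_def]; group]
    exact mul_mem (Subgroup.mem_sup_left (Subgroup.commutator_mem_commutator hx (Subgroup.mem_zpowers a)))
      (Subgroup.mem_sup_right (Subgroup.mem_zpowers a))
  · rw [Subgroup.commutator_le]
    intro x hx g hg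
    rw [commutatorElement_def]
    refine mul_mem ?_ (inv_mem (Subgroup.zpowers_le.2 (self_mem_comp K a) hg))
    rw [← comp_normalized S (a := a) hx]
    exact ⟨g, Subgroup.zpowers_le.2 (self_mem_comp K a) hg, rfl⟩

end Cfsg.Agent.FF

namespace Cfsg.Agent.FF

open Cfsg.Agent

variable {G : Type*} [Group G] [Finite G] {p : ℕ} [hp : Fact p.Prime] {V H K : Subgroup G}

/-- An offender is the direct product of offenders of order `p`. -/
theorem exists_family (S : Setting p V H K) : ∀ (n : ℕ) (A : Subgroup G), Nat.card A ≤ n → Off p V H A →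
    ∃ (k : ℕ) (t : Fin k → G), (∀ i, t i ∈ A ∧ Tv p V H (t i)) ∧
      iSupIndep (fun i => Subgroup.zpowers (t i)) ∧ (⨆ i, Subgroup.zpowers (t i)) = A := by
  intro n
  induction n with
  | zero => intro A h; exact absurd h (by simp [Nat.card_pos.ne'])
  | succ n ih =>
    intro A hn hA
    by_cases hA1 : A = ⊥
    · refine ⟨0, Fin.elim0, fun i => i.elim0, fun i => i.elim0, ?_⟩
      rw [hA1]
      exact le_antisymm (iSup_le fun i => i.elim0) bot_le
    obtain ⟨B, hBA, hcard, hB, -⟩ := exists_off_hyperplane S hA hA1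
    have hBlt : Nat.card B < Nat.card A := hcard ▸ lt_mul_of_one_lt_left Nat.card_pos hp.out.one_lt
    have hnle : ¬ A ≤ B := fun h => by
      have := Subgroup.card_le_of_le h
      omega
    obtain ⟨t, htA, htB, htO⟩ := exists_prime_off S hA hnle
    have ht : Tv p V H t := ⟨fun e => htB (e ▸ one_mem _), htO⟩
    obtain ⟨k, u, hu, hind, hsup⟩ := ih B (by omega) hB
    refine ⟨k + 1, (Fin.cons t u : Fin (k + 1) → G), ?_, ?_, ?_⟩
    · intro i
      refine Fin.cases ⟨htA, ht⟩ (fun j => ⟨hBA (hu j).1, (hu j).2⟩) i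
    · intro i
      rw [disjoint_iff, eq_bot_iff]
      induction i using Fin.cases with
      | zero =>
        rintro x ⟨hx, hx'⟩
        have hle : (⨆ j, ⨆ (_ : j ≠ (0 : Fin (k + 1))), Subgroup.zpowers ((Fin.cons t u : Fin (k + 1) → G) j)) ≤ B := by
          refine iSup₂_le fun j hj => ?_
          obtain ⟨j', rfl⟩ := Fin.exists_succ_eq.2 hj
          exact Subgroup.zpowers_le.2 (by rw [Fin.cons_succ]; exact (hu j').1)
        have h0 := inf_zpowers_eq_bot ht.pow_eq_one htB
        exact h0.le ⟨hle hx', by simpa using hx⟩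
      | succ j =>
        rintro x ⟨hx, hx'⟩
        simp only [Fin.cons_succ] at hx
        have hle : (⨆ l, ⨆ (_ : l ≠ j.succ), Subgroup.zpowers ((Fin.cons t u : Fin (k + 1) → G) l)) ≤
            (⨆ l, ⨆ (_ : l ≠ j), Subgroup.zpowers (u l)) ⊔ Subgroup.zpowers t := by
          refine iSup₂_le fun l hl => ?_
          induction l using Fin.cases with
          | zero => simp
          | succ l' =>
            simp only [Fin.cons_succ]
            exact le_sup_of_le_left (le_iSup₂_of_le l' (fun e => hl (e ▸ rfl)) le_rfl)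
        set R := ⨆ l, ⨆ (_ : l ≠ j), Subgroup.zpowers (u l) with hR
        have hRB : R ≤ B := iSup₂_le fun l _ => Subgroup.zpowers_le.2 (hu l).1
        have hmem : x ∈ (R : Set G) * (Subgroup.zpowers t : Set G) := by
          rw [← Subgroup.coe_mul_of_right_le_normalizer_left R (Subgroup.zpowers t)
            (((Subgroup.zpowers_le.2 htA).trans (le_centralizer_of_ea hA.2.1 (hRB.trans hBA))).trans
              (Subgroup.centralizer_le_normalizer _))]
          exact hle hx'
        obtain ⟨r, hr, z, hz, rfl⟩ := Set.mem_mul.1 hmem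
        have hzB : z ∈ B := by
          rw [show z = r⁻¹ * (r * z) by group]
          exact mul_mem (inv_mem (hRB hr)) (Subgroup.zpowers_le.2 (hu j).1 hx)
        have hz1 : z = 1 := Subgroup.mem_bot.1 ((inf_zpowers_eq_bot ht.pow_eq_one htB).le ⟨hzB, hz⟩)
        rw [hz1, mul_one] at hx ⊢
        exact (disjoint_iff.1 (hind j)).le ⟨hx, hr⟩
    · refine le_antisymm (iSup_le fun i => ?_) ?_
      · refine Fin.cases ?_ (fun j => ?_) i
        · simpa using htA
        · simpa using hBA (hu j).1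
      · have hle : B ⊔ Subgroup.zpowers t ≤ ⨆ i, Subgroup.zpowers ((Fin.cons t u : Fin (k + 1) → G) i) := by
          refine sup_le ?_ (le_iSup_of_le 0 (by simp))
          rw [← hsup]
          exact iSup_le fun j => le_iSup_of_le j.succ (by simp)
        refine le_trans ?_ hle
        refine (Subgroup.eq_of_le_of_card_ge (sup_le hBA (Subgroup.zpowers_le.2 htA)) ?_).ge
        rw [card_sup_zpowers hA.2.1 hBA htA htB, hcard]

end Cfsg.Agent.FF
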