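import Cfsg.Agent.S0597
import Cfsg.Agent.Lib.Transfer.Basic

/-!
Two subnormal subgroups with irreducible, incomparable commutator modules centralize each other.
-/

set_option autoImplicit false
set_option linter.style.haveILetI false
set_option linter.unusedSectionVars false
set_option linter.unusedVariables false
open scoped commutatorElement Pointwise

namespace Cfsg.Agent.FF.SubPair

open Cfsg.Agent

variable {G : Type*} [Group G] [Finite G] {p : ℕ} [hp : Fact p.Prime] {V : Subgroup G}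

/-- A subnormal subgroup of `E`. -/
def Sub (E A : Subgroup G) : Prop := A ≤ E ∧ (A.subgroupOf E).IsSubnormal

/-- Standing hypotheses on the acting group. -/
structure Grp (p : ℕ) (V E : Subgroup G) : Prop where
  norm : E ≤ Subgroup.normalizer (V : Set G)
  faith : E ⊓ Subgroup.centralizer (V : Set G) = ⊥
  noP : ∀ P : Subgroup G, Sub E P → IsPGroup p P → P = ⊥

/-- `A` is irreducible on `[V, A]`. -/
def Irr (V A : Subgroup G) : Prop :=
  ∀ U : Subgroup G, U ≤ ⁅V, A⁆ → A ≤ Subgroup.normalizer (U : Set G) → U = ⊥ ∨ U = ⁅V, A⁆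

theorem Sub.of_le {E L A : Subgroup G} (h : Sub E A) (hLE : L ≤ E) (hAL : A ≤ L) : Sub L A := by
  refine ⟨hAL, ?_⟩
  have e : A.subgroupOf L = (A.subgroupOf E).comap (Subgroup.inclusion hLE) := by
    ext x; simp [Subgroup.mem_subgroupOf]
  rw [e]
  exact h.2.comap _

theorem Sub.trans {E L A : Subgroup G} (h : Sub L A) (hL : Sub E L) : Sub E A := by
  refine ⟨h.1.trans hL.1, Subgroup.IsSubnormal.trans (K := L.subgroupOf E) ?_ ?_ hL.2⟩
  · exact Subgroup.subgroupOf_mono _ h.1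
  · have e : (A.subgroupOf E).subgroupOf (L.subgroupOf E) =
        (A.subgroupOf L).comap (Subgroup.subgroupOfEquivOfLe hL.1).toMonoidHom := by
      ext x; simp [Subgroup.mem_subgroupOf, Subgroup.subgroupOfEquivOfLe]
    rw [e]
    exact h.2.comap _

theorem Sub.sup {E A B : Subgroup G} (hA : Sub E A) (hB : Sub E B) : Sub E (A ⊔ B) := by
  refine ⟨sup_le hA.1 hB.1, ?_⟩
  rw [Subgroup.subgroupOf_sup hA.1 hB.1]
  exact LEWielandt.sup hA.2 hB.2

theorem Sub.conj {E A : Subgroup G} (hA : Sub E A) {e : G} (he : e ∈ E) :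
    Sub E (A.map (MulAut.conj e).toMonoidHom) := by
  refine ⟨?_, ?_⟩
  · rintro _ ⟨a, ha, rfl⟩
    exact mul_mem (mul_mem he (hA.1 ha)) (inv_mem (s := E) he)
  · have h := hA.2.map (f := (MulAut.conj (⟨e, he⟩ : E)).toMonoidHom) (MulAut.conj _).surjective
    have e' : (A.map (MulAut.conj e).toMonoidHom).subgroupOf E =
        (A.subgroupOf E).map (MulAut.conj (⟨e, he⟩ : E)).toMonoidHom := by
      ext x
      constructor
      · rintro ⟨a, ha, hax⟩
        exact ⟨⟨a, hA.1 ha⟩, ha, Subtype.ext hax⟩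
      · rintro ⟨a, ha, rfl⟩
        exact ⟨(a : G), ha, rfl⟩
    rw [e']; exact h

theorem Sub.normal {E A N : Subgroup G} (hA : Sub E A) (hN : N ≤ A)
    (hn : A ≤ Subgroup.normalizer (N : Set G)) : Sub E N := by
  refine ⟨hN.trans hA.1, Subgroup.IsSubnormal.step _ _ (Subgroup.subgroupOf_mono _ hN) hA.2 ?_⟩
  rw [Subgroup.normal_subgroupOf_iff_le_normalizer (Subgroup.subgroupOf_mono _ hN)]
  exact fun x hx => Subgroup.mem_normalizer_iff.2 fun y => Subgroup.mem_normalizer_iff.1 (hn hx) (y : G)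

theorem Grp.restrict {E L : Subgroup G} (g : Grp p V E) (hL : Sub E L) : Grp p V L :=
  ⟨hL.1.trans g.norm, le_bot_iff.1 ((inf_le_inf_right _ hL.1).trans g.faith.le),
    fun P hP hp' => g.noP P (hP.trans hL) hp'⟩

theorem comm (hV : Cfsg.IsElementaryAbelian p V) {u v : G} (hu : u ∈ V) (hv : v ∈ V) : u * v = v * u :=
  congrArg Subtype.val (hV.1.is_comm.comm (⟨u, hu⟩ : V) ⟨v, hv⟩)

theorem comm_le {E : Subgroup G} (g : Grp p V E) {A : Subgroup G} (hA : A ≤ E) : ⁅V, A⁆ ≤ V := by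
  rw [Subgroup.commutator_le]
  intro v hv a ha
  rw [commutatorElement_def, mul_assoc, mul_assoc, ← mul_assoc a]
  exact mul_mem hv ((Subgroup.mem_normalizer_iff.1 (g.norm (hA ha)) _).1 (inv_mem hv))

theorem self_norm (A : Subgroup G) : A ≤ Subgroup.normalizer ((⁅V, A⁆ : Subgroup G) : Set G) :=
  Subgroup.normalizer_commutator_ge_right V A

theorem mem_mod {E A : Subgroup G} (g : Grp p V E) (hA : A ≤ E) {a v : G} (ha : a ∈ A) (hv : v ∈ V) :
    a * v * a⁻¹ * v⁻¹ ∈ ⁅V, A⁆ := by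
  have := inv_mem (Subgroup.commutator_mem_commutator (H₁ := V) (H₂ := A) hv ha)
  rw [commutatorElement_inv, commutatorElement_def] at this
  exact this

/-- An element of a subgroup trivial on its module is trivial. -/
theorem eq_bot_of_trivial (hV : Cfsg.IsElementaryAbelian p V) {E A N : Subgroup G} (g : Grp p V E)
    (hA : Sub E A) (hN : N ≤ A) (hn : A ≤ Subgroup.normalizer (N : Set G))
    (htriv : ∀ n ∈ N, ∀ w ∈ ⁅V, A⁆, n * w * n⁻¹ = w) : N = ⊥ := by
  refine g.noP N (hA.normal hN hn) fun n => ⟨1, Subtype.ext ?_⟩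
  rw [pow_one, Subgroup.coe_pow, Subgroup.coe_one, ← Subgroup.mem_bot, ← g.faith]
  refine ⟨pow_mem (hA.1 (hN n.2)) p, Subgroup.mem_centralizer_iff.2 fun v hv => ?_⟩
  set w := (n : G) * v * (n : G)⁻¹ * v⁻¹ with hw
  have hwm : w ∈ ⁅V, A⁆ := mem_mod g hA.1 (hN n.2) hv
  have hpow : ∀ k : ℕ, (n : G) ^ k * v * ((n : G) ^ k)⁻¹ = w ^ k * v := by
    intro k
    induction k with
    | zero => simp
    | succ k ih =>
      calc (n : G) ^ (k + 1) * v * ((n : G) ^ (k + 1))⁻¹ = (n : G) * ((n : G) ^ k * v * ((n : G) ^ k)⁻¹) * (n : G)⁻¹ := by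
            rw [pow_succ']; group
        _ = ((n : G) * w * (n : G)⁻¹) ^ k * ((n : G) * v * (n : G)⁻¹) := by rw [ih, conj_pow]; group
        _ = w ^ (k + 1) * v := by rw [htriv n n.2 w hwm, pow_succ, hw]; group
  have h := hpow p
  rw [hV.2 w (comm_le g hA.1 hwm), one_mul, mul_inv_eq_iff_eq_mul] at h
  exact h.symm

/-- The fixed points of `A` in its irreducible module are trivial. -/
theorem fix_eq_one (hV : Cfsg.IsElementaryAbelian p V) {E A : Subgroup G} (g : Grp p V E) (hA : Sub E A)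
    (hirr : Irr V A) (hA1 : A ≠ ⊥) {w : G} (hw : w ∈ ⁅V, A⁆) (hfix : ∀ a ∈ A, a * w * a⁻¹ = w) : w = 1 := by
  have hsub : A ≤ Subgroup.normalizer ((⁅V, A⁆ ⊓ Subgroup.centralizer (A : Set G) : Subgroup G) : Set G) := by
    intro a ha
    rw [Subgroup.mem_normalizer_iff_map_conj_eq]
    refine Subgroup.eq_of_le_of_card_ge ?_ (Subgroup.card_map_of_injective (MulAut.conj a).injective).ge
    rintro _ ⟨x, hx, rfl⟩
    have hxa := Subgroup.mem_centralizer_iff.1 hx.2 a ha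
    rw [MonoidHom.coe_coe, MulAut.conj_apply, hxa, mul_inv_cancel_right]
    exact hx
  rcases hirr _ inf_le_left hsub with h | h
  · exact Subgroup.mem_bot.1 (h.le ⟨hw, Subgroup.mem_centralizer_iff.2 fun a ha => by
      conv_rhs => rw [← hfix a ha]
      group⟩)
  · refine absurd (eq_bot_of_trivial hV g hA le_rfl Subgroup.le_normalizer fun n hn x hx => ?_) hA1
    rw [Subgroup.mem_centralizer_iff.1 (h.ge hx).2 n hn, mul_inv_cancel_right]

theorem inf_of_norm (hV : Cfsg.IsElementaryAbelian p V) {A B : Subgroup G} (hirr : Irr V B)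
    (h : ¬ ⁅V, B⁆ ≤ ⁅V, A⁆) (hn : B ≤ Subgroup.normalizer ((⁅V, A⁆ : Subgroup G) : Set G)) :
    ⁅V, A⁆ ⊓ ⁅V, B⁆ = ⊥ := by
  have hsub : B ≤ Subgroup.normalizer ((⁅V, A⁆ ⊓ ⁅V, B⁆ : Subgroup G) : Set G) := by
    intro b hb
    have h1 := hn hb
    have h2 := self_norm (V := V) B hb
    rw [Subgroup.mem_normalizer_iff] at h1 h2 ⊢
    intro x
    simp only [Subgroup.mem_inf]
    rw [h1 x, h2 x]
  rcases hirr _ inf_le_right hsub with h1 | h1
  · exact h1
  · exact absurd (h1.ge.trans inf_le_left) h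

/-- If `B` normalizes `[V, A]` then `A` and `B` commute. -/
theorem done_of_norm (hV : Cfsg.IsElementaryAbelian p V) {E A B : Subgroup G} (g : Grp p V E)
    (hA : Sub E A) (hB : Sub E B) (hirrB : Irr V B) (h : ¬ ⁅V, B⁆ ≤ ⁅V, A⁆)
    (hn : B ≤ Subgroup.normalizer ((⁅V, A⁆ : Subgroup G) : Set G)) :
    ⁅A, B⁆ = ⊥ ∧ ⁅V, A⁆ ⊓ ⁅V, B⁆ = ⊥ := by
  have hinf := inf_of_norm hV hirrB h hn
  refine ⟨?_, hinf⟩
  have h3 : ⁅⁅V, A⁆, B⁆ = ⊥ := by
    rw [eq_bot_iff, Subgroup.commutator_le]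
    intro w hw b hb
    have hwV : w ∈ V := comm_le g hA.1 hw
    have h1 : ⁅w, b⁆ ∈ ⁅V, A⁆ := by
      rw [commutatorElement_def, mul_assoc, mul_assoc, ← mul_assoc b]
      exact mul_mem hw ((Subgroup.mem_normalizer_iff.1 (hn hb) _).1 (inv_mem hw))
    exact hinf.le ⟨h1, Subgroup.commutator_mem_commutator hwV hb⟩
  have h4 := S0597.result V E hV g.norm g.faith A B hA.1 hB.1 hA.2 hB.2 h3
  refine g.noP _ ?_ ?_
  · have hAB := hA.sup hB
    refine hAB.normal ((Subgroup.commutator_mono le_sup_left le_sup_right).trans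
      (Subgroup.commutator_le_self _)) ?_
    exact sup_le (Subgroup.normalizer_commutator_ge_left A B) (Subgroup.normalizer_commutator_ge_right A B)
  · exact ((PBasic.pCore_isPGroup p E).map E.subtype).to_le h4

omit [Finite G] hp in
theorem map_mod {E A : Subgroup G} (g : Grp p V E) {e : G} (he : e ∈ E) :
    ⁅V, A.map (MulAut.conj e).toMonoidHom⁆ = (⁅V, A⁆ : Subgroup G).map (MulAut.conj e).toMonoidHom := by
  have hV' : V.map (MulAut.conj e).toMonoidHom = V :=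
    Subgroup.mem_normalizer_iff_map_conj_eq.1 (g.norm he)
  rw [Subgroup.map_commutator, hV']

theorem irr_conj {E A : Subgroup G} (g : Grp p V E) {e : G} (he : e ∈ E) (h : Irr V A) :
    Irr V (A.map (MulAut.conj e).toMonoidHom) := by
  intro U hU hn
  rw [map_mod g he] at hU ⊢
  have hinj := (MulAut.conj e).injective
  have e1 : (U.comap (MulAut.conj e).toMonoidHom).map (MulAut.conj e).toMonoidHom = U :=
    Subgroup.map_comap_eq_self_of_surjective (MulAut.conj e).surjective U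
  rcases h (U.comap (MulAut.conj e).toMonoidHom) (by
      intro x hx
      obtain ⟨y, hy, hxy⟩ := hU (Subgroup.mem_comap.1 hx)
      rwa [hinj hxy] at hy)
    (by
      intro a ha
      have := hn ⟨a, ha, rfl⟩
      rw [Subgroup.mem_normalizer_iff] at this ⊢
      intro x
      simp only [Subgroup.mem_comap, MulEquiv.coe_toMonoidHom, MulAut.conj_apply] at this ⊢
      rw [this (e * x * e⁻¹)]
      rw [show e * a * e⁻¹ * (e * x * e⁻¹) * (e * a * e⁻¹)⁻¹ = e * (a * x * a⁻¹) * e⁻¹ by group]) with h1 | h1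
  · left; rw [← e1, h1, Subgroup.map_bot]
  · right; rw [← e1, h1]

/-- The key configuration: `B` moves `[V, A]`. -/
theorem moved (hV : Cfsg.IsElementaryAbelian p V) {E A B : Subgroup G} (g : Grp p V E)
    (hA : Sub E A) (hB : Sub E B) (hirrA : Irr V A) (hA1 : A ≠ ⊥)
    (hconj : ∀ e ∈ E, (⁅V, A⁆ : Subgroup G).map (MulAut.conj e).toMonoidHom ≠ ⁅V, A⁆ →
      ⁅A, A.map (MulAut.conj e).toMonoidHom⁆ = ⊥ ∧
        ⁅V, A⁆ ⊓ (⁅V, A⁆ : Subgroup G).map (MulAut.conj e).toMonoidHom = ⊥)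
    {e : G} (he : e ∈ B) (hne : (⁅V, A⁆ : Subgroup G).map (MulAut.conj e).toMonoidHom ≠ ⁅V, A⁆) :
    Nat.card (⁅V, A⁆ : Subgroup G) ≤ Nat.card (⁅V, B⁆ : Subgroup G) ∧
    (Nat.card (⁅V, B⁆ : Subgroup G) ≤ Nat.card (⁅V, A⁆ : Subgroup G) →
      (⁅V, A⁆ ⊓ ⁅V, B⁆ = ⊥) ∧ (∀ y ∈ ⁅V, B⁆, ∃ v ∈ ⁅V, A⁆, e * v * e⁻¹ * v⁻¹ = y) ∧
      (⁅V, B⁆ ≠ ⊥ → ∀ f ∈ B, (⁅V, A⁆ : Subgroup G).map (MulAut.conj f).toMonoidHom = ⁅V, A⁆ ∨
        (⁅V, A⁆ : Subgroup G).map (MulAut.conj f).toMonoidHom =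
          (⁅V, A⁆ : Subgroup G).map (MulAut.conj e).toMonoidHom) ∧
      ∀ a ∈ A, (⁅V, B⁆ : Subgroup G).map (MulAut.conj a).toMonoidHom = ⁅V, B⁆ → a = 1) := by
  classical
  set X : Subgroup G := ⁅V, A⁆ with hX
  set Y : Subgroup G := ⁅V, B⁆ with hY
  have hXV : X ≤ V := comm_le g hA.1
  have heE : e ∈ E := hB.1 he
  obtain ⟨-, hinf⟩ := hconj e heE hne
  let φ : X → Y := fun v => ⟨e * v * e⁻¹ * (v : G)⁻¹, mem_mod g hB.1 he (hXV v.2)⟩
  have hφ : Function.Injective φ := by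
    intro u v huv
    have huv' : e * (u : G) * e⁻¹ * (u : G)⁻¹ = e * v * e⁻¹ * (v : G)⁻¹ := congrArg Subtype.val huv
    have h1 : (v : G)⁻¹ * u ∈ X ⊓ X.map (MulAut.conj e).toMonoidHom := by
      refine ⟨mul_mem (inv_mem (s := X) v.2) u.2, (v : G)⁻¹ * u, mul_mem (inv_mem (s := X) v.2) u.2, ?_⟩
      rw [MulEquiv.coe_toMonoidHom, MulAut.conj_apply]
      calc e * ((v : G)⁻¹ * u) * e⁻¹ = (e * v * e⁻¹)⁻¹ * (e * u * e⁻¹ * (u : G)⁻¹) * u := by group
        _ = (v : G)⁻¹ * u := by rw [huv']; group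
    rw [hinf, Subgroup.mem_bot, inv_mul_eq_one] at h1
    exact (Subtype.ext h1).symm
  refine ⟨Nat.card_le_card_of_injective φ hφ, fun hle => ?_⟩
  have hsurj : Function.Surjective φ :=
    (hφ.bijective_of_nat_card_le hle).2
  have hmap : ∀ y ∈ Y, ∃ v ∈ X, e * v * e⁻¹ * v⁻¹ = y := fun y hy => by
    obtain ⟨v, hv⟩ := hsurj ⟨y, hy⟩
    exact ⟨v, v.2, congrArg Subtype.val hv⟩
  have hXY : X ⊓ Y = ⊥ := by
    rw [eq_bot_iff]
    rintro y ⟨hyX, hyY⟩
    obtain ⟨v, hv, rfl⟩ := hmap y hyY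
    have h1 : e * v * e⁻¹ ∈ X ⊓ X.map (MulAut.conj e).toMonoidHom := by
      refine ⟨?_, v, hv, rfl⟩
      have := mul_mem hyX hv
      rwa [inv_mul_cancel_right] at this
    rw [hinf, Subgroup.mem_bot] at h1
    rw [conj_eq_one_iff] at h1
    simp [h1]
  -- elements of `A` fix the other conjugates of `X` pointwise
  have hfix : ∀ f ∈ E, X.map (MulAut.conj f).toMonoidHom ≠ X → ∀ a ∈ A, ∀ w ∈ X,
      a * (f * w * f⁻¹) * a⁻¹ = f * w * f⁻¹ := by
    intro f hf hfne a ha w hw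
    obtain ⟨hc, hi⟩ := hconj f hf hfne
    have hn : a ∈ Subgroup.normalizer ((X.map (MulAut.conj f).toMonoidHom : Subgroup G) : Set G) := by
      rw [hX, ← map_mod g hf, Subgroup.mem_normalizer_iff_map_conj_eq]
      have hV' : V.map (MulAut.conj a).toMonoidHom = V :=
        Subgroup.mem_normalizer_iff_map_conj_eq.1 (g.norm (hA.1 ha))
      refine (Subgroup.map_commutator _ _ _).trans ?_
      rw [show V.map ((MulAut.conj a : G ≃* G) : G →* G) = V from hV']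
      congr 1
      refine Subgroup.mem_normalizer_iff_map_conj_eq.1 (Subgroup.centralizer_le_normalizer _ ?_)
      exact (Subgroup.commutator_eq_bot_iff_le_centralizer.1 hc) ha
    have h1 : a * (f * w * f⁻¹) * a⁻¹ * (f * w * f⁻¹)⁻¹ ∈ X ⊓ X.map (MulAut.conj f).toMonoidHom :=
      ⟨mem_mod g hA.1 ha ((Subgroup.mem_normalizer_iff.1 (g.norm hf) w).1 (hXV hw)),
        mul_mem ((Subgroup.mem_normalizer_iff.1 hn _).1 ⟨w, hw, rfl⟩) (inv_mem (s := X.map (MulAut.conj f).toMonoidHom) ⟨w, hw, rfl⟩)⟩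
    rw [hi, Subgroup.mem_bot, mul_inv_eq_one] at h1
    exact h1
  refine ⟨hXY, hmap, ?_, ?_⟩
  · intro hY0 f hf
    by_contra hcon
    push Not at hcon
    obtain ⟨hf1, hf2⟩ := hcon
    apply hY0
    rw [eq_bot_iff]
    intro y hy
    have hg : (e⁻¹ * f) ∈ E := mul_mem (inv_mem heE) (hB.1 hf)
    have hg1 : X.map (MulAut.conj (e⁻¹ * f)).toMonoidHom ≠ X := by
      intro hh
      apply hf2
      conv_rhs => rw [← hh]
      rw [Subgroup.map_map]
      congr 1
      ext x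
      simp [mul_assoc]
    obtain ⟨v, hv, rfl⟩ := hmap y hy
    -- every value is also a commutator with `f`
    let ψ : X → Y := fun v => ⟨f * v * f⁻¹ * (v : G)⁻¹, mem_mod g hB.1 hf (hXV v.2)⟩
    obtain ⟨-, hinf'⟩ := hconj f (hB.1 hf) hf1
    have hψ : Function.Injective ψ := by
      intro u v huv
      have huv' : f * (u : G) * f⁻¹ * (u : G)⁻¹ = f * v * f⁻¹ * (v : G)⁻¹ := congrArg Subtype.val huv
      have h1 : (v : G)⁻¹ * u ∈ X ⊓ X.map (MulAut.conj f).toMonoidHom := by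
        refine ⟨mul_mem (inv_mem (s := X) v.2) u.2, (v : G)⁻¹ * u, mul_mem (inv_mem (s := X) v.2) u.2, ?_⟩
        rw [MulEquiv.coe_toMonoidHom, MulAut.conj_apply]
        calc f * ((v : G)⁻¹ * u) * f⁻¹ = (f * v * f⁻¹)⁻¹ * (f * u * f⁻¹ * (u : G)⁻¹) * u := by group
          _ = (v : G)⁻¹ * u := by rw [huv']; group
      rw [hinf', Subgroup.mem_bot, inv_mul_eq_one] at h1
      exact (Subtype.ext h1).symm
    obtain ⟨⟨u, hu⟩, huv⟩ := (hψ.bijective_of_nat_card_le hle).2 ⟨_, hy⟩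
    have huv' : f * u * f⁻¹ * u⁻¹ = e * v * e⁻¹ * v⁻¹ := congrArg Subtype.val huv
    have huve : ∀ a ∈ A, a * (v⁻¹ * u) * a⁻¹ = v⁻¹ * u := by
      intro a ha
      have e1 : a * (f * u * f⁻¹ * u⁻¹) * a⁻¹ = a * (e * v * e⁻¹ * v⁻¹) * a⁻¹ := by rw [huv']
      have e2 : f * u * f⁻¹ * (a * u * a⁻¹)⁻¹ = e * v * e⁻¹ * (a * v * a⁻¹)⁻¹ := by
        calc f * u * f⁻¹ * (a * u * a⁻¹)⁻¹ = (a * (f * u * f⁻¹) * a⁻¹) * (a * u * a⁻¹)⁻¹ := by
              rw [hfix f (hB.1 hf) hf1 a ha u hu]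
          _ = a * (f * u * f⁻¹ * u⁻¹) * a⁻¹ := by group
          _ = a * (e * v * e⁻¹ * v⁻¹) * a⁻¹ := e1
          _ = (a * (e * v * e⁻¹) * a⁻¹) * (a * v * a⁻¹)⁻¹ := by group
          _ = e * v * e⁻¹ * (a * v * a⁻¹)⁻¹ := by rw [hfix e heE hne a ha v hv]
      have hau : a * u * a⁻¹ ∈ V := (Subgroup.mem_normalizer_iff.1 (g.norm (hA.1 ha)) u).1 (hXV hu)
      have hav : a * v * a⁻¹ ∈ V := (Subgroup.mem_normalizer_iff.1 (g.norm (hA.1 ha)) v).1 (hXV hv)
      have hfu : f * u * f⁻¹ ∈ V := (Subgroup.mem_normalizer_iff.1 (g.norm (hB.1 hf)) u).1 (hXV hu)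
      calc a * (v⁻¹ * u) * a⁻¹ = (a * v * a⁻¹)⁻¹ * (a * u * a⁻¹) := by group
        _ = (e * v * e⁻¹)⁻¹ * (f * u * f⁻¹ * (a * u * a⁻¹)⁻¹) * (a * u * a⁻¹) := by rw [e2]; group
        _ = (e * v * e⁻¹)⁻¹ * (f * u * f⁻¹) := by group
        _ = (e * v * e⁻¹)⁻¹ * (f * u * f⁻¹ * u⁻¹) * u := by group
        _ = v⁻¹ * u := by rw [huv']; group
    have h1 := fix_eq_one hV g hA hirrA hA1 (mul_mem (inv_mem hv) hu) huve
    rw [inv_mul_eq_one] at h1
    rw [← h1] at huv'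
    have h2 : v ∈ X ⊓ X.map (MulAut.conj (e⁻¹ * f)).toMonoidHom := by
      refine ⟨hv, v, hv, ?_⟩
      rw [MulEquiv.coe_toMonoidHom, MulAut.conj_apply]
      have h3 : f * v * f⁻¹ = e * v * e⁻¹ := mul_right_cancel huv'
      calc e⁻¹ * f * v * (e⁻¹ * f)⁻¹ = e⁻¹ * (f * v * f⁻¹) * e := by group
        _ = v := by rw [h3]; group
    rw [(hconj _ hg hg1).2, Subgroup.mem_bot] at h2
    rw [h2, Subgroup.mem_bot]; group
  · -- an element of `A` normalizing `Y` is trivial on `X`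
    intro a ha hnY
    set N := A ⊓ Subgroup.centralizer (X : Set G) with hN
    have haN : a ∈ N := by
      refine ⟨ha, Subgroup.mem_centralizer_iff.2 fun v hv => ?_⟩
      have hy : e * v * e⁻¹ * v⁻¹ ∈ Y := mem_mod g hB.1 he (hXV hv)
      have hy' : a * (e * v * e⁻¹ * v⁻¹) * a⁻¹ ∈ Y := by
        rw [← hnY]; exact ⟨_, hy, rfl⟩
      have e1 : a * (e * v * e⁻¹ * v⁻¹) * a⁻¹ = e * v * e⁻¹ * (a * v * a⁻¹)⁻¹ := by
        calc a * (e * v * e⁻¹ * v⁻¹) * a⁻¹ = (a * (e * v * e⁻¹) * a⁻¹) * (a * v * a⁻¹)⁻¹ := by group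
          _ = _ := by rw [hfix e heE hne a ha v hv]
      have hav : a * v * a⁻¹ ∈ X := (Subgroup.mem_normalizer_iff.1 (self_norm A ha) v).1 hv
      have h1 : v * (a * v * a⁻¹)⁻¹ ∈ X ⊓ Y := by
        refine ⟨mul_mem hv (inv_mem (s := X) hav), ?_⟩
        have h2 := mul_mem (inv_mem hy) hy'
        rw [e1] at h2
        rwa [show (e * v * e⁻¹ * v⁻¹)⁻¹ * (e * v * e⁻¹ * (a * v * a⁻¹)⁻¹) = v * (a * v * a⁻¹)⁻¹ by group] at h2
      rw [hXY, Subgroup.mem_bot, mul_inv_eq_one] at h1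
      calc v * a = (a * v * a⁻¹) * a := by rw [← h1]
        _ = a * v := by group
    have hbot : N = ⊥ := by
      refine eq_bot_of_trivial hV g hA inf_le_left ?_ fun n hn w hw => ?_
      · intro x hx
        rw [Subgroup.mem_normalizer_iff_map_conj_eq]
        refine Subgroup.eq_of_le_of_card_ge ?_ (Subgroup.card_map_of_injective (MulAut.conj x).injective).ge
        rintro _ ⟨n, hn, rfl⟩
        refine ⟨mul_mem (mul_mem hx hn.1) (inv_mem (s := A) hx), Subgroup.mem_centralizer_iff.2 fun w hw => ?_⟩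
        rw [MonoidHom.coe_coe, MulAut.conj_apply]
        have hw' : x⁻¹ * w * x⁻¹⁻¹ ∈ X := (Subgroup.mem_normalizer_iff.1 (self_norm A (inv_mem hx)) w).1 hw
        have h3 := Subgroup.mem_centralizer_iff.1 hn.2 _ hw'
        calc w * (x * n * x⁻¹) = x * ((x⁻¹ * w * x⁻¹⁻¹) * n) * x⁻¹ := by group
          _ = x * n * x⁻¹ * w := by rw [h3]; group
      · rw [← Subgroup.mem_centralizer_iff.1 hn.2 w hw, mul_inv_cancel_right]
    exact Subgroup.mem_bot.1 (hbot.le haN)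

theorem main (hV : Cfsg.IsElementaryAbelian p V) : ∀ (n : ℕ) (E A B : Subgroup G), Nat.card E ≤ n →
    Grp p V E → Sub E A → Sub E B → Irr V A → Irr V B → ¬ ⁅V, A⁆ ≤ ⁅V, B⁆ → ¬ ⁅V, B⁆ ≤ ⁅V, A⁆ →
    2 < Nat.card A → 2 < Nat.card B → ⁅A, B⁆ = ⊥ ∧ ⁅V, A⁆ ⊓ ⁅V, B⁆ = ⊥ := by
  intro n
  induction n with
  | zero => intro E _ _ h; exact absurd h (by simp [Nat.card_pos.ne'])
  | succ n ih =>
    intro E A B hn g hA hB hirrA hirrB hAB hBA hcA hcB
    classical
    have sym : (B ≤ Subgroup.normalizer ((⁅V, A⁆ : Subgroup G) : Set G) ∨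
        A ≤ Subgroup.normalizer ((⁅V, B⁆ : Subgroup G) : Set G)) →
        ⁅A, B⁆ = ⊥ ∧ ⁅V, A⁆ ⊓ ⁅V, B⁆ = ⊥ := by
      rintro (h | h)
      · exact done_of_norm hV g hA hB hirrB hBA h
      · obtain ⟨h1, h2⟩ := done_of_norm hV g hB hA hirrA hAB h
        exact ⟨by rw [Subgroup.commutator_comm]; exact h1, by rw [inf_comm]; exact h2⟩
    by_contra hcon
    have hnot := fun h => hcon (sym h)
    rw [imp_false, not_or] at hnot
    -- the induction hypothesis on conjugates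
    have hconj : ∀ C : Subgroup G, Sub E C → Irr V C → C ≠ E → 2 < Nat.card C → ∀ e ∈ E,
        (⁅V, C⁆ : Subgroup G).map (MulAut.conj e).toMonoidHom ≠ ⁅V, C⁆ →
        ⁅C, C.map (MulAut.conj e).toMonoidHom⁆ = ⊥ ∧
          ⁅V, C⁆ ⊓ (⁅V, C⁆ : Subgroup G).map (MulAut.conj e).toMonoidHom = ⊥ := by
      intro C hC hirrC hCE hcC e he hne
      have hC' := hC.conj he
      have hLsub := hC.sup hC'
      obtain ⟨N, hNn, hCN, hNlt⟩ := hC.2.exists_normal_and_le_and_lt_top_of_ne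
        (fun h => hCE (le_antisymm hC.1 (Subgroup.subgroupOf_eq_top.1 h)))
      have hLN : C ⊔ C.map (MulAut.conj e).toMonoidHom ≤ N.map E.subtype := by
        refine sup_le (fun c hc => ⟨⟨c, hC.1 hc⟩, hCN hc, rfl⟩) ?_
        rintro _ ⟨c, hc, rfl⟩
        exact ⟨(⟨e, he⟩ : E) * ⟨c, hC.1 hc⟩ * (⟨e, he⟩ : E)⁻¹,
          hNn.conj_mem (⟨c, hC.1 hc⟩ : E) (hCN hc) (⟨e, he⟩ : E), rfl⟩
      have hlt : Nat.card (C ⊔ C.map (MulAut.conj e).toMonoidHom : Subgroup G) < Nat.card E := by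
        refine lt_of_le_of_lt (Subgroup.card_le_of_le hLN) ?_
        rw [Subgroup.card_map_of_injective E.subtype_injective]
        exact lt_of_le_of_ne (Subgroup.card_le_card_group N) fun h => hNlt.ne
          (Subgroup.card_eq_iff_eq_top N |>.1 h)
      have hcard : Nat.card (⁅V, C.map (MulAut.conj e).toMonoidHom⁆ : Subgroup G) =
          Nat.card (⁅V, C⁆ : Subgroup G) := by
        rw [map_mod g he, Subgroup.card_map_of_injective (MulAut.conj e).injective]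
      obtain ⟨h1, h2⟩ := ih _ C (C.map (MulAut.conj e).toMonoidHom) (by omega) (g.restrict hLsub)
        (hC.of_le hLsub.1 le_sup_left) (hC'.of_le hLsub.1 le_sup_right) hirrC (irr_conj g he hirrC)
        (fun h => hne (by rw [← map_mod g he]; exact (Subgroup.eq_of_le_of_card_ge h hcard.le).symm))
        (fun h => hne (by rw [← map_mod g he]; exact Subgroup.eq_of_le_of_card_ge h hcard.ge))
        hcC (by rw [Subgroup.card_map_of_injective (MulAut.conj e).injective]; exact hcC)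
      exact ⟨h1, by rwa [map_mod g he] at h2⟩
    have hAE : A ≠ E := fun h => hBA (Subgroup.commutator_mono le_rfl (h ▸ hB.1))
    have hBE : B ≠ E := fun h => hAB (Subgroup.commutator_mono le_rfl (h ▸ hA.1))
    have hA1 : A ≠ ⊥ := fun h => by rw [h, Subgroup.card_bot] at hcA; omega
    have hB1 : B ≠ ⊥ := fun h => by rw [h, Subgroup.card_bot] at hcB; omega
    obtain ⟨e, he, hne⟩ : ∃ e ∈ B, (⁅V, A⁆ : Subgroup G).map (MulAut.conj e).toMonoidHom ≠ ⁅V, A⁆ := by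
      obtain ⟨e, he, hne⟩ := SetLike.not_le_iff_exists.1 hnot.1
      exact ⟨e, he, fun h => hne (Subgroup.mem_normalizer_iff_map_conj_eq.2 h)⟩
    obtain ⟨a, ha, hna⟩ : ∃ a ∈ A, (⁅V, B⁆ : Subgroup G).map (MulAut.conj a).toMonoidHom ≠ ⁅V, B⁆ := by
      obtain ⟨a, ha, hna⟩ := SetLike.not_le_iff_exists.1 hnot.2
      exact ⟨a, ha, fun h => hna (Subgroup.mem_normalizer_iff_map_conj_eq.2 h)⟩
    obtain ⟨hle1, hA'⟩ := moved hV g hA hB hirrA hA1 (hconj A hA hirrA hAE hcA) he hne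
    obtain ⟨hle2, hB'⟩ := moved hV g hB hA hirrB hB1 (hconj B hB hirrB hBE hcB) ha hna
    obtain ⟨-, -, -, hstab⟩ := hA' hle2
    obtain ⟨-, -, horb, -⟩ := hB' hle1
    -- `x ↦ x [V,B] x⁻¹` is injective on `A` with at most two values
    have hX : (⁅V, A⁆ : Subgroup G) ≠ ⊥ := fun h => hAB (h ▸ bot_le)
    let F : A → Bool := fun x =>
      decide ((⁅V, B⁆ : Subgroup G).map (MulAut.conj (x : G)).toMonoidHom = ⁅V, B⁆)
    have hF : Function.Injective F := by
      intro x y hxy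
      have heq : (⁅V, B⁆ : Subgroup G).map (MulAut.conj (x : G)).toMonoidHom =
          (⁅V, B⁆ : Subgroup G).map (MulAut.conj (y : G)).toMonoidHom := by
        rcases horb hX x x.2 with h | h <;> rcases horb hX y y.2 with h' | h'
        · rw [h, h']
        · have := (decide_eq_decide.1 hxy).1 h
          rw [h, this]
        · have := (decide_eq_decide.1 hxy).2 h'
          rw [h', this]
        · rw [h, h']
      have hm := hstab ((y : G)⁻¹ * x) (mul_mem (inv_mem y.2) x.2) ?_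
      · exact Subtype.ext (inv_mul_eq_one.1 hm).symm
      · calc (⁅V, B⁆ : Subgroup G).map (MulAut.conj ((y : G)⁻¹ * x)).toMonoidHom
            = ((⁅V, B⁆ : Subgroup G).map (MulAut.conj (x : G)).toMonoidHom).map
                (MulAut.conj (y : G)⁻¹).toMonoidHom := by
              rw [Subgroup.map_map]; congr 1; ext z; simp [mul_assoc]
          _ = ((⁅V, B⁆ : Subgroup G).map (MulAut.conj (y : G)).toMonoidHom).map
                (MulAut.conj (y : G)⁻¹).toMonoidHom := by rw [heq]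
          _ = ⁅V, B⁆ := by
              rw [Subgroup.map_map]
              conv_rhs => rw [← Subgroup.map_id (⁅V, B⁆ : Subgroup G)]
              congr 1; ext z; simp [mul_assoc]
    have := Nat.card_le_card_of_injective F hF
    rw [Nat.card_eq_fintype_card (α := Bool), Fintype.card_bool] at this
    omega

end Cfsg.Agent.FF.SubPair
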